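import Cfsg.Agent.H29.SARep
import Cfsg.Agent.H27.Zsigmondy

/-! STD-A: the job FG. -/

set_option autoImplicit false
set_option linter.unusedSectionVars false

namespace H29.SA

open H64.SG (O2 Syl Cz Cs Ns cjs Is2 Inv2 fx)
open Matrix H57 H67.SA Subgroup

variable {n : ℕ} {K : Type} [Field K] [Finite K] [CharP K 2]

theorem slDiag_scalar (a : Kˣ) : slDiag (Fin (n + 1)) K (GeneralLinearGroup.scalar _ a) = 1 :=
  MulEquiv.ext fun s => Matrix.SpecialLinearGroup.toGL_injective (by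
    rw [toGL_slDiag, H58.scalar_comm, mul_inv_cancel_right, MulAut.one_apply])

theorem det_glField (σ : RingAut K) (g : GL (Fin (n + 1)) K) :
    (GeneralLinearGroup.det (glField _ K σ g) : K) = σ (GeneralLinearGroup.det g : K) := by
  rw [GeneralLinearGroup.val_det_apply, GeneralLinearGroup.val_det_apply, glField_coe]
  exact (RingHom.map_det (σ : K →+* K) g.1).symm

theorem ft (σ : RingAut K) (y : SLn n K) (h1 : σ ≠ 1) (h2 : σ * σ = 1)
    (hc : y * slField _ K σ y ∈ center (SLn n K)) :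
    ∃ h : SLn n K, MulAut.conj y * slField _ K σ = MulAut.conj h * slField _ K σ * (MulAut.conj h)⁻¹ := by
  obtain ⟨ζ, hζ, e⟩ := Matrix.SpecialLinearGroup.mem_center_iff.1 hc
  have z0 : ζ ≠ 0 := fun h => by simp [h] at hζ
  obtain ⟨μ, hμ⟩ := H58.exists_unit_sq (Units.mk0 ζ z0)
  set Y := SpecialLinearGroup.toGL y with hY
  have e1 : Y * glField _ K σ Y = GeneralLinearGroup.scalar _ (μ * μ) := by
    rw [← hμ, hY, ← toGL_slField, ← map_mul]
    exact Units.ext e.symm
  have e2 : Units.map (σ : K →* K) μ = μ := by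
    have a := congrArg (glField _ K σ) e1
    rw [map_mul, ← MulAut.mul_apply, ← map_mul, h2, map_one, MulAut.one_apply, glField_scalar,
      eq_inv_mul_of_mul_eq e1, mul_assoc, H58.scalar_comm, inv_mul_cancel_left, map_mul (Units.map _)] at a
    have b := congrArg Units.val (scalar_injective a)
    have c : (σ μ * (μ⁻¹ : Kˣ)) * (σ μ * (μ⁻¹ : Kˣ)) = (1 : K) := by
      have b' : (μ : K) * μ = σ μ * σ μ := b
      rw [mul_mul_mul_comm, ← b', mul_mul_mul_comm, Units.mul_inv, mul_one]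
    exact Units.ext ((Units.mul_inv_eq_one).1 (H58.eq_one_of_mul_self c))
  obtain ⟨h0, e3⟩ := exists_eq_mul_glField_inv σ (orderOf_eq_prime (p := 2) (by rw [sq, h2]) h1) two_pos
    (g := GeneralLinearGroup.scalar _ μ⁻¹ * Y) (by
      rw [gnorm_succ, gnorm_succ, gnorm_zero, map_one, mul_one, map_mul, glField_scalar, map_inv (Units.map (σ : K →* K)), e2,
        H58.scalar_comm _ (glField _ K σ Y), mul_assoc, ← mul_assoc Y, e1, ← map_mul, ← map_mul]
      simp)
  have e4 : (μ : K) ^ (n + 1) = 1 := H58.eq_one_of_mul_self (by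
    rw [← mul_pow, ← Units.val_mul, ← hμ]; simpa using hζ)
  have e5 : σ (GeneralLinearGroup.det h0 : K) = GeneralLinearGroup.det h0 := by
    have a := congrArg GeneralLinearGroup.det e3
    have b : GeneralLinearGroup.det (GeneralLinearGroup.scalar (Fin (n + 1)) μ⁻¹ * Y) = 1 := by
      apply Units.ext
      rw [map_mul, Units.val_mul, GeneralLinearGroup.val_det_apply, GeneralLinearGroup.val_det_apply]
      simp [hY, e4]
    rw [b, map_mul, map_inv, eq_comm, mul_inv_eq_one] at a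
    rw [← det_glField, ← a]
  obtain ⟨s, hs⟩ : h0 * diagAt 0 (GeneralLinearGroup.det h0)⁻¹ ∈
      (SpecialLinearGroup.toGL : SLn n K →* GL (Fin (n + 1)) K).range := by
    rw [range_toGL_eq_ker_det]
    simp [MonoidHom.mem_ker, det_diagAt]
  have e6 : glField _ K σ (diagAt (0 : Fin (n + 1)) (GeneralLinearGroup.det h0)⁻¹) =
      diagAt 0 (GeneralLinearGroup.det h0)⁻¹ := by
    apply Units.ext
    rw [glField_coe, diagAt_coe, diagonal_map (map_zero σ)]
    congr 1
    ext i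
    by_cases hi : i = 0
    · rw [hi, Function.update_self, Units.val_inv_eq_inv_val, map_inv₀, e5]
    · rw [Function.update_of_ne hi, Pi.one_apply, map_one]
  refine ⟨s, ?_⟩
  rw [← slDiag_toGL', ← slDiag_toGL', hs, ← map_inv (slDiag _ K), mul_assoc, slField_mul_slDiag, ← mul_assoc, ← map_mul,
    map_inv (glField _ K σ), map_mul (glField _ K σ), e6, _root_.mul_inv_rev, mul_assoc h0, mul_inv_cancel_left, ← e3, map_mul,
    slDiag_scalar, one_mul]

theorem not_dvd_sl {F : Type} [Field F] [Finite F] {r k : ℕ} (hr : r.Prime) (hk : n + 1 < k)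
    (h1 : r ∣ Nat.card F ^ k - 1) (h2 : ∀ i, 0 < i → i < k → ¬ r ∣ Nat.card F ^ i - 1) :
    ¬ r ∣ Nat.card (SLn n F) := by
  cases nonempty_fintype F
  rw [card_sl_fin_eq, ← Nat.card_eq_fintype_card, hr.dvd_mul, not_or]
  refine ⟨fun h => ?_, fun h => ?_⟩
  · have a := (hr.dvd_of_dvd_pow h).trans (dvd_pow_self _ (by omega : k ≠ 0))
    have b := (Nat.dvd_sub_iff_right (Nat.one_le_pow _ _ Nat.card_pos) a).1 h1
    exact hr.one_lt.ne' (Nat.dvd_one.1 b)
  · obtain ⟨i, hi, h⟩ := (Prime.dvd_finsetProd_iff hr.prime _).1 h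
    exact h2 _ (by omega) (by have := Finset.mem_range.1 hi; omega) h

theorem dvd_relIndex {N : Subgroup (SLn n K)} {r : ℕ} (hr : r.Prime) (h1 : r ∣ Nat.card N)
    (h2 : ¬ r ∣ Nat.card K - 1) : r ∣ (center (SLn n K)).relIndex N := by
  rw [← ((center (SLn n K)).subgroupOf N).card_mul_index, hr.dvd_mul] at h1
  refine h1.resolve_left fun h => h2 ?_
  rw [← inf_subgroupOf_right, Nat.card_congr (subgroupOfEquivOfLe inf_le_right).toEquiv] at h
  have := h.trans (card_dvd_of_le inf_le_left)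
  rw [card_center_sl] at this
  exact this.trans (Nat.gcd_dvd_right _ _)

theorem dvd_card_SU [Fintype K] {q j m r : ℕ} (hK : Fintype.card K = q ^ 2) (hr : r.Prime) (hj : Odd j) (h3 : 3 ≤ j)
    (hm : j ≤ m) (h1 : r ∣ q ^ (2 * j) - 1) (h2 : ∀ i, 0 < i → i < 2 * j → ¬ r ∣ q ^ i - 1) :
    r ∣ Nat.card (Cfsg.SU m K q) := by
  have a : r ∣ q ^ j + 1 := by
    rw [mul_comm, pow_mul, ← one_pow 2, Nat.sq_sub_sq, hr.dvd_mul] at h1
    exact h1.resolve_right (h2 j (by omega) (by omega))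
  have b : r ∣ (q + 1) * Nat.card (Cfsg.SU m K q) := by
    rw [H59.card_SU hK (by omega), H59.ordGU]
    refine Dvd.dvd.mul_left (a.trans ?_) _
    obtain ⟨i, rfl⟩ : ∃ i, j = i + 1 := ⟨j - 1, by omega⟩
    have := Finset.dvd_prod_of_mem (fun i => if Even i then q ^ (i + 1) + 1 else q ^ (i + 1) - 1)
      (Finset.mem_range.2 (by omega : i < m))
    rwa [if_pos (Nat.not_odd_iff_even.1 (Nat.odd_add_one.1 hj))] at this
  refine (hr.dvd_mul.1 b).resolve_left fun c => h2 2 two_pos (by omega) ?_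
  rw [← one_pow 2, Nat.sq_sub_sq]
  exact c.mul_right _

theorem jobFG : JobFG := by
  intro n F _ _ _ hp K _ _ _ hK
  refine ⟨ft, fun β h2 hg => ?_⟩
  have hn := hp.two_le
  have q1 : 1 < Nat.card F := one_lt_card
  rcases rep hn h2 (fun e => hg (by rw [e]; rfl)) with ⟨σ, -, -, e⟩ | ⟨J, rfl⟩ | ⟨σ, s1, s2, e⟩
  · exact absurd (by rw [out_of_isConj e, out_slField hn]) hg
  · rcases Nat.even_or_odd (n + 1) with hm | ⟨l, hl⟩
    · exact .inl (big_gr_even h2 hm)
    obtain ⟨e⟩ := (fx_gr h2).1 l hl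
    obtain ⟨r, r1, r2, r3⟩ := H27.zsigmondy (Nat.card F) (4 * l) q1 (by omega) (by omega) (by omega)
    refine .inr ⟨_, le_rfl, (comm_eq_of_equiv e (H54.sp_commutator_eq_top (.inr (.inr ?_)))).ge, r, r1,
      dvd_relIndex r1 ?_ (hK ▸ r3 2 two_pos (by omega)), not_dvd_sl r1 (by omega) r2 r3⟩
    · rw [hK]; nlinarith
    · obtain ⟨k, rfl⟩ : ∃ k, l = k + 1 := ⟨l - 1, by omega⟩
      rw [Nat.card_congr e.toEquiv, H54.card_sp, Fintype.card_fin, H54.spOrder_succ, hK, ← pow_mul,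
        show 2 * (2 * (k + 1)) = 4 * (k + 1) by ring]
      exact r2.mul_right _
  · cases nonempty_fintype K
    obtain ⟨q, hq, ⟨e'⟩⟩ := fx_gf s1 s2 e
    obtain rfl : q = Nat.card F := by
      rw [← Nat.card_eq_fintype_card, hK] at hq
      exact (Nat.pow_left_injective two_ne_zero hq).symm
    obtain ⟨j, j1, j2, j3⟩ : ∃ j, Odd j ∧ n ≤ j ∧ j ≤ n + 1 := by
      rcases Nat.even_or_odd n with h | h
      exacts [⟨n + 1, h.add_one, by omega, le_rfl⟩, ⟨n, h, le_rfl, by omega⟩]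
    have j4 : 3 ≤ j := by obtain ⟨k, rfl⟩ := j1; omega
    have := hp.four
    obtain ⟨r, r1, r2, r3⟩ := H27.zsigmondy (Nat.card F) (2 * j) q1 (by omega) (by omega) (by omega)
    refine .inr ⟨_, le_rfl, (comm_eq_of_equiv e' (H59.commutator_SU hq (by omega) (by omega))).ge, r, r1,
      dvd_relIndex r1 ?_ (hK ▸ r3 2 two_pos (by omega)), not_dvd_sl r1 (by omega) r2 r3⟩
    rw [Nat.card_congr e'.toEquiv]
    exact dvd_card_SU hq r1 j1 j4 j3 r2 r3

end H29.SA
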