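import Cfsg.Agent.H29.S4NZ

/-! SP4 tower: job P2. -/

set_option autoImplicit false

namespace H29.S4
open _root_.Cfsg H92 H93 Subgroup H87.S4

universe v

theorem two_lines {N : Type*} [AddCommGroup N] {Γ : Subgroup (A N)} {Y : Set N} {L : Bool → Set N}
    (hL : ∀ b v, v ∈ L b → v ∈ L (!b) → v = 0) (ne : ∀ b, ∃ v ∈ L b, v ≠ 0) (sub : ∀ b v, v ∈ L b → v ∈ Y)
    (P : ∀ g ∈ Γ, g ∉ stb Y → ∃ b, ∀ v, (v ∈ Y ∧ g v ∈ Y) ↔ v ∈ L b) {u : A N} (hu : u ∈ Γ)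
    (fu : ∀ v ∈ Y, u v = v) (hu' : ∀ g ∈ Γ, g * u * g⁻¹ ∈ stb Y → g ∈ stb Y) {g₀ : A N} (h₀ : g₀ ∈ Γ)
    (n₀ : g₀ ∉ stb Y) : ∃ b, ∀ v, v ∈ L b ↔ ∀ g ∈ Γ, g v ∈ Y := by
  have eq : ∀ b c v, v ∈ L b → v ∈ L c → v ≠ 0 → b = c := fun b c v h1 h2 h3 => by
    by_contra e
    rw [show c = !b by revert e; cases b <;> cases c <;> simp] at h2
    exact h3 (hL b v h1 h2)
  obtain ⟨b, P₁⟩ := P g₀ h₀ n₀
  refine ⟨b, fun v => ⟨fun hv g hg => ?_, fun h => (P₁ v).1 ⟨h 1 Γ.one_mem, h g₀ h₀⟩⟩⟩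
  by_cases n₂ : g ∈ stb Y
  · exact (n₂ v).1 ((P₁ v).2 hv).1
  obtain ⟨b', P₂⟩ := P g hg n₂
  by_cases hb : b' = b
  · exact ((P₂ v).2 (hb ▸ hv)).2
  exfalso
  obtain ⟨a, Pa⟩ := P _ (Γ.inv_mem h₀) fun h => n₀ ((stb Y).inv_mem_iff.1 h)
  obtain ⟨e, he, e0⟩ := ne b
  have key : ∀ h ∈ Γ, (∀ v ∈ Y, h v = g v) → ∀ v ∈ L (!a), h (g₀⁻¹ v) ∈ Y := fun h hh eh => by
    have h1 : h e ∉ Y := fun h1 => hb (eq _ _ e ((P₂ e).1 ⟨((P₁ e).2 he).1, eh e ((P₁ e).2 he).1 ▸ h1⟩) he e0)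
    obtain ⟨c, Pc⟩ := P (h * g₀⁻¹) (Γ.mul_mem hh (Γ.inv_mem h₀)) fun h2 => h1 (by
      simpa [A.mul_apply] using (h2 (g₀ e)).1 ((P₁ e).2 he).2)
    have : c = !a := by
      by_contra h3
      rw [show c = a by revert h3; cases a <;> cases c <;> simp] at Pc
      exact h1 (by
        simpa [A.mul_apply] using ((Pc (g₀ e)).2 ((Pa _).1 ⟨((P₁ e).2 he).2, by simpa using ((P₁ e).2 he).1⟩)).2)
    exact fun v hv => ((Pc v).2 (this ▸ hv)).2
  obtain ⟨c, Pc⟩ := P (g * u * g⁻¹) (Γ.mul_mem (Γ.mul_mem hg hu) (Γ.inv_mem hg)) fun h => n₂ (hu' g hg h)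
  obtain ⟨d, Pd⟩ := P _ (Γ.inv_mem hg) fun h => n₂ ((stb Y).inv_mem_iff.1 h)
  obtain ⟨e', he', e0'⟩ := ne d
  have hdc : d = c := eq _ _ e' he' ((Pc e').1 ⟨((Pd e').2 he').1, by
    rw [A.mul_apply, A.mul_apply, fu _ ((Pd e').2 he').2, A.self_inv]; exact ((Pd e').2 he').1⟩) e0'
  obtain ⟨w, hw, w0⟩ := ne (!a)
  have h1 := key g hg (fun _ _ => rfl) w hw
  have h2 := key (g * u) (Γ.mul_mem hg hu) (fun v hv => by rw [A.mul_apply, fu v hv]) w hw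
  have h3 := ((Pd _).2 (hdc ▸ (Pc _).1 ⟨h1, by simpa [A.mul_apply] using h2⟩)).2
  rw [A.inv_self] at h3
  exact w0 (hL a w ((Pa w).1 ⟨sub _ _ hw, h3⟩) hw)

theorem ker_card {K : Type*} [AddCommGroup K] [Finite K] (f : K × K →+ K) :
    Nat.card K ≤ Nat.card f.ker ∧ (Function.Surjective f ↔ Nat.card f.ker ≤ Nat.card K) := by
  have h1 : Nat.card f.range * Nat.card f.ker = Nat.card K * Nat.card K := by
    rw [← Nat.card_prod K K, AddSubgroup.card_eq_card_quotient_mul_card_addSubgroup f.ker,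
      Nat.card_congr (QuotientAddGroup.quotientKerEquivRange f).toEquiv]
  have h2 : Nat.card f.range ≤ Nat.card K := AddSubgroup.card_le_card_addGroup _
  have h3 : 0 < Nat.card K := Nat.card_pos
  refine ⟨by nlinarith, fun h => ?_, fun h => ?_⟩
  · rw [AddMonoidHom.range_eq_top.2 h, AddSubgroup.card_top] at h1
    exact (Nat.eq_of_mul_eq_mul_left h3 h1).le
  · exact AddMonoidHom.range_eq_top.1 (AddSubgroup.eq_top_of_le_card _ (by nlinarith))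

variable {K : Type v} [Field K]

/-- the first coordinate of `g` on `Y` -/
def fY (g : A (K × K × K)) : K × K →+ K :=
  AddMonoidHom.mk' (fun v => (g (0, v)).1) fun a b => by
    rw [← Prod.fst_add, ← map_add]; congr 2; exact Prod.ext (add_zero _).symm rfl

theorem card_ker_fY (g : A (K × K × K)) : Nat.card (fY g).ker = {v : K × K × K | v.1 = 0 ∧ (g v).1 = 0}.ncard := by
  rw [show {v : K × K × K | v.1 = 0 ∧ (g v).1 = 0} = (fun x => (0, x)) '' ((fY g).ker : Set (K × K)) from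
    Set.ext fun ⟨a, x⟩ => ⟨fun h => by
      obtain rfl : a = 0 := h.1
      exact ⟨x, h.2, rfl⟩, by rintro ⟨y, h, e⟩; rw [← e]; exact ⟨rfl, h⟩⟩,
    Set.ncard_image_of_injective _ (Prod.mk_right_injective 0)]
  rfl

/-- the two lines -/
def Ln (b : Bool) : Set (K × K × K) := {v | v.1 = 0 ∧ if b then v.2.1 = 0 else v.2.2 = 0}

theorem jobP2 : JobP2.{v} := by
  intro K _ _ _ θ Γ U h
  haveI : Fact (Nat.Prime 2) := ⟨Nat.prime_two⟩
  let Y : Set (K × K × K) := (Ys : AddSubgroup (K × K × K))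
  have mY : ∀ {v}, v ∈ Y ↔ v.1 = 0 := mem_Ys
  have hfix : ∀ u ∈ U, u ≠ 1 → ∀ v, u v = v ↔ v ∈ Y := fun u hu h1 ⟨x, y, w⟩ => by
    obtain ⟨t, ht⟩ := (h.hU u).1 hu
    have t0 : t ≠ 0 := fun e => h1 (LinearEquiv.ext fun ⟨x, y, w⟩ => by simp [ht, e, D2.th0 h, A.one_apply])
    rw [ht, mY]
    exact ⟨fun e => by simpa [t0] using (Prod.ext_iff.1 (Prod.ext_iff.1 e).2).1, fun e => by
      simp [show x = 0 from e, D2.th0' h]⟩
  have mvu : ∀ u ∈ U, u ≠ 1 → ∀ g ∈ Γ, g * u * g⁻¹ ∈ stb Y → g ∈ stb Y := fun u hu h1 g hg e =>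
    (stb Y).inv_mem_iff.1 (fix_of_syl h.syl hfix (Γ.inv_mem hg) hu h1 (by rwa [inv_inv]))
  have key : ∀ g ∈ Γ, g ∉ stb Y → (∀ k ∈ Γ, k ∉ stb Y → Nat.card (fY k).ker ≤ Nat.card (fY g).ker) →
      ∀ z t, t ≠ 0 → fY g⁻¹ z ≠ 0 → fY g (t * fY g⁻¹ z, θ t (fY g⁻¹ z)) ≠ 0 := fun g hg n mx z t t0 x0 e => by
    obtain ⟨u, hu, eu⟩ := D2.ex h t
    have u1 : u ≠ 1 := fun e => by
      have := eu 1 0 0
      rw [e, A.one_apply] at this
      exact t0 (by simpa using (Prod.ext_iff.1 (Prod.ext_iff.1 this).2).1.symm)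
    have := mx _ (Γ.mul_mem (Γ.mul_mem hg (h.syl.le hu)) (Γ.inv_mem hg)) fun e => n (mvu u hu u1 g hg e)
    rw [card_ker_fY, card_ker_fY, ← Set.ncard_image_of_injective {v : K × K × K | v.1 = 0 ∧ (g v).1 = 0} g.injective]
      at this
    refine this.not_gt (Set.ncard_lt_ncard ⟨?_, fun hs => x0 ?_⟩)
    · rintro _ ⟨v, hv, rfl⟩
      exact ⟨hv.2, by rw [A.mul_apply, A.mul_apply, A.inv_self, (hfix u hu u1 v).2 (mY.2 hv.1)]; exact hv.2⟩
    · obtain ⟨v, hv, e'⟩ := @hs (0, z) ⟨rfl, by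
        have e1 : u (g⁻¹ (0, z)) = g⁻¹ (0, z) + (0, t * fY g⁻¹ z, θ t (fY g⁻¹ z)) :=
          (eu _ _ _).trans (Prod.ext (add_zero _).symm rfl)
        rw [A.mul_apply, A.mul_apply, e1, map_add, A.self_inv, Prod.fst_add, zero_add]
        exact e⟩
      show (g⁻¹ (0, z)).1 = 0
      rw [← e', A.inv_self]; exact hv.1
  obtain ⟨g₀, h₀, n₀⟩ := h.mv
  rw [py_iff] at n₀
  have ex : ∀ g, g ∉ stb Y → ∃ z, fY g z ≠ 0 := fun g n => by
    by_contra! e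
    exact n (py_iff.1 fun y w => e (y, w))
  have le : ∀ g ∈ Γ, g ∉ stb Y → Nat.card (fY g).ker ≤ Nat.card K := by
    obtain ⟨g, ⟨hg, n⟩, mx⟩ := Set.exists_max_image {g | g ∈ Γ ∧ g ∉ stb Y} (fun g => Nat.card (fY g).ker)
      (Set.toFinite _) ⟨g₀, h₀, n₀⟩
    refine fun k hk nk => (mx k ⟨hk, nk⟩).trans ((ker_card _).2.1 ?_)
    obtain ⟨z, hz⟩ := ex g⁻¹ fun e => n ((stb Y).inv_mem_iff.1 e)
    have inj : Function.Injective fun t => fY g (t * fY g⁻¹ z, θ t (fY g⁻¹ z)) := fun a b e => by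
      by_contra hab
      refine key g hg n (fun k hk nk => mx k ⟨hk, nk⟩) z (a + b) (fun e => hab (CharTwo.add_eq_zero.1 e)) hz ?_
      rw [← CharTwo.add_eq_zero, ← map_add] at e
      rw [← e]; congr 1
      rcases h.th with e | e <;> simp only [e, CharTwo.add_sq, add_mul, Prod.mk_add_mk]
    exact fun y => (Finite.injective_iff_surjective.1 inj y).elim fun t e => ⟨_, e⟩
  have P : ∀ g ∈ Γ, g ∉ stb Y → ∃ b, ∀ v, (v ∈ Y ∧ g v ∈ Y) ↔ v ∈ Ln b := fun g hg n => by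
    have av : ∀ y w, fY g (y, w) = 0 → y = 0 ∨ w = 0 := fun y w e => by
      by_contra! h0
      obtain ⟨t, x, t0, x0, e1, e2⟩ : ∃ t x, t ≠ 0 ∧ x ≠ 0 ∧ t * x = y ∧ θ t x = w := by
        obtain ⟨h1, h2⟩ := h0
        rcases h.th with e | e
        · exact ⟨w / y, y * y / w, by simp [h1, h2], by simp [h1, h2], by field_simp, by rw [e]; field_simp⟩
        · exact ⟨y * y / w, w / y, by simp [h1, h2], by simp [h1, h2], by field_simp, by rw [e]; field_simp⟩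
      obtain ⟨z, rfl⟩ := (ker_card _).2.2 (le _ (Γ.inv_mem hg) fun e => n ((stb Y).inv_mem_iff.1 e)) x
      exact key g hg n (fun k hk nk => (le k hk nk).trans (ker_card _).1) z t t0 x0 (by rw [e1, e2, e])
    obtain ⟨b, hb⟩ : ∃ b, {v : K × K × K | v.1 = 0 ∧ (g v).1 = 0} ⊆ Ln b := by
      by_cases e : ∀ y w, fY g (y, w) = 0 → y = 0
      · exact ⟨true, fun ⟨x, y, w⟩ hv => ⟨hv.1, e y w (by obtain rfl : x = 0 := hv.1; exact hv.2)⟩⟩
      · push Not at e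
        obtain ⟨y, w, e, y0⟩ := e
        obtain rfl := (av y w e).resolve_left y0
        refine ⟨false, fun ⟨x, y', w'⟩ hv => ⟨hv.1, ?_⟩⟩
        obtain rfl : x = 0 := hv.1
        by_contra w0
        obtain rfl := (av y' w' hv.2).resolve_right w0
        have := av (y + 0) (0 + w') (by rw [← Prod.mk_add_mk, map_add, e, zero_add]; exact hv.2)
        simp only [add_zero, zero_add, y0, false_or] at this
        exact w0 this
    have c : (Ln (K := K) b).ncard = Nat.card K := by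
      rw [← Set.ncard_univ]
      cases b
      · rw [← Set.ncard_image_of_injective _ (f := fun y : K => ((0, y, 0) : K × K × K)) fun a b e => by simpa using e]
        congr 1; ext ⟨x, y, w⟩; simp [Ln, eq_comm]
      · rw [← Set.ncard_image_of_injective _ (f := fun y : K => ((0, 0, y) : K × K × K)) fun a b e => by simpa using e]
        congr 1; ext ⟨x, y, w⟩; simp [Ln, eq_comm]
    have := Set.eq_of_subset_of_ncard_le hb (by rw [c, ← card_ker_fY]; exact (ker_card _).1)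
    exact ⟨b, fun v => by rw [← this, mY, mY]; rfl⟩
  obtain ⟨u, hu, eu⟩ := D2.ex h 1
  have u1 : u ≠ 1 := fun e => by
    have := eu 1 0 0
    rw [e, A.one_apply] at this
    simp at this
  obtain ⟨b, hb⟩ := two_lines (L := Ln) (fun b ⟨x, y, w⟩ => by cases b <;> simp +contextual [Ln])
    (fun b => by cases b; exacts [⟨(0, 1, 0), by simp [Ln], by simp⟩, ⟨(0, 0, 1), by simp [Ln], by simp⟩])
    (fun b v hv => mY.2 hv.1) P (h.syl.le hu) (fun v => (hfix u hu u1 v).2) (mvu u hu u1) h₀ n₀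
  have inv : ∀ g ∈ Γ, ∀ v ∈ Ln b, g v ∈ Ln b := fun g hg v hv =>
    (hb _).2 fun k hk => (hb v).1 hv _ (Γ.mul_mem hk hg)
  cases b
  · refine .inr ⟨fun g hg y => ?_, fun y w e => ((hb (0, y, w)).2 fun g hg => mY.2 (e g hg)).2⟩
    have := inv g hg (0, y, 0) ⟨rfl, rfl⟩
    exact ⟨_, Prod.ext this.1 (Prod.ext rfl this.2)⟩
  · refine .inl ⟨fun g hg y => ?_, fun y w e => ((hb (0, y, w)).2 fun g hg => mY.2 (e g hg)).2⟩
    have := inv g hg (0, 0, y) ⟨rfl, rfl⟩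
    exact ⟨_, Prod.ext this.1 (Prod.ext this.2 rfl)⟩

end H29.S4
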