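/- S3275, chapter C+KM, slot Fs: a 2-subgroup centralising `O₃(H)` and the components. -/
import Cfsg.Agent.H57.DPCSpec
import Cfsg.Agent.H14.FStar
import Cfsg.Agent.H2.Fitting
import Cfsg.Agent.H98.Core

set_option autoImplicit false

open Subgroup Cfsg H48.DP
open scoped commutatorElement

namespace H29.DPF

universe u

theorem jobFs : H57.DPC.JobFs.{u} := fun G _ _ nd H E h2 hE hp h3 hK => by
  have : Fact (Nat.Prime 2) := ⟨Nat.prime_two⟩
  have cm : ∀ N : Subgroup H, E ≤ Ce (N.map H.subtype) → N ≤ Ce (E.subgroupOf H) :=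
    fun N h n hn e he => Subtype.ext (h he n ⟨n, hn, rfl⟩).symm
  have hF : E.subgroupOf H ≤ fittingSubgroup H := by
    refine H14.le_fitting_of_commutator_fstar (commutator_eq_bot_iff_le_centralizer.2
      (le_centralizer_iff.2 (sSup_le fun L hL => cm L (hK _ ⟨map_subtype_le _, ?_⟩))))
      (commutator_eq_bot_iff_le_centralizer.2 (le_centralizer_iff.2 ?_))
    · rwa [subgroupOf, comap_map_eq_self_of_injective H.subtype_injective]
    · rw [H2.fitting_eq_iSup_pCore]
      refine iSup_le fun p => cm _ ?_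
      obtain ⟨p, pp⟩ := p
      change E ≤ Ce (pCoreOf p H)
      rcases (show p = 2 ∨ p = 3 ∨ 3 < p by have := pp.two_le; omega) with rfl | rfl | h
      · rw [show pCoreOf 2 H = ⊥ from h2]
        exact fun e _ n hn => by rw [mem_bot.1 hn, one_mul, mul_one]
      · exact h3
      · exact nd.inv p pp h E _ hp (H98.isPGroup_pCoreOf H)
          (H98.le_normalizer_pCoreOf_of_le hE)
  have := map_mono (f := H.subtype) (H2.le_pCore_of_le_fitting (hp.comap_subtype (K := H)) hF)
  rw [show (pCore 2 H).map H.subtype = ⊥ from h2] at this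
  change map H.subtype (E.subgroupOf H) ≤ ⊥ at this
  rwa [subgroupOf_map_subtype, inf_eq_left.2 hE, le_bot_iff] at this

end H29.DPF
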