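import Cfsg.Agent.H14.CBSpec
import Cfsg.Agent.H14.FEKit

/-! Tower CB (S1308), job `Pl1`: a second neighbour perpendicular to `T`. -/

set_option autoImplicit false

open Cfsg Subgroup MulAction H14 H98 H1.Gold H31.S2 H14.GC H14.FE H14.NF H14.CB
open scoped commutatorElement

namespace H29.CBP

universe u

variable {G : Type u} [Group G]

theorem el_cen {E : Subgroup G} (h : El E) : E ≤ cen E := fun a ha b hb => by
  have e := h _ (E.mul_mem hb ha)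
  calc b * a = (b * a)⁻¹ := (inv_eq_of_mul_eq_one_right e).symm
    _ = a * b := by
      rw [mul_inv_rev, inv_eq_of_mul_eq_one_right (h a ha), inv_eq_of_mul_eq_one_right (h b hb)]

theorem el_two {E : Subgroup G} (h : El E) : IsPGroup 2 E :=
  fun a => ⟨1, Subtype.ext (by simpa [pow_two] using h a a.2)⟩

theorem pt_el {Q E Q₁ T : Subgroup G} (h : TG Q E) (p : Pt Q E Q₁ T) : El T := by
  obtain ⟨g, -, rfl⟩ := p
  rintro _ ⟨a, ha, rfl⟩
  rw [← map_mul, h.el a ha, map_one]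

theorem pt_le {Q E Q₁ T : Subgroup G} (h : TG Q E) (p : Pt Q E Q₁ T) : T ≤ Q₁ := by
  obtain ⟨g, rfl, rfl⟩ := p
  exact cj_mono g h.le

theorem pt_card {Q E Q₁ T : Subgroup G} (p : Pt Q E Q₁ T) : Nat.card T = Nat.card E := by
  obtain ⟨g, -, rfl⟩ := p
  exact card_cj g E

theorem conj_eq {a y : G} (h : a * a = 1) : y * a * y⁻¹ = a * ⁅a, y⁆ := by
  rw [commutatorElement_def, inv_eq_of_mul_eq_one_right h, ← mul_assoc, ← mul_assoc, ← mul_assoc, h,
    one_mul]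

theorem comm_mul {a e p : G} (h : e * p = p * e) : ⁅a * e, p⁆ = ⁅a, p⁆ := by
  simp only [commutatorElement_def]
  calc a * e * p * (a * e)⁻¹ * p⁻¹ = a * (e * p) * e⁻¹ * a⁻¹ * p⁻¹ := by group
    _ = a * p * a⁻¹ * p⁻¹ := by rw [h]; group

theorem jobPl1 : JPl1.{u} := by
  intro _ perp tr G _ _ Q E h fu Q₁ T P Q₂ T₂ L1 L2 c n as0
  have eT := pt_el h L1.col.p2
  have eT2 := pt_el h L2.col.p2
  have ET : E ≤ cen T := le_centralizer_iff.1 L1.col.comm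
  have EP : ∀ e ∈ E, ∀ p ∈ P, e * p = p * e := fun e he p hp => (L1.pg.le hp).2 e he
  have YE : E ⊔ T₂ ≤ cen E := sup_le (el_cen h.el) L2.col.comm
  have YT : E ⊔ T₂ ≤ cen T := sup_le ET c
  obtain ⟨P', pg', -, cmY, fu'⟩ := fu Q₁ T Q E (h.sym _ _ _ _ L1.col) (E ⊔ T₂) YT
    ((el_two h.el).to_sup_of_normal_right' (el_two eT2)
      (le_normalizer_of_le_centralizer (le_centralizer_iff.1 L2.col.comm)))
    fun e he y hy => by
      rw [commutatorElement_eq_one_iff_mul_comm.2 (YE hy e he)]; exact one_mem T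
  obtain ⟨u, uP, uT⟩ := SetLike.exists_of_lt pg'.lt
  obtain ⟨y0, y0P, y0E⟩ := SetLike.exists_of_lt L1.pg.lt
  have nd : ∀ t ∈ T, t ∈ cen P → t = 1 := fun t ht hc => by
    by_contra e
    exact L1.pg.nd y0 y0P y0E t ht e (commutatorElement_eq_one_iff_mul_comm.2 (hc y0 y0P).symm)
  obtain ⟨d, dE, d2⟩ := four_exists_inv h.four
  obtain ⟨t0, t0T, t01⟩ : ∃ t ∈ T, t ≠ 1 := by
    obtain ⟨g, -, rfl⟩ := L1.col.p2
    exact ⟨_, conj_mem_cj dE, fun e => d2.1 (by simpa [conj_eq_one_iff] using e)⟩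
  obtain ⟨a, aT, ha⟩ := as0 t0 t0T
  have a1 : a ≠ 1 := fun e => t01 (nd t0 t0T (by simpa [e] using ha))
  have sT := cmY a (mem_sup_right aT) u uP
  obtain ⟨r, rE, hr⟩ := (tr G Q E h Q₁ T P P' L1 pg' u uP uT).1 _ sT
  obtain ⟨y, yP, hy⟩ := L2.fu a aT a1 r rE
  have form : ∀ b ∈ cj y T₂, ∃ a' ∈ T₂, ∃ e ∈ E, b = a' * e := by
    rintro _ ⟨a', ha', rfl⟩
    exact ⟨a', ha', _, L2.pg.cm a' ha' y yP, conj_eq (eT2 a' ha')⟩
  have l1 : cj y T₂ ≤ E ⊔ T₂ := fun b hb => by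
    obtain ⟨a', ha', e, he, rfl⟩ := form b hb
    exact mul_mem (mem_sup_right ha') (mem_sup_left he)
  have l2 : T₂ ≤ E ⊔ cj y T₂ := fun a' ha' => by
    rw [show a' = y * a' * y⁻¹ * ⁅a', y⁆⁻¹ by rw [conj_eq (eT2 a' ha'), mul_inv_cancel_right]]
    exact mul_mem (mem_sup_right (conj_mem_cj ha')) (mem_sup_left (inv_mem (L2.pg.cm a' ha' y yP)))
  have p3 : Pt Q E (cj y Q₂) (cj y T₂) := by
    obtain ⟨g, rfl, rfl⟩ := L2.col.p2
    exact ⟨y * g, cj_cj _ _ _, cj_cj _ _ _⟩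
  have ar : a * r ∈ cj y T₂ := by rw [← hy, ← conj_eq (eT2 a aT)]; exact conj_mem_cj aT
  have ar1 : a * r ≠ 1 := by
    rw [← hy, ← conj_eq (eT2 a aT)]
    exact fun e => a1 (by simpa [conj_eq_one_iff] using e)
  have un : u ∈ nor (cj y Q₂) := by
    obtain ⟨g, e, -⟩ := id p3
    rw [e]
    refine h.cen_le g (a * r) (e ▸ pt_le h p3 ar) ⟨ar1, pt_el h p3 _ ar⟩ (mem_cen1.2 ?_)
    rw [← mul_inv_eq_iff_eq_mul]
    calc u * (a * r) * u⁻¹ = (u * a * u⁻¹) * (u * r * u⁻¹) := by group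
      _ = a * (⁅a, u⁆ * r) * ⁅a, u⁆ := by
        rw [conj_eq (eT2 a aT), conj_eq (h.el r rE), hr]; simp only [mul_assoc]
      _ = a * r * (⁅a, u⁆ * ⁅a, u⁆) := by rw [ET rE _ sT]; simp only [mul_assoc]
      _ = a * r := by rw [eT _ sT, mul_one]
  have cm3 : Cm3 (cj y T₂) P E := fun b hb p hp => by
    obtain ⟨a', ha', e, he, rfl⟩ := form b hb
    rw [comm_mul (EP e he p hp)]
    exact L2.pg.cm a' ha' p hp
  have col : Col Q E Q E (cj y Q₂) (cj y T₂) := by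
    refine ⟨L1.col.p1, p3, fun e => L2.col.ne ?_, l1.trans YE, y0, L1.pg.le y0P, ?_,
      fun t ht => cm3 t ht y0 y0P, fun e => L2.pg.nd y0 y0P y0E a aT a1 ?_⟩
    · have := congrArg (cj y⁻¹) e
      rwa [cj_cj, inv_mul_cancel, cj_one,
        cj_eq_self_iff.2 (le_normalizer (Q.inv_mem (L1.pg.le yP).1))] at this
    · obtain ⟨k, hk⟩ := L1.pg.two ⟨y0, y0P⟩
      exact ⟨k, congrArg Subtype.val hk⟩
    · rw [← comm_mul (EP r rE y0 y0P)]
      exact commutatorElement_eq_one_iff_mul_comm.2 (e _ ar)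
  have nQ : cen E ≤ nor Q := fun g hg => by
    have := h.cen_le 1 d (by rw [cj_one]; exact h.le dE) d2 (mem_cen1.2 (hg d dE).symm)
    rwa [cj_one] at this
  have ne : cj y Q₂ ≠ Q₁ := fun e => n (l2.trans (sup_le_sup_left (le_sup_right.trans
    (h.exc _ _ _ _ L1.col (T ⊔ cj y T₂) (sup_le (le_inf (pt_le h L1.col.p2) (L1.col.comm.trans nQ))
      (le_inf (e ▸ pt_le h p3) (col.comm.trans nQ)))
      ((el_two eT).to_sup_of_normal_right' (el_two (pt_el h p3))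
        (le_normalizer_of_le_centralizer (le_centralizer_iff.1 (l1.trans YT)))) le_sup_left)) E))
  refine ⟨cj y Q₂, cj y T₂, P', ⟨col, ne, l1.trans YT, cm3, pg', fu', perp G Q E h Q₁ T _ _ P'
    L1.col.p2 p3 ne.symm (l1.trans YT) pg'.le pg'.two (fun b hb => cmY b (l1 hb))
    (Or.inl ⟨u, uP, uT, un⟩), fun b hb => ?_⟩, l1, l2⟩
  choose f f1 f2 using as0
  have bij : Function.Bijective (fun t : T => (⟨f t t.2, f1 t t.2⟩ : T₂)) := by
    refine (Nat.bijective_iff_injective_and_card _).2 ⟨fun t t' e => Subtype.ext ?_,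
      (pt_card L1.col.p2).trans (pt_card L2.col.p2).symm⟩
    have e' : f t t.2 = f t' t'.2 := congrArg Subtype.val e
    refine mul_inv_eq_one.1 (nd _ (T.mul_mem t.2 (T.inv_mem t'.2)) ?_)
    rw [show (t : G) * (t' : G)⁻¹ = t * f t t.2 * (t' * f t' t'.2)⁻¹ by rw [e']; group]
    exact mul_mem (f2 t t.2) (inv_mem (f2 t' t'.2))
  obtain ⟨a', ha', e, he, rfl⟩ := form b hb
  obtain ⟨t, ht⟩ := bij.2 ⟨a', ha'⟩
  refine ⟨t, t.2, ?_⟩
  rw [← mul_assoc, ← show f t t.2 = a' from congrArg Subtype.val ht]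
  exact mul_mem (f2 t t.2) fun p hp => (EP e he p hp).symm

end H29.CBP
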