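import Cfsg.Agent.H86.SPGDef
import Cfsg.Agent.H86.SPIKit

/-! STD-SP (row S3129), type I fusion, slot `LS`: a translation acts linearly on `R`. -/

set_option autoImplicit false
set_option linter.unusedSectionVars false

namespace H29.SPGL

open H67.UA hiding Par
open H67.SP H86.SPG
open H86.SPI (hf_comm hf_self hf_smul_right' q0_add q0_smul ok EE_comm)

universe u

variable {n : ℕ} {F : Type} [Field F] [StarRing F] [TrivialStar F] [CharP F 2] [Finite F] [Par n F]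
  {G : Type u} [Group G] {e : XU n F →* G} {t : G} {δ : F} {r : Vn n F → F → F → G} {h : G}

theorem rc {y y' : Vn n F} {a a' b b' : F} (h1 : y = y') (h2 : a = a') (h3 : b = b') :
    r y a b = r y' a' b' := by rw [h1, h2, h3]

theorem cj_mul (g x y : G) : g * (x * y) * g⁻¹ = (g * x * g⁻¹) * (g * y * g⁻¹) := by group

theorem two (a : F) : a + a = 0 := CharTwo.add_self_eq_zero a

/-- The action on `Q` is given by a function of `hf y z`. -/
theorem ex_lam (fh : FH n F) (rm : RM e t δ r h) (nk : NK e t r) {g : G} {z : Vn n F}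
    (o : Ov e t g z) (z0 : z ≠ 0) :
    ∃ lam : F → F, ∀ y a, Hy y → g * r y a 0 * g⁻¹ = r y (a + lam (hf y z)) 0 := by
  choose Y hY hZ using fh.sep1 z o.hz z0
  choose D hD using fun x => nk.q g z (Y x) o (hY x)
  refine ⟨D, fun y a hy => ?_⟩
  have h1 := hy_add hy (hY (hf y z))
  have h2 : ∀ c, r y c 0 = r (Y (hf y z)) c 0 * r (y + Y (hf y z)) 0 0 := fun c => by
    rw [rm.mul _ _ _ _ _ _ (hY _) h1]
    refine rc ?_ (add_zero _).symm (add_zero _).symm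
    rw [add_comm y, ← add_assoc, v_add_self, zero_add]
  rw [h2, h2, cj_mul, hD, nk.perp g z _ 0 o h1 (by rw [hf_add_left, hZ, two])]

/-- The action on `R`. -/
theorem ex_act (fh : FH n F) (rm : RM e t δ r h) (nk : NK e t r) {g : G} {z : Vn n F}
    (o : Ov e t g z) (z0 : z ≠ 0) :
    ∃ mu lam ga : F → F, lam 0 = 0 ∧ ga 0 = 0 ∧ mu 0 = 0 ∧ ∀ y a b, Hy y →
      g * r y a b * g⁻¹ = r (y + mu b • z) (a + lam (hf y z) + ga b) b := by
  obtain ⟨lam, hl⟩ := ex_lam fh rm nk o z0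
  choose mu ga hm using fun b => nk.gz g z b o z0
  have h0 := hm 0
  rw [nk.one, mul_one, mul_inv_cancel, ← nk.one] at h0
  obtain ⟨h1, h2, -⟩ := nk.rinj _ _ _ _ _ _ hy_zero (hy_smul _ o.hz) h0
  refine ⟨mu, lam, ga, ?_, h2.symm, (smul_eq_zero.1 h1.symm).resolve_right z0, fun y a b hy => ?_⟩
  · have h3 := hl 0 0 hy_zero
    rw [nk.one, mul_one, mul_inv_cancel, ← nk.one] at h3
    simpa using (nk.rinj _ _ _ _ _ _ hy_zero hy_zero h3).2.1.symm
  · have h3 : r y a b = r y a 0 * r 0 0 b := by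
      rw [rm.mul _ _ _ _ _ _ hy hy_zero]; simp
    rw [h3, cj_mul, hl y a hy, hm, rm.mul _ _ _ _ _ _ hy (hy_smul _ o.hz), zero_add]

theorem h_inv (rm : RM e t δ r h) : h⁻¹ = h := inv_eq_of_mul_eq_one_right rm.hh

theorem cj_h (rm : RM e t δ r h) (g x : G) :
    h * g * h⁻¹ * x * (h * g * h⁻¹)⁻¹ = h * (g * (h * x * h⁻¹) * g⁻¹) * h⁻¹ := by
  simp only [mul_inv_rev, h_inv rm, mul_assoc]

theorem t_r (rm : RM e t δ r h) {y : Vn n F} (hy : Hy y) (a : F) : t * r y a 0 = r y a 0 * t := by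
  have := rm.tc y a 0 hy
  rwa [add_zero, mul_inv_eq_iff_eq_mul] at this

/-- The image of `t` under `h g h⁻¹`. -/
theorem img_t (fh : FH n F) (aw : AW e t) (rm : RM e t δ r h) (nk : NK e t r) {g : G} {z : Vn n F}
    (o : Ov e t g z) {y : Vn n F} {a : F} (hy : Hy y)
    (k : g * e (TT (ev 1)) * g⁻¹ = r y a 0 * e (TT (ev 1))) :
    ∃ a', h * g * h⁻¹ * t * (h * g * h⁻¹)⁻¹ = t * r (z + y + a' • ev 1) a' 0 := by
  obtain ⟨c, hc⟩ := o.tr
  rw [nk.qr z c o.hz] at hc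
  have hw := hy_add o.hz hy
  have h1 : h * (t * e (TT (ev 1))) * h⁻¹ = t := by
    rw [← rm.ht, h_inv rm, ← mul_assoc, ← mul_assoc, rm.hh, one_mul, mul_assoc, rm.hh, mul_one]
  have h2 : h * g * h⁻¹ * t * (h * g * h⁻¹)⁻¹ =
      r (z + y + (rt (q0 z + c) + a + δ * hf (z + y) (ev 1)) • ev 1) (rt (q0 z + c) + a)
        (hf (z + y) (ev 1)) * t := by
    rw [cj_h rm, rm.ht, cj_mul g, hc, k, mul_assoc t, ← mul_assoc (r z _ 0),
      rm.mul _ _ _ _ _ _ o.hz hy, add_zero, ← mul_assoc t, t_r rm hw, mul_assoc _ t, cj_mul, h1,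
      rm.hr _ _ _ hw, zero_add]
  generalize rt (q0 z + c) + a = a' at h2
  have hw' : ∀ d : F, Hy (z + y + d • ev 1) := fun d => hy_add hw (hy_smul _ fh.e1.1)
  have h3 : hf (z + y) (ev 1) = 0 := by
    have h4 : ∀ x : G, x * t * x⁻¹ * (x * t * x⁻¹) = 1 := fun x => by
      rw [← cj_mul, aw.tt, mul_one, mul_inv_cancel]
    have h5 := h4 (h * g * h⁻¹)
    have h6 : ∀ x : G, x * t * (x * t) = x * (t * x * t⁻¹) := fun x => by
      rw [inv_eq_of_mul_eq_one_right aw.tt]; simp only [mul_assoc]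
    rw [h2, h6, rm.tc _ _ _ (hw' _), rm.mul _ _ _ _ _ _ (hw' _) (hw' _), ← nk.one] at h5
    have h7 := (nk.rinj _ _ _ _ _ _ (hy_add (hw' _) (hw' _)) hy_zero h5).2.1
    rwa [← add_assoc, two, zero_add] at h7
  refine ⟨a', ?_⟩
  rw [h2, h3, mul_zero, add_zero, t_r rm (hw' _)]

/-- `h g h⁻¹` centralises `X_l`. -/
theorem img_z (fh : FH n F) (rm : RM e t δ r h) (nk : NK e t r) {g : G} {z : Vn n F}
    (o : Ov e t g z) (h1 : hf z (ev 1) = 0) (a : F) :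
    h * g * h⁻¹ * r 0 a 0 * (h * g * h⁻¹)⁻¹ = r 0 a 0 := by
  have h2 : h * r 0 a 0 * h⁻¹ = r (a • ev 1) a 0 := by
    rw [rm.hr _ _ _ hy_zero]; simp
  rw [cj_h rm, h2, nk.perp g z _ a o (hy_smul _ fh.e1.1)
    (by rw [hf_smul_left, hf_comm, h1, mul_zero]), ← h2, h_inv rm]
  simp only [← mul_assoc, rm.hh, one_mul]
  rw [mul_assoc, rm.hh, mul_one]

/-- The action of `h g h⁻¹` on `Q`. -/
theorem img_q (fh : FH n F) (rm : RM e t δ r h) {g : G} {z : Vn n F} (hz : Hy z)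
    (h1 : hf z (ev 1) = 0) {mu lam ga : F → F} (k : ∀ y a b, Hy y →
      g * r y a b * g⁻¹ = r (y + mu b • z) (a + lam (hf y z) + ga b) b) {y : Vn n F} (hy : Hy y) :
    h * g * h⁻¹ * r y 0 0 * (h * g * h⁻¹)⁻¹ =
      r (y + mu (hf y (ev 1)) • z + (lam (hf y z) + ga (hf y (ev 1))) • ev 1)
        (lam (hf y z) + ga (hf y (ev 1))) 0 := by
  have h2 : ∀ d : F, Hy (y + d • ev 1) := fun d => hy_add hy (hy_smul _ fh.e1.1)
  rw [cj_h rm, rm.hr _ _ _ hy, k _ _ _ (h2 _), rm.hr _ _ _ (hy_add (h2 _) (hy_smul _ hz))]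
  simp only [hf_add_left, hf_smul_left, hf_self, h1, hf_comm (ev 1) z, mul_zero, add_zero, zero_add]
  refine rc ?_ rfl (two _)
  ext i
  simp only [Pi.add_apply, Pi.smul_apply, smul_eq_mul]
  linear_combination (δ * hf y (ev 1) * (ev 1 : Vn n F) i) * two0 F

/-- An element that centralises `X_l` and maps `t` into `t Q`. -/
theorem struct [FV n F] [FW n F] (fh : FH n F) (aw : AW e t) (rm : RM e t δ r h) (nk : NK e t r)
    (ex : EX e t) {m : G} {w : Vn n F} {a : F} (hw : Hy w) (h1 : m * t * m⁻¹ = t * r w a 0)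
    (h2 : ∀ c, m * r 0 c 0 * m⁻¹ = r 0 c 0) : ∃ s ∈ SS n F, ∀ y, Hy y → ∃ d,
      m * r y 0 0 * m⁻¹ = r (ac s y) (rt (q0 (ac s y) + q0 y) + d) 0 ∧
        (hf (ac s y) w = 0 → d = 0) := by
  obtain ⟨k, o⟩ := ex w hw
  obtain ⟨c, hc⟩ := o.tr
  rw [nk.qr w c hw] at hc
  generalize rt (q0 w + c) = a1 at hc
  have hk : ∀ c, k * r 0 c 0 * k⁻¹ = r 0 c 0 := fun c => nk.perp k w 0 c o hy_zero (by simp)
  have hρ : ∀ y a b c, Hy y → r 0 0 c * r y a b * (r 0 0 c)⁻¹ = r y a b := fun y a b c hy => by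
    rw [mul_inv_eq_iff_eq_mul, rm.mul _ _ _ _ _ _ hy_zero hy, rm.mul _ _ _ _ _ _ hy hy_zero]
    exact rc (add_comm _ _) (add_comm _ _) (add_comm _ _)
  obtain ⟨m0, hm⟩ : ∃ m0, m = k * (r 0 0 (a1 + a) * m0) :=
    ⟨(r 0 0 (a1 + a))⁻¹ * k⁻¹ * m, by group⟩
  have cjm : ∀ x, m * x * m⁻¹ =
      k * (r 0 0 (a1 + a) * (m0 * x * m0⁻¹) * (r 0 0 (a1 + a))⁻¹) * k⁻¹ := fun x => by
    rw [hm]; group
  have can : ∀ x x', m * x * m⁻¹ = k * (r 0 0 (a1 + a) * x' * (r 0 0 (a1 + a))⁻¹) * k⁻¹ →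
      m0 * x * m0⁻¹ = x' := fun x x' q => by
    rw [cjm] at q
    simpa only [mul_left_inj, mul_right_inj] using q
  have h3 : m0 * t = t * m0 := by
    rw [← mul_inv_eq_iff_eq_mul]
    refine can _ _ ?_
    rw [h1, nk.rt' _ _ _ hy_zero, cj_mul, hc, hk, mul_assoc, rm.mul _ _ _ _ _ _ hw hy_zero]
    congr 1
    exact rc (add_zero _).symm (by rw [← add_assoc, two, zero_add]) (add_zero _).symm
  have h4 : ∀ c, m0 * e (Tc c (ev 0)) = e (Tc c (ev 0)) * m0 := fun c => by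
    rw [← mul_inv_eq_iff_eq_mul, nk.qr 0 c hy_zero]
    exact can _ _ (by rw [h2, hρ _ _ _ _ hy_zero, hk])
  obtain ⟨p, hp, h5⟩ := aw.p m0 h3 h4
  obtain ⟨u, hu, s, hs, rfl⟩ := FW.ps p hp
  obtain ⟨x, d, hx, rfl⟩ := (FV.mem_QQ u).1 hu
  refine ⟨s, hs, fun y hy => ?_⟩
  have hsy := fh.ss s hs y hy
  have h6 : e (EE (ev 0) x d * s) * r y 0 0 * (e (EE (ev 0) x d * s))⁻¹ =
      r (ac s y) (rt (q0 (ac s y) + q0 y)) 0 := by
    rw [rm.q y 0 hy, ← map_inv, ← map_mul, ← map_mul, ← nk.qr _ _ hsy]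
    congr 1
    rw [mul_inv_rev, ← mul_assoc, mul_assoc _ s, mul_assoc _ (s * _), EE_conj (ok hy.1 _),
      show ac s (ev 0) = ev 0 from hs.1, EE_comm hx.1 hsy.1, mul_inv_cancel_right]
    simp
  have h7 : m0 * r y 0 0 * m0⁻¹ = r (ac s y) (rt (q0 (ac s y) + q0 y)) 0 := by
    rcases h5 with q | q
    · rw [q, h6]
    · rw [q, mul_inv_rev, ← mul_assoc, mul_assoc t, mul_assoc t, h6, t_r rm hsy,
        mul_inv_cancel_right]
  obtain ⟨d, hd⟩ := nk.q k w _ o hsy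
  refine ⟨d, by rw [cjm, h7, hρ _ _ _ _ hsy, hd], fun q => ?_⟩
  have h8 := hd 0
  rw [nk.perp k w _ 0 o hsy q] at h8
  simpa using (nk.rinj _ _ _ _ _ _ hsy hsy h8).2.1.symm

theorem li_eq {z v : Vn n F} (li : Li z v) {a b a' b' : F} (q : a • z + b • v = a' • z + b' • v) :
    a = a' ∧ b = b' := by
  have := li (a - a') (b - b') (by
    rw [sub_smul, sub_smul, sub_add_sub_comm, q, sub_self])
  exact ⟨sub_eq_zero.1 this.1, sub_eq_zero.1 this.2⟩

/-- The three functions are linear. -/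
theorem linear (fh : FH n F) {z : Vn n F} (hz : Hy z) (h1 : hf z (ev 1) = 0) (li : Li z (ev 1))
    {mu lam ga : F → F} (l0 : lam 0 = 0) (g0 : ga 0 = 0) (m0 : mu 0 = 0) {s : XU n F}
    (k : ∀ y, Hy y → ac s y =
      y + mu (hf y (ev 1)) • z + (lam (hf y z) + ga (hf y (ev 1))) • ev 1) :
    ∀ c, mu c = mu 1 * c ∧ lam c = mu 1 * c ∧ ga c = ga 1 * c := by
  obtain ⟨y, hy, y1, y2⟩ := fh.sep2 z (ev 1) hz fh.e1.1 li 0 1
  obtain ⟨x, hx, x1, x2⟩ := fh.sep2 z (ev 1) hz fh.e1.1 li 1 0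
  have h2 := hf_ac s y x
  rw [k y hy, k x hx, y1, y2, x1, x2, l0, g0, m0] at h2
  simp only [hf_add_left, hf_add_right, hf_smul_left, hf_smul_right', hf_self, h1, y2,
    hf_comm z x, hf_comm (ev 1) x, x1, x2, zero_smul, add_zero, mul_zero, mul_one] at h2
  have h3 : lam 1 = mu 1 := by linear_combination h2 - mu 1 * two0 F
  intro c
  have h4 := k _ (hy_smul c hy)
  have h5 := k _ (hy_smul c hx)
  rw [ac_smul, k y hy, hf_smul_left, hf_smul_left, y1, y2, smul_add, smul_add, add_assoc, add_assoc,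
    add_right_inj, smul_smul, smul_smul, mul_zero, mul_one, l0, zero_add, zero_add] at h4
  rw [ac_smul, k x hx, hf_smul_left, hf_smul_left, x1, x2, smul_add, smul_add, add_assoc, add_assoc,
    add_right_inj, smul_smul, smul_smul, mul_zero, mul_one, g0, add_zero, add_zero] at h5
  refine ⟨?_, ?_, ?_⟩
  · rw [← (li_eq li h4).1, mul_comm]
  · rw [← (li_eq li h5).2, h3, mul_comm]
  · rw [← (li_eq li h4).2, mul_comm]

theorem sq_self (h2 : Nat.card F = 2) (x : F) : x ^ 2 = x := by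
  have := Fintype.ofFinite F
  rw [← h2, Nat.card_eq_fintype_card]
  exact FiniteField.pow_card x

/-- The vector of `h g h⁻¹` for `q = 2`. -/
theorem vec (fh : FH n F) (h2 : Nat.card F = 2) {z w : Vn n F} (hz : Hy z) (hw : Hy w)
    (h1 : hf z (ev 1) = 0) (li : Li z (ev 1)) {γ : F} {s : XU n F} (hs : s ∈ SS n F)
    (k : ∀ y, Hy y → ac s y = y + hf y (ev 1) • z + (hf y z + γ * hf y (ev 1)) • ev 1)
    (k' : ∀ y, Hy y → hf (ac s y) w = 0 →
      hf y z + γ * hf y (ev 1) = rt (q0 (ac s y) + q0 y)) : w = z + q0 z • ev 1 := by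
  have hz1 : Hy (z + q0 z • ev 1) := hy_add hz (hy_smul _ fh.e1.1)
  have h3 : ∀ y, Hy y → hf (ac s y) w = 0 → hf y (z + q0 z • ev 1) = 0 := fun y hy q => by
    have h4 := congrArg (· ^ 2) (k' y hy q)
    simp only [rt_sq] at h4
    rw [k y hy, sq_self h2] at h4
    simp only [q0_add, q0_smul, fh.e1.2.2, hf_add_left, hf_smul_left, hf_smul_right', h1,
      mul_zero, add_zero, sq_self h2] at h4
    rw [hf_add_right, hf_smul_right']
    have h5 := sq_self h2 (hf y (ev 1))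
    linear_combination h4 + γ * h5 + (q0 y + hf y (ev 1) * q0 z + hf y (ev 1) * hf y z) * two0 F
  have h4 : ac s (z + q0 z • ev 1) = z + q0 z • ev 1 := by
    rw [k _ hz1]
    simp [hf_add_left, hf_smul_left, hf_self, h1, hf_comm (ev 1) z]
  have h5 : ∀ v, Hy v → hf v w = 0 → hf v (z + q0 z • ev 1) = 0 := fun v hv q => by
    have h6 := h3 (ac s⁻¹ v) (fh.ss _ (inv_mem hs) v hv) (by rw [ac_ac_inv, q])
    rwa [← hf_ac s, ac_ac_inv, h4] at h6
  have h6 : z + q0 z • ev 1 ≠ 0 := fun q => one_ne_zero (li 1 (q0 z) (by rw [one_smul, q])).1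
  have h7 : w ≠ 0 := fun q => h6 (fh.nd _ hz1 fun v hv => h5 v hv (by simp [q]))
  obtain ⟨a, ha⟩ := fh.du1 _ w hz1 hw h7 h5
  have h8 : a ≠ 0 := fun q => h6 (by rw [ha, q, zero_smul])
  have h9 : a = 1 := mul_left_cancel₀ h8 (by rw [← pow_two, sq_self h2, mul_one])
  rw [ha, h9, one_smul]

theorem jobLS : JobLS.{u} := by
  intro n F _ _ _ _ _ _ G _ _ e t b fc fh aw δ r h rm nk ex g z o h1 li
  have z0 : z ≠ 0 := fun q => one_ne_zero (li 1 0 (by simp [q])).1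
  obtain ⟨mu, lam, ga, l0, g0, m0, k⟩ := ex_act fh rm nk o z0
  obtain ⟨y0, a0, hy0, k0⟩ := nk.tv g z (ev 1) o fh.e1.1 (by rw [hf_comm, h1])
  obtain ⟨a', k1⟩ := img_t fh aw rm nk o hy0 k0
  have hw : Hy (z + y0 + a' • ev 1) := hy_add (hy_add o.hz hy0) (hy_smul _ fh.e1.1)
  obtain ⟨s, hs, k2⟩ := struct fh aw rm nk ex hw k1 (img_z fh rm nk o h1)
  have k3 : ∀ y, Hy y → ac s y =
      y + mu (hf y (ev 1)) • z + (lam (hf y z) + ga (hf y (ev 1))) • ev 1 ∧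
      (hf (ac s y) (z + y0 + a' • ev 1) = 0 →
        lam (hf y z) + ga (hf y (ev 1)) = rt (q0 (ac s y) + q0 y)) := fun y hy => by
    obtain ⟨d, k4, k5⟩ := k2 y hy
    rw [img_q fh rm o.hz h1 k hy] at k4
    obtain ⟨k6, k7, -⟩ := nk.rinj _ _ _ _ _ _
      (hy_add (hy_add hy (hy_smul _ o.hz)) (hy_smul _ fh.e1.1)) (fh.ss s hs y hy) k4
    exact ⟨k6.symm, fun q => by rw [k7, k5 q, add_zero]⟩
  have k4 := linear fh o.hz h1 li l0 g0 m0 fun y hy => (k3 y hy).1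
  refine ⟨mu 1, ga 1, fun y a b hy => ?_, fun h2 l1 => ?_⟩
  · rw [k y a b hy, (k4 b).1, (k4 _).2.1, (k4 b).2.2]
  · have k5 : ∀ c, mu c = c ∧ lam c = c := fun c => by
      have := k4 c
      rw [l1, one_mul] at this
      exact ⟨this.1, this.2.1⟩
    have k6 := vec (γ := ga 1) fh h2 o.hz hw h1 li hs
      (fun y hy => by rw [(k3 y hy).1, (k5 _).1, (k5 _).2, (k4 _).2.2])
      (fun y hy q => by rw [← (k3 y hy).2 q, (k5 _).2, (k4 (hf y (ev 1))).2.2])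
    refine ⟨a0, a' + q0 z, ?_⟩
    rw [k0]
    congr 2
    rw [add_assoc, add_right_inj] at k6
    rw [add_smul, ← k6, add_comm y0, ← add_assoc, v_add_self, zero_add]

end H29.SPGL
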