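/- Groups of order `21 · 2 ^ b` with a self-centralizing element of order `7`. -/
import Cfsg.Agent.H45.MSpec2
import Cfsg.Agent.H45.Four
import Cfsg.Agent.H98.Core
import Cfsg.Agent.H83.OrdA

set_option autoImplicit false

namespace H29.S7
open Subgroup _root_.Cfsg H96.CG H98

universe u
variable {G : Type u} [Group G] [Finite G]

omit [Finite G] in
theorem eq_one_of_mem {p k : ℕ} (hp : p.Prime) {N : Subgroup G} (hN : ¬ p ∣ Nat.card N) {x : G}
    (hx : x ∈ N) (h : x ^ p ^ k = 1) : x = 1 := by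
  have h1 : orderOf x ∣ p ^ k := orderOf_dvd_of_pow_eq_one h
  have h2 : orderOf x ∣ Nat.card N := N.orderOf_dvd_natCard hx
  have h3 : (p ^ k).Coprime (Nat.card N) := ((Nat.Prime.coprime_iff_not_dvd hp).2 hN).pow_left k
  exact orderOf_eq_one_iff.1 (Nat.eq_one_of_dvd_coprimes h3 h1 h2)

/-- two `p`-elements congruent modulo a normal `p'`-subgroup are conjugate under it -/
theorem lift_conj {p : ℕ} [hp : Fact p.Prime] {N : Subgroup G} [N.Normal]
    (hN : ¬ p ∣ Nat.card N) {y w : G} (hy : y ^ p = 1) (hw : w ^ p = 1) (h : y⁻¹ * w ∈ N) :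
    ∃ n ∈ N, n * w * n⁻¹ = y := by
  have py : IsPGroup p (zpowers y) := isPGroup_zpowers (k := 1) (by rw [pow_one, hy])
  have pw : IsPGroup p (zpowers w) := isPGroup_zpowers (k := 1) (by rw [pow_one, hw])
  have hn : zpowers y ≤ normalizer (N : Set G) := by rw [normalizer_eq_top]; exact le_top
  have hS : IsSyl p (zpowers y) (zpowers y ⊔ N) := by
    obtain ⟨T, hT, hyT⟩ := exists_isSyl_le (H := zpowers y ⊔ N) py le_sup_left
    suffices T = zpowers y by rw [this] at hT; exact hT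
    refine le_antisymm (fun q hq => ?_) hyT
    obtain ⟨a, ha, n, hnN, rfl⟩ := (mem_sup_left_norm hn).1 (hT.le hq)
    have : n ∈ T := by simpa using T.mul_mem (T.inv_mem (hyT ha)) hq
    obtain ⟨k, hk⟩ := isPGroup_iff_forall.1 hT.isPGroup n this
    rw [eq_one_of_mem hp.out hN hnN hk, mul_one]; exact ha
  have hwK : zpowers w ≤ zpowers y ⊔ N := by
    rw [zpowers_le]
    have : w = y * (y⁻¹ * w) := by group
    rw [this]; exact mul_mem_sup (mem_zpowers y) h
  obtain ⟨g, hg, hle⟩ := hS.exists_cj_le pw hwK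
  obtain ⟨a, ha, n, hnN, rfl⟩ := (mem_sup_left_norm hn).1 hg
  refine ⟨n, hnN, ?_⟩
  have h1 : a * n * w * (a * n)⁻¹ ∈ zpowers y := hle (conj_mem_cj (mem_zpowers w))
  have h2 : n * w * n⁻¹ ∈ zpowers y := by
    have := mul_mem (mul_mem (inv_mem ha) h1) ha
    rwa [show a⁻¹ * (a * n * w * (a * n)⁻¹) * a = n * w * n⁻¹ by group] at this
  have h3 : y⁻¹ * (n * w * n⁻¹) ∈ N := by
    have : y⁻¹ * (n * w * n⁻¹) = (y⁻¹ * n * y⁻¹⁻¹) * (y⁻¹ * w) * n⁻¹ := by group
    rw [this]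
    exact mul_mem (mul_mem (Normal.conj_mem inferInstance _ hnN _) h) (inv_mem hnN)
  obtain ⟨k, hk⟩ := isPGroup_iff_forall.1 py _ (mul_mem (inv_mem (mem_zpowers y)) h2)
  have := eq_one_of_mem hp.out hN h3 hk
  rw [inv_mul_eq_one] at this; exact this.symm

omit [Finite G] in
theorem dvd_three_mul {k b : ℕ} (h : k ∣ 21 * 2 ^ b) (h7 : ¬ 7 ∣ k) : k ∣ 3 * 2 ^ b := by
  have : Nat.Coprime k 7 := ((Nat.Prime.coprime_iff_not_dvd (by norm_num)).2 h7).symm
  exact this.dvd_of_dvd_mul_left (by rwa [← mul_assoc])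

theorem pow_mod7 (i : ℕ) : 2 ^ i % 7 = 1 ∨ 2 ^ i % 7 = 2 ∨ 2 ^ i % 7 = 4 := by
  induction i with
  | zero => simp
  | succ i ih => rw [pow_succ, Nat.mul_mod]; rcases ih with h | h | h <;> rw [h] <;> simp

/-- a `7'`-subgroup normalized by `y` is a `2`-group -/
theorem two_of_norm {b : ℕ} {y : G} (hc : Nat.card G = 21 * 2 ^ b) (hy : orderOf y = 7)
    (hz : cen1 y = zpowers y) {K : Subgroup G} (hK : y ∈ normalizer (K : Set G))
    (h7 : ¬ 7 ∣ Nat.card K) : IsPGroup 2 K := by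
  haveI : Fact (Nat.Prime 7) := ⟨by norm_num⟩
  have y7 : y ^ 7 = 1 := by rw [← hy]; exact pow_orderOf_eq_one y
  have h1 := H83.Ord.conj_modEq y7 hK
  have h2 : K ⊓ centralizer ({y} : Set G) = ⊥ := by
    rw [eq_bot_iff]; rintro x ⟨hx, hx'⟩
    have : x ∈ zpowers y := hz ▸ hx'
    obtain ⟨k, hk⟩ := isPGroup_iff_forall.1 (isPGroup_zpowers (p := 7) (k := 1)
      (by rw [pow_one, y7])) x this
    exact eq_one_of_mem (by norm_num) h7 hx hk
  rw [h2, card_bot] at h1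
  have h3 := dvd_three_mul (hc ▸ K.card_subgroup_dvd_card) h7
  by_cases h : 3 ∣ Nat.card K
  · obtain ⟨m, hm⟩ := h
    rw [hm] at h3 h1
    obtain ⟨i, -, rfl⟩ := (Nat.dvd_prime_pow Nat.prime_two).1 (Nat.dvd_of_mul_dvd_mul_left (by norm_num) h3)
    unfold Nat.ModEq at h1
    rw [Nat.mul_mod] at h1
    rcases pow_mod7 i with h | h | h <;> rw [h] at h1 <;> simp at h1
  · have : Nat.Coprime (Nat.card K) 3 := ((Nat.Prime.coprime_iff_not_dvd (by norm_num)).2 h).symm
    obtain ⟨i, -, hi⟩ := (Nat.dvd_prime_pow Nat.prime_two).1 (this.dvd_of_dvd_mul_left h3)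
    exact IsPGroup.of_card hi

omit [Finite G] in
/-- an involution normalizing `⟨y⟩` centralizes or inverts `y` -/
theorem inv_act {y g : G} (hy : orderOf y = 7) (hg : g * g = 1)
    (hn : g * y * g⁻¹ ∈ zpowers y) : g * y * g⁻¹ = y ∨ g * y * g⁻¹ = y⁻¹ := by
  obtain ⟨k, hk⟩ := mem_zpowers_iff.1 hn
  have h1 : y ^ (k * k) = y := by
    rw [zpow_mul, hk, conj_zpow, hk]
    calc g * (g * y * g⁻¹) * g⁻¹ = (g * g) * y * (g * g)⁻¹ := by group
      _ = y := by rw [hg]; group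
  have h2 : (7 : ℤ) ∣ (k - 1) * (k + 1) := by
    have : y ^ ((k - 1) * (k + 1)) = 1 := by
      rw [show (k - 1) * (k + 1) = k * k - 1 by ring, zpow_sub, h1]; simp
    have := orderOf_dvd_iff_zpow_eq_one.2 this
    rwa [hy] at this
  have y7 : y ^ (7 : ℤ) = 1 := by
    have := pow_orderOf_eq_one y
    rw [hy] at this; exact_mod_cast this
  rcases (Int.prime_iff_natAbs_prime.2 (by norm_num) : Prime (7 : ℤ)).dvd_or_dvd h2 with
    ⟨m, hm⟩ | ⟨m, hm⟩
  · left; rw [← hk, show k = 7 * m + 1 by omega, zpow_add, zpow_mul, y7]; simp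
  · right; rw [← hk, show k = 7 * m - 1 by omega, zpow_sub, zpow_mul, y7]; simp

theorem odd_nor {y : G} (hy : orderOf y = 7) (hz : cen1 y = zpowers y)
    (hi : ∀ g : G, g * y * g⁻¹ ≠ y⁻¹) : ¬ 2 ∣ Nat.card (nor (zpowers y)) := by
  intro h
  obtain ⟨g, hg, h2⟩ := H83.Ord.exists_orderOf_mem Nat.prime_two h
  have g2 : g * g = 1 := by rw [← pow_two, ← h2]; exact pow_orderOf_eq_one g
  rcases inv_act hy g2 (conj_mem_of_mem_normalizer hg (mem_zpowers y)) with e | e
  · have : g ∈ zpowers y := by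
      rw [← hz, mem_centralizer_singleton_iff, ← mul_inv_eq_iff_eq_mul, e]
    have := (zpowers y).orderOf_dvd_natCard this
    rw [Nat.card_zpowers, hy, h2] at this
    omega
  · exact hi g e

end H29.S7
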