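/- Groups of order `21 · 2 ^ b` with a self-centralizing element of order `7`: `JobS7`. -/
import Cfsg.Agent.H29.S7a

set_option autoImplicit false

namespace H29.S7
open Subgroup _root_.Cfsg H96.CG H98

universe u
variable {G : Type u} [Group G] [Finite G]

omit [Finite G] in
theorem syl7 {b : ℕ} (hc : Nat.card G = 21 * 2 ^ b) {y : G} (hy : orderOf y = 7)
    {K : Subgroup G} (hK : y ∈ K) : IsSyl 7 (zpowers y) K := by
  haveI : Fact (Nat.Prime 7) := ⟨by norm_num⟩
  refine IsSyl.of_le (H := ⊤) ?_ (zpowers_le.2 hK) le_top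
  refine isSyl_of_not_dvd_relIndex le_top (IsPGroup.of_card (n := 1) (by
    rw [Nat.card_zpowers, hy, pow_one])) ?_
  rw [relIndex_top_right]
  have h := (zpowers y).card_mul_index
  rw [Nat.card_zpowers, hy, hc] at h
  have : (zpowers y).index = 3 * 2 ^ b := by omega
  rw [this]
  intro h7
  rcases (Nat.Prime.dvd_mul (by norm_num)).1 h7 with h | h
  · omega
  · have := (by norm_num : Nat.Prime 7).dvd_of_dvd_pow h; omega

/-- a subgroup `L` normalized by `M`, of order divisible by `7`, contains the elements of order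
`7` of `M` -/
theorem mem_of_seven {b : ℕ} (hc : Nat.card G = 21 * 2 ^ b) {L M : Subgroup G} (hL : L ≤ M)
    (hn : M ≤ normalizer (L : Set G)) (h7 : 7 ∣ Nat.card L) {w : G} (hw : orderOf w = 7)
    (hM : w ∈ M) : w ∈ L := by
  haveI : Fact (Nat.Prime 7) := ⟨by norm_num⟩
  obtain ⟨x, hx, hx7⟩ := H83.Ord.exists_orderOf_mem (by norm_num) h7
  obtain ⟨g, hg, e⟩ := (syl7 hc hx7 (hL hx)).exists_cj_eq (syl7 hc hw hM)
  have : cj g (zpowers x) ≤ L := cj_le_of_le (zpowers_le.2 hx) (hn hg)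
  exact this (e ▸ mem_zpowers w)

theorem core_case {b : ℕ} {y : G} (hc : Nat.card G = 21 * 2 ^ b) (hy : orderOf y = 7)
    (hz : cen1 y = zpowers y) (hi : ∀ g : G, g * y * g⁻¹ ≠ y⁻¹)
    (hO : ∀ N : Subgroup G, N.Normal → IsPGroup 2 N → N = ⊥) :
    Nat.card G = 21 ∨ (Nat.card G = 168 ∧ IsSimpleGroup G) := by
  haveI : Fact (Nat.Prime 7) := ⟨by norm_num⟩
  have y1 : y ≠ 1 := by rintro rfl; simp at hy
  set M := normalClosure ({y} : Set G) with hM
  have yM : y ∈ M := subset_normalClosure rfl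
  have nM : ⊤ ≤ normalizer (M : Set G) := by rw [normalizer_eq_top]
  have hs : IsSimpleGroup M := by
    haveI : Nontrivial M := (nontrivial_iff_exists_ne_one M).2 ⟨y, yM, y1⟩
    refine ⟨fun L hLn => ?_⟩
    have hn := le_normalizer_map_subtype L
    by_cases h7 : 7 ∣ Nat.card (L.map M.subtype)
    · right
      have : M ≤ L.map M.subtype := by
        show closure (Group.conjugatesOfSet {y}) ≤ _
        rw [closure_le]
        intro w hw
        obtain ⟨a, ha, hw'⟩ := Group.mem_conjugatesOfSet_iff.1 hw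
        rw [Set.mem_singleton_iff.1 ha] at hw'
        refine mem_of_seven hc (map_subtype_le L) hn h7 ?_ (subset_closure hw)
        obtain ⟨g, rfl⟩ := isConj_iff.1 hw'
        rw [← hy]; exact (MulAut.conj g).orderOf_eq y
      rw [eq_top_iff]; intro m _
      obtain ⟨l, hl, e⟩ := this m.2
      rwa [← Subtype.ext e]
    · left
      have h2 := two_of_norm hc hy hz (hn yM) h7
      have h3 := le_pCoreOf h2 (map_subtype_le L) hn
      rw [hO _ (normal_of_top_le_normalizer (le_normalizer_pCoreOf nM)) (isPGroup_pCoreOf M),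
        le_bot_iff, map_eq_bot_iff_of_injective _ M.subtype_injective] at h3
      exact h3
  have hfr := (syl7 hc hy yM).frattini le_top nM
  rw [top_inf_eq] at hfr
  have hodd : ¬ 2 ∣ M.index := by
    intro h
    apply odd_nor hy hz hi
    rw [← relIndex_top_right, ← hfr, relIndex_sup_right] at h
    exact h.trans (relIndex_dvd_card _ _)
  have hMc := M.card_mul_index
  have h7M : 7 ∣ Nat.card M := hy ▸ M.orderOf_dvd_natCard yM
  have hi3 : M.index ∣ 3 := by
    obtain ⟨m, hm⟩ := h7M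
    have h1 : M.index ∣ 3 * 2 ^ b := ⟨m, by rw [hm, hc] at hMc; nlinarith⟩
    exact (((Nat.Prime.coprime_iff_not_dvd Nat.prime_two).2 hodd).symm.pow_right b).dvd_of_dvd_mul_right h1
  have hC : ∀ K : Subgroup G, y ∈ K → (∀ a b : K, a * b = b * a) → Nat.card K ∣ 7 := by
    intro K hK h
    rw [← hy, ← Nat.card_zpowers, ← hz]
    refine card_dvd_of_le fun a ha => mem_centralizer_singleton_iff.2 ?_
    exact congrArg Subtype.val (h ⟨a, ha⟩ ⟨y, hK⟩)
  rcases (Nat.dvd_prime Nat.prime_three).1 hi3 with h | h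
  · right
    have hT : M = ⊤ := index_eq_one.1 h
    rw [hT] at hs
    haveI : IsSimpleGroup G := topEquiv.symm.isSimpleGroup
    refine ⟨?_, this⟩
    have hcyc : ¬ IsCyclic G := by
      intro hcy
      have := hC ⊤ (mem_top y) fun a b => Subtype.ext (hcy.isMulCommutative.is_comm.comm _ _)
      rw [card_top, hc] at this
      have := Nat.le_of_dvd (by norm_num) this
      have : 0 < 2 ^ b := by positivity
      omega
    rcases H45.of_card_three hcyc (p := 7) (q := 2) (a := 1) (b := b) (by norm_num) Nat.prime_two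
      (by norm_num) (by rw [hc]; ring) with ⟨⟨e⟩⟩ | ⟨⟨e⟩⟩
    · have h1 := Nat.card_congr e.toEquiv
      rw [nat_card_alternatingGroup] at h1
      have h2 : 7 ∣ Nat.card G := hy ▸ orderOf_dvd_natCard y
      rw [h1] at h2; simp [Nat.factorial] at h2
    · have h1 := H88.two_mul_card_psl_two (F := ZMod 7) (by rw [ZMod.card]; decide)
      rw [← Nat.card_congr e.toEquiv, ZMod.card] at h1
      omega
  · left
    have h1 : Nat.card M = 7 ^ 1 * 2 ^ b := by rw [h, hc] at hMc; omega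
    have h2 := IsSimpleGroup.comm_iff_isSolvable.2
      (Cfsg.Agent.S0144.result 7 2 1 b (by norm_num) Nat.prime_two h1)
    have h3 := Nat.dvd_antisymm (hC M yM h2) h7M
    rw [← hMc, h3, h]

/-- passing to the quotient by a normal `7'`-subgroup -/
theorem quot {N : Subgroup G} [N.Normal] (hN : ¬ 7 ∣ Nat.card N) {y : G} (hy : orderOf y = 7)
    (hz : cen1 y ≤ zpowers y ⊔ N) (hi : ∀ g : G, g * y * g⁻¹ ≠ y⁻¹) :
    orderOf (y : G ⧸ N) = 7 ∧ cen1 (y : G ⧸ N) = zpowers (y : G ⧸ N) ∧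
      ∀ g : G ⧸ N, g * y * g⁻¹ ≠ (y : G ⧸ N)⁻¹ := by
  haveI : Fact (Nat.Prime 7) := ⟨by norm_num⟩
  have y7 : y ^ 7 = 1 := by rw [← hy]; exact pow_orderOf_eq_one y
  have c7 : ∀ g : G, (g * y * g⁻¹) ^ 7 = 1 := fun g => by rw [conj_pow, y7]; simp
  refine ⟨orderOf_eq_prime (by rw [← QuotientGroup.mk_pow, y7]; rfl) fun h => ?_, ?_, ?_⟩
  · exact hN (hy ▸ N.orderOf_dvd_natCard ((QuotientGroup.eq_one_iff y).1 h))
  · refine le_antisymm (fun g hg => ?_) (by
      rw [zpowers_le, mem_centralizer_singleton_iff])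
    obtain ⟨g, rfl⟩ := QuotientGroup.mk_surjective g
    rw [mem_centralizer_singleton_iff, ← mul_inv_eq_iff_eq_mul] at hg
    obtain ⟨n, hn, e⟩ := lift_conj hN y7 (c7 g) (QuotientGroup.eq.1 hg.symm)
    have h1 : n * g ∈ cen1 y := by
      rw [mem_centralizer_singleton_iff, ← mul_inv_eq_iff_eq_mul, ← e]
      conv_rhs => rw [e, ← e]
      conv_lhs => rw [e]
      group
    obtain ⟨a, ha, m, hm, e2⟩ := (mem_sup_left_norm (by rw [normalizer_eq_top]; exact le_top)).1
      (hz h1)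
    have : (g : G ⧸ N) = a := by
      have := congrArg (QuotientGroup.mk (s := N)) e2
      rwa [QuotientGroup.mk_mul, QuotientGroup.mk_mul, (QuotientGroup.eq_one_iff n).2 hn,
        (QuotientGroup.eq_one_iff m).2 hm, one_mul, mul_one] at this
    obtain ⟨k, rfl⟩ := mem_zpowers_iff.1 ha
    rw [this, QuotientGroup.mk_zpow]; exact zpow_mem (mem_zpowers _) k
  · intro g hg
    obtain ⟨g, rfl⟩ := QuotientGroup.mk_surjective g
    obtain ⟨n, hn, e⟩ := lift_conj hN (y := y⁻¹) (by rw [inv_pow, y7, inv_one]) (c7 g)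
      (QuotientGroup.eq.1 hg.symm)
    exact hi (n * g) (by rw [← e]; group)

theorem jobS7 : H45.EX.JobS7.{u} := by
  intro H _ _ b y hc hy hz hi
  haveI : Fact (Nat.Prime 2) := ⟨Nat.prime_two⟩
  set Q := pCoreOf 2 (⊤ : Subgroup H) with hQ
  have pQ : IsPGroup 2 Q := isPGroup_pCoreOf ⊤
  haveI nQ : Q.Normal := normal_of_top_le_normalizer (self_le_normalizer_pCoreOf ⊤)
  have h7 : ¬ 7 ∣ Nat.card Q := not_dvd_card_of_isPGroup_ne (by norm_num) (by norm_num) pQ
  obtain ⟨h1, h2, h3⟩ := quot h7 hy (hz ▸ le_sup_left) hi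
  obtain ⟨c, hcQ⟩ := IsPGroup.iff_card.1 pQ
  have hm := Q.card_mul_index
  rw [hcQ, hc] at hm
  have hcb : c ≤ b := by
    have : 2 ^ c ∣ 21 * 2 ^ b := ⟨_, hm.symm⟩
    exact (Nat.pow_dvd_pow_iff_le_right (by norm_num)).1
      ((Nat.Coprime.pow_left c (by norm_num : Nat.Coprime 2 21)).dvd_of_dvd_mul_left this)
  obtain ⟨d, rfl⟩ := Nat.exists_eq_add_of_le hcb
  have hq : Nat.card (H ⧸ Q) = 21 * 2 ^ d := by
    refine Nat.eq_of_mul_eq_mul_left (by positivity : 0 < 2 ^ c) ?_
    rw [← index, hm]; ring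
  refine ⟨Q, nQ, pQ, core_case hq h1 h2 h3 fun N hN pN => ?_⟩
  have p2 : IsPGroup 2 (N.comap (QuotientGroup.mk' Q)) :=
    pN.comap_of_ker_isPGroup _ (by rw [QuotientGroup.ker_mk']; exact pQ)
  have : N.comap (QuotientGroup.mk' Q) ≤ Q :=
    le_pCoreOf p2 le_top (by rw [normalizer_eq_top])
  rw [eq_bot_iff]; intro x hx
  obtain ⟨x, rfl⟩ := QuotientGroup.mk_surjective x
  exact (QuotientGroup.eq_one_iff x).2 (this hx)

end H29.S7
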