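/- Counting lemmas for the local analysis of the order of `M₂₃`. -/
import Cfsg.Agent.H29.S7
import Cfsg.Agent.H44.L168b

set_option autoImplicit false

namespace H29.S7
open Subgroup _root_.Cfsg H96.CG H98

universe u
variable {G : Type u} [Group G] [Finite G]

theorem eq_top_of_half {K : Subgroup G} (h : Nat.card G < 2 * Nat.card K) : K = ⊤ := by
  have h1 := K.card_mul_index
  have h2 : K.index ≠ 0 := index_ne_zero_of_finite
  rw [← index_eq_one]
  by_contra h3
  have : 2 ≤ K.index := by omega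
  nlinarith

theorem sq_of_three_quarters (h : 3 * Nat.card G < 4 * {x : G | x * x = 1}.ncard) (x : G) :
    x * x = 1 := by
  set S := {x : G | x * x = 1} with hS
  have hc : ∀ s ∈ S, ∀ x : G, x * s = s * x := by
    intro s hs
    have h1 : ((s * ·) ⁻¹' S).ncard = S.ncard :=
      Set.ncard_preimage_of_injective_subset_range (mul_right_injective s)
        (by rw [(mul_left_surjective s).range_eq]; exact Set.subset_univ _)
    have h2 := Set.ncard_union_add_ncard_inter S ((s * ·) ⁻¹' S)
    have h3 : (S ∪ (s * ·) ⁻¹' S).ncard ≤ Nat.card G := by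
      rw [← Set.ncard_univ]; exact Set.ncard_le_ncard (Set.subset_univ _)
    have h4 : (S ∩ (s * ·) ⁻¹' S).ncard ≤ Nat.card (cen1 s) := by
      refine Set.ncard_le_ncard (t := (cen1 s : Set G)) fun a ha => ?_
      obtain ⟨a1, a2⟩ := ha
      rw [SetLike.mem_coe, mem_centralizer_singleton_iff]
      have e1 : a⁻¹ = a := inv_eq_of_mul_eq_one_right a1
      have e2 : s⁻¹ = s := inv_eq_of_mul_eq_one_right hs
      have e3 : (s * a)⁻¹ = s * a := inv_eq_of_mul_eq_one_right a2
      rw [← e3, mul_inv_rev, e1, e2]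
    have : cen1 s = ⊤ := eq_top_of_half (by omega)
    intro x
    exact mem_centralizer_singleton_iff.1 (show x ∈ cen1 s by rw [this]; exact mem_top x)
  let K : Subgroup G :=
    { carrier := S
      one_mem' := by simp [hS]
      inv_mem' := fun {a} ha => by
        show a⁻¹ * a⁻¹ = 1
        rw [← mul_inv_rev, show a * a = 1 from ha, inv_one]
      mul_mem' := fun {a b} ha hb => by
        show a * b * (a * b) = 1
        rw [mul_assoc, ← mul_assoc b, hc a ha b, mul_assoc, show b * b = 1 from hb, mul_one]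
        exact ha }
  have : K = ⊤ := eq_top_of_half (by
    have : Nat.card K = S.ncard := rfl
    omega)
  exact (this ▸ mem_top x : x ∈ K)

omit [Finite G] in
theorem elem_of_sq {E : Subgroup G} (h : ∀ x ∈ E, x * x = 1) : IsElementaryAbelian 2 E := by
  refine ⟨⟨⟨fun a b => Subtype.ext ?_⟩⟩, fun a ha => by rw [pow_two, h a ha]⟩
  have e1 := inv_eq_of_mul_eq_one_right (h _ a.2)
  have e2 := inv_eq_of_mul_eq_one_right (h _ b.2)
  have e3 := inv_eq_of_mul_eq_one_right (h _ (mul_mem a.2 b.2))
  show (a : G) * b = b * a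
  rw [← e3, mul_inv_rev, e1, e2]

omit [Finite G] in
theorem ncard_cls (N : Subgroup G) (z : G) :
    {x : G | ∃ g ∈ N, g * z * g⁻¹ = x}.ncard = (cen1 z).relIndex N := by
  letI : MulAction N G := MulAction.compHom G ((MulAut.conj : G →* MulAut G).comp N.subtype)
  have : {x : G | ∃ g ∈ N, g * z * g⁻¹ = x} = MulAction.orbit N z := by
    ext x
    exact ⟨fun ⟨g, hg, e⟩ => ⟨⟨g, hg⟩, e⟩, fun ⟨g, e⟩ => ⟨g, g.2, e⟩⟩
  rw [this, ← MulAction.index_stabilizer]
  unfold relIndex
  congr 1
  ext g
  rw [MulAction.mem_stabilizer_iff, mem_subgroupOf, mem_centralizer_singleton_iff]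
  exact mul_inv_eq_iff_eq_mul

theorem conj_set_one {p : ℕ} [Fact p.Prime] {y z : G} (hy : y ^ p = 1) {S : Set G}
    (hS : ∀ x ∈ S, y * x * y⁻¹ ∈ S) (hz : z ∈ S) (h1 : y * z * y⁻¹ = z)
    (h2 : ∀ x ∈ S, y * x * y⁻¹ = x → x = z) : S.ncard ≡ 1 [MOD p] := by
  have := H83.Ord.act_modEq (g := ConjAct.toConjAct y) (p := p)
    (by rw [← map_pow, hy, map_one]) S hS
  rw [Nat.card_eq_one_iff_exists.2 ⟨⟨⟨z, hz⟩, h1⟩, fun x =>
    Subtype.ext (Subtype.ext (h2 _ x.1.2 x.2))⟩] at this
  exact this

omit [Finite G] in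
/-- on eight points, a `2`-element commuting with a `7`-cycle acts trivially -/
theorem fix8 {X : Type*} [MulAction G X] (hX : Nat.card X = 8) {y v : G} {k : ℕ} {x₀ : X}
    (hy : y ^ 7 = 1) (h0 : ∀ x : X, y • x = x ↔ x = x₀) (hv : v ^ 2 ^ k = 1)
    (hc : v * y = y * v) (x : X) : v • x = x := by
  classical
  haveI : Fact (Nat.Prime 7) := ⟨by norm_num⟩
  haveI : Finite X := Nat.finite_of_card_ne_zero (by omega)
  haveI := Fintype.ofFinite X
  set F := {x : X | v • x = x} with hF
  have v0 : v • x₀ = x₀ := (h0 _).1 (by rw [← mul_smul, ← hc, mul_smul, (h0 _).2 rfl])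
  have h1 := H83.Ord.act_modEq hy F fun a ha => by
    show v • y • a = y • a
    rw [← mul_smul, hc, mul_smul, show v • a = a from ha]
  rw [(Nat.card_eq_one_iff_exists (α := {x : F // y • (x : X) = x})).2
    ⟨⟨⟨x₀, v0⟩, (h0 _).2 rfl⟩, fun x => Subtype.ext (Subtype.ext ((h0 _).1 x.2))⟩] at h1
  have h2 := Equiv.Perm.card_fixedPoints_modEq (f := MulAction.toEndHom (α := X) v) (p := 2)
    (n := k) (by rw [← map_pow, hv, map_one])
  rw [← Nat.card_eq_fintype_card, ← Nat.card_eq_fintype_card, hX] at h2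
  have h3 : F.ncard ≤ 8 := by
    rw [← hX, ← Set.ncard_univ]; exact Set.ncard_le_ncard (Set.subset_univ _)
  have h4 : 8 ≡ F.ncard [MOD 2] := h2
  have h5 : F.ncard ≡ 1 [MOD 7] := h1
  unfold Nat.ModEq at h4 h5
  have : F = Set.univ := Set.eq_of_subset_of_ncard_le (Set.subset_univ _) (by
    rw [Set.ncard_univ, hX]; omega)
  exact (this ▸ Set.mem_univ x : x ∈ F)

/-- counting involutions over a quotient with one class of `n` involutions -/
theorem count_inv {L : Type*} [Group L] [Finite L] {π : G →* L} (hπ : Function.Surjective π)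
    (h1 : ∀ a b : L, orderOf a = 2 → orderOf b = 2 → IsConj a b) {s : L} (hs : orderOf s = 2) :
    {x : G | orderOf x = 2}.ncard = {x : G | orderOf x = 2 ∧ π x = 1}.ncard +
      {a : L | orderOf a = 2}.ncard * {x : G | orderOf x = 2 ∧ π x = s}.ncard := by
  classical
  haveI := Fintype.ofFinite G
  haveI := Fintype.ofFinite L
  have hn : ∀ (P : G → Prop) [DecidablePred P],
      {x | P x}.ncard = (Finset.univ.filter P).card := fun P _ => by
    rw [← Set.ncard_coe_finset]; congr 1; ext; simp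
  have hn' : {x : L | orderOf x = 2}.ncard = (Finset.univ.filter fun x : L => orderOf x = 2).card := by
    rw [← Set.ncard_coe_finset]; congr 1; ext; simp
  rw [hn, hn, hn, hn', ← Finset.card_filter_add_card_filter_not (s := Finset.univ.filter
    fun x : G => orderOf x = 2) (fun x => π x = 1), Finset.filter_filter, Finset.filter_filter]
  congr 1
  rw [Finset.card_eq_sum_card_fiberwise (f := π)
    (t := Finset.univ.filter fun x : L => orderOf x = 2), ← smul_eq_mul, ← Finset.sum_const]
  · refine Finset.sum_congr rfl fun a ha => ?_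
    have ha2 : orderOf a = 2 := by simpa using ha
    obtain ⟨c, hc⟩ := isConj_iff.1 (h1 a s ha2 hs)
    obtain ⟨c, rfl⟩ := hπ c
    refine Finset.card_bijective (MulAut.conj c) (MulAut.conj c).bijective fun x => ?_
    simp only [Finset.mem_filter, Finset.mem_univ, true_and, MulEquiv.orderOf_eq]
    rw [MulAut.conj_apply, map_mul, map_mul, map_inv, ← hc, mul_left_inj, mul_right_inj]
    refine ⟨fun h => ⟨h.1.1, h.2⟩, fun h => ⟨⟨h.1, fun e => ?_⟩, h.2⟩⟩
    rw [← h.2, e] at ha2; simp at ha2
  · intro x hx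
    simp only [Finset.coe_filter, Finset.mem_univ, true_and, Set.mem_ofPred_eq] at hx ⊢
    haveI : Fact (Nat.Prime 2) := ⟨Nat.prime_two⟩
    exact orderOf_eq_prime (by rw [← map_pow, ← hx.1, pow_orderOf_eq_one, map_one]) hx.2

end H29.S7
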