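/- Local analysis for the order of `M₂₃`: the `2`-part of the centralizer of a `7`-element. -/
import Cfsg.Agent.H29.L23a

set_option autoImplicit false

namespace H29.S7
open Subgroup _root_.Cfsg H96.CG H98 H45.EX

universe u
variable {G : Type u} [Group G] [Finite G]

theorem not_inv (D : D23 G) {y : G} (hy : orderOf y = 7) (g : G) : g * y * g⁻¹ ≠ y⁻¹ := by
  intro h
  have hz : cen1 y = centralizer (zpowers y : Set G) := by
    rw [zpowers_eq_closure, centralizer_closure]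
  have hg : g ∈ nor (zpowers y) := mem_normalizer_of_cj_le (by
    rw [cj, MonoidHom.map_zpowers, zpowers_le]
    show g * y * g⁻¹ ∈ _
    rw [h]; exact inv_mem (mem_zpowers y))
  have hle : cen1 y ≤ nor (zpowers y) := hz ▸ centralizer_le_normalizer _
  haveI : ((cen1 y).subgroupOf (nor (zpowers y))).Normal :=
    normal_subgroupOf_of_le_normalizer (hz ▸ normalizer_le_normalizer_centralizer _)
  have h3 : ((cen1 y).subgroupOf (nor (zpowers y))).index = 3 := by
    have h1 := ((cen1 y).subgroupOf (nor (zpowers y))).card_mul_index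
    rw [Nat.card_congr (subgroupOfEquivOfLe hle).toEquiv, (D.c7 y hy).2, mul_comm] at h1
    exact Nat.eq_of_mul_eq_mul_right Nat.card_pos h1
  have h4 := ((cen1 y).subgroupOf (nor (zpowers y))).pow_index_mem ⟨g, hg⟩
  rw [h3, mem_subgroupOf, mem_centralizer_singleton_iff, ← mul_inv_eq_iff_eq_mul] at h4
  have h5 : g * y⁻¹ * g⁻¹ = y := by rw [← conj_inv, h, inv_inv]
  have h6 : y⁻¹ = y :=
    calc y⁻¹ = g * (g * (g * y * g⁻¹) * g⁻¹) * g⁻¹ := by rw [h, h5, h]
      _ = g ^ 3 * y * (g ^ 3)⁻¹ := by simp only [pow_three, mul_inv_rev, mul_assoc]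
      _ = y := h4
  have : orderOf y ∣ 2 := orderOf_dvd_of_pow_eq_one (by rw [pow_two]; nth_rw 1 [← h6]; simp)
  rw [hy] at this; omega

omit [Finite G] in
theorem syl7' (D : D23 G) {y : G} (hy : orderOf y = 7) : IsSyl 7 (zpowers y) ⊤ := by
  haveI : Fact (Nat.Prime 7) := ⟨by norm_num⟩
  refine isSyl_of_not_dvd_relIndex le_top (IsPGroup.of_card (n := 1) (by
    rw [Nat.card_zpowers, hy, pow_one])) ?_
  have h := (zpowers y).card_mul_index
  rw [Nat.card_zpowers, hy, D.card] at h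
  rw [relIndex_top_right]; omega

/-- the case of a centralizer of order `112` -/
theorem norm_V (D : D23 G) {y z : G} (hy : orderOf y = 7) (hz : orderOf z = 2) {V : Subgroup G}
    (hV : IsSyl 2 V (cen1 y)) (hn : cen1 y ≤ nor V) (hc : Nat.card (cen1 y) = 112)
    (hle : cen1 y ≤ cen1 z) : cen1 z ≤ nor V := by
  haveI : Fact (Nat.Prime 7) := ⟨by norm_num⟩
  have hzy : cen1 y = centralizer (zpowers y : Set G) := by
    rw [zpowers_eq_closure, centralizer_closure]
  set N := nor (zpowers y) with hN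
  have cN : Nat.card N = 336 := by rw [(D.c7 y hy).2, hc]
  have hyN : cen1 y ≤ N := hzy ▸ centralizer_le_normalizer _
  have NV : N ≤ nor V := by
    rw [hV.eq_pCoreOf hn]
    exact le_normalizer_pCoreOf (hzy ▸ normalizer_le_normalizer_centralizer _)
  have hVN : IsSyl 2 V N := by
    refine isSyl_of_not_dvd_relIndex (hV.le.trans hyN) hV.isPGroup ?_
    rw [← relIndex_mul_relIndex _ _ _ hV.le hyN]
    have h1 := ((cen1 y).subgroupOf N).card_mul_index
    rw [Nat.card_congr (subgroupOfEquivOfLe hyN).toEquiv, hc, cN] at h1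
    have h2 := hV.not_dvd_relIndex
    have h3 : (cen1 y).relIndex N = 3 := by unfold relIndex; omega
    rw [h3]; omega
  have yC : y ∈ cen1 z := hle (mem_centralizer_singleton_iff.2 rfl)
  have y7 : (⟨y, yC⟩ : cen1 z) ^ 7 = 1 := Subtype.ext (by rw [← hy]; exact pow_orderOf_eq_one y)
  have hfix : ∀ (a c : cen1 z), a • (c : cen1 z ⧸ N.subgroupOf (cen1 z)) = c ↔
      (c : G)⁻¹ * a * c ∈ N := fun a c => by
    rw [MulAction.Quotient.smul_mk, eq_comm, QuotientGroup.eq, mem_subgroupOf, mul_assoc]; rfl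
  have h0 : ∀ x : cen1 z ⧸ N.subgroupOf (cen1 z), (⟨y, yC⟩ : cen1 z) • x = x ↔
      x = ((1 : cen1 z) : cen1 z ⧸ N.subgroupOf (cen1 z)) := fun x => by
    obtain ⟨c, rfl⟩ := QuotientGroup.mk_surjective x
    rw [hfix, QuotientGroup.eq, mem_subgroupOf, mul_one]
    refine ⟨fun h => mem_normalizer_of_cj_le ?_, fun h => mul_mem (mul_mem h
      (le_normalizer (mem_zpowers y))) (by simpa using inv_mem h)⟩
    refine (syl7' D hy).le_of_le_normalizer' (isPGroup_cj _ (syl7' D hy).isPGroup) le_top ?_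
    rw [cj, MonoidHom.map_zpowers, zpowers_le]
    simpa using h
  have h8 : Nat.card (cen1 z ⧸ N.subgroupOf (cen1 z)) = 8 := by
    have h1 := H83.Ord.act_modEq y7 (Set.univ : Set (cen1 z ⧸ N.subgroupOf (cen1 z)))
      fun _ _ => trivial
    rw [Nat.card_univ, (Nat.card_eq_one_iff_exists (α := {x : (Set.univ : Set _) //
      (⟨y, yC⟩ : cen1 z) • (x : cen1 z ⧸ N.subgroupOf (cen1 z)) = x})).2
      ⟨⟨⟨_, trivial⟩, (h0 _).2 rfl⟩, fun x => Subtype.ext (Subtype.ext ((h0 _).1 x.2))⟩] at h1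
    have h2 := (N.subgroupOf (cen1 z)).card_mul_index
    rw [D.c2 z hz, ← card_map_of_injective (cen1 z).subtype_injective,
      subgroupOf_map_subtype] at h2
    obtain ⟨a, ha⟩ := card_dvd_of_le (le_inf hyN hle)
    obtain ⟨b, hb⟩ := card_dvd_of_le (inf_le_left : N ⊓ cen1 z ≤ N)
    rw [ha, hc] at h2 hb
    rw [cN] at hb
    have : a ∣ 3 := ⟨b, by nlinarith⟩
    unfold Nat.ModEq at h1
    rw [← index] at h1 ⊢
    rcases (Nat.dvd_prime Nat.prime_three).1 this with rfl | rfl <;> omega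
  intro c hc'
  rw [← inv_mem_iff]
  refine mem_normalizer_of_cj_le fun w hw => ?_
  have hv := mem_cj.1 hw
  rw [inv_inv] at hv
  obtain ⟨k, hk⟩ := isPGroup_iff_forall.1 hV.isPGroup _ hv
  have := (hfix _ _).1 (fix8 h8 y7 h0 (v := ⟨_, hle (hV.le hv)⟩) (k := k) (Subtype.ext hk)
    (Subtype.ext (mem_centralizer_singleton_iff.1 (hV.le hv))) (⟨c, hc'⟩ : cen1 z))
  have hw' : zpowers w ≤ N := by rw [zpowers_le]; simpa [mul_assoc] using this
  refine hVN.le_of_le_normalizer' (isPGroup_zpowers (k := k) ?_) hw' (hw'.trans NV) (mem_zpowers w)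
  rwa [conj_pow, conj_eq_one_iff] at hk

theorem fac7 (k : ℕ) : 2 ^ (2 ^ k * 7).factorization 2 = 2 ^ k := by
  rw [Nat.factorization_mul (by positivity) (by norm_num), Nat.prime_two.factorization_pow,
    Finsupp.add_apply, Nat.factorization_eq_zero_of_not_dvd (n := 7) (by norm_num)]
  simp

theorem exists_V (D : D23 G) : ∃ (z y : G) (V : Subgroup G), orderOf z = 2 ∧ orderOf y = 7 ∧
    z ∈ V ∧ y ∈ cen1 z ∧ V ≤ cen1 z ∧ cen1 z ≤ nor V ∧ IsPGroup 2 V ∧
    cen1 y ≤ zpowers y ⊔ V := by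
  haveI : Fact (Nat.Prime 7) := ⟨by norm_num⟩
  obtain ⟨y, hy⟩ := exists_prime_orderOf_dvd_card' (G := G) 7 (by rw [D.card]; norm_num)
  obtain ⟨V, hV⟩ := exists_isSyl 2 (cen1 y)
  have hc := hV.card_eq
  have hc' : (Nat.card (cen1 y) = 14 ∧ Nat.card V = 2) ∨
      (Nat.card (cen1 y) = 112 ∧ Nat.card V = 16) := by
    rcases (D.c7 y hy).1 with h | h <;> rw [h] at hc
    · left; exact ⟨h, by rw [hc]; exact fac7 1⟩
    · right; exact ⟨h, by rw [hc]; exact fac7 4⟩
  have hyy : zpowers y ≤ cen1 y := zpowers_le.2 (mem_centralizer_singleton_iff.2 rfl)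
  have hs : zpowers y ⊔ V = cen1 y := by
    refine eq_of_le_of_card_ge (sup_le hyy hV.le) (Nat.le_of_dvd Nat.card_pos ?_)
    have h1 := card_dvd_of_le (le_sup_left : zpowers y ≤ zpowers y ⊔ V)
    have h2 := card_dvd_of_le (le_sup_right : V ≤ zpowers y ⊔ V)
    rw [Nat.card_zpowers, hy] at h1
    rcases hc' with ⟨a, b⟩ | ⟨a, b⟩ <;> rw [b] at h2 <;> rw [a] <;> omega
  have yV : y ∈ centralizer (V : Set G) := mem_centralizer_iff.2 fun v hv =>
    mem_centralizer_singleton_iff.1 (hV.le hv)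
  have hn : cen1 y ≤ nor V := by
    rw [← hs]; exact sup_le (zpowers_le.2 (centralizer_le_normalizer _ yV)) le_normalizer
  have V1 : V ≠ ⊥ := by
    rintro rfl; rw [card_bot] at hc'; omega
  have hW := inf_centralizer_ne_bot hV.isPGroup hV.isPGroup le_normalizer V1
  have pW : IsPGroup 2 ↥(V ⊓ centralizer (V : Set G)) := hV.isPGroup.to_le inf_le_left
  obtain ⟨z, ⟨zV, zc⟩, hz⟩ := H83.Ord.exists_orderOf_mem Nat.prime_two
    (K := V ⊓ centralizer (V : Set G)) (pW.card_eq_or_dvd.resolve_left (by rwa [card_eq_one]))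
  have hle : cen1 y ≤ cen1 z := by
    rw [← hs]
    exact sup_le (zpowers_le.2 (mem_centralizer_singleton_iff.2
      (mem_centralizer_singleton_iff.1 (hV.le zV)).symm)) fun v hv =>
      mem_centralizer_singleton_iff.2 (mem_centralizer_iff.1 zc v hv)
  refine ⟨z, y, V, hz, hy, zV, hle (hyy (mem_zpowers y)), hV.le.trans hle, ?_, hV.isPGroup, hs.ge⟩
  rcases hc' with ⟨a, b⟩ | ⟨a, b⟩
  · have : zpowers z = V := eq_of_le_of_card_ge (zpowers_le.2 zV) (by rw [Nat.card_zpowers, hz, b])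
    rw [← this]
    refine le_trans ?_ (centralizer_le_normalizer _)
    rw [zpowers_eq_closure, centralizer_closure]
  · exact norm_V D hy hz hV hn a hle

theorem exists_hom (D : D23 G) : ∃ z : G, orderOf z = 2 ∧ ∃ (L : Type u) (_ : Group L)
    (π : cen1 z →* L), Function.Surjective π ∧ IsPGroup 2 π.ker ∧
    (Nat.card L = 21 ∨ (Nat.card L = 168 ∧ IsSimpleGroup L)) := by
  obtain ⟨z, y, V, hz, hy, zV, yC, VC, hn, pV, hs⟩ := exists_V D
  haveI : (V.subgroupOf (cen1 z)).Normal := normal_subgroupOf_of_le_normalizer hn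
  have pV' := isPGroup_subgroupOf pV (cen1 z)
  have h7 : ¬ 7 ∣ Nat.card (V.subgroupOf (cen1 z)) :=
    not_dvd_card_of_isPGroup_ne (by norm_num) (by norm_num) pV'
  obtain ⟨h1, h2, h3⟩ := quot h7 (y := ⟨y, yC⟩) (by rw [← hy, orderOf_mk]) (fun c hc => by
    obtain ⟨a, ha, v, hv, e⟩ := (mem_sup_left_norm (zpowers_le.2 (hn yC))).1
      (hs (mem_centralizer_singleton_iff.2
        (congrArg Subtype.val (mem_centralizer_singleton_iff.1 hc))))
    obtain ⟨k, rfl⟩ := mem_zpowers_iff.1 ha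
    have : c = (⟨y, yC⟩ : cen1 z) ^ k * ⟨v, VC hv⟩ := Subtype.ext e
    rw [this]
    exact mul_mem_sup (zpow_mem (mem_zpowers _) k) hv)
    fun g h => not_inv D hy g (congrArg Subtype.val h)
  obtain ⟨c, hcV⟩ := IsPGroup.iff_card.1 pV'
  have hm := (V.subgroupOf (cen1 z)).card_mul_index
  rw [hcV, D.c2 z hz] at hm
  have hcb : c ≤ 7 := by
    have : 2 ^ c ∣ 21 * 2 ^ 7 := ⟨_, hm.symm⟩
    exact (Nat.pow_dvd_pow_iff_le_right (by norm_num)).1
      ((Nat.Coprime.pow_left c (by norm_num : Nat.Coprime 2 21)).dvd_of_dvd_mul_left this)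
  obtain ⟨d, hd⟩ := Nat.exists_eq_add_of_le hcb
  have hq : Nat.card (cen1 z ⧸ V.subgroupOf (cen1 z)) = 21 * 2 ^ d := by
    refine Nat.eq_of_mul_eq_mul_left (by positivity : 0 < 2 ^ c) ?_
    rw [← index, hm, mul_left_comm, ← pow_add, ← hd]; norm_num
  obtain ⟨Q, nQ, pQ, hQ⟩ := jobS7 _ d _ hq h1 h2 h3
  refine ⟨z, hz, _, inferInstance, (QuotientGroup.mk' Q).comp (QuotientGroup.mk' _),
    (QuotientGroup.mk'_surjective _).comp (QuotientGroup.mk'_surjective _), ?_, hQ⟩
  rw [← MonoidHom.comap_ker, QuotientGroup.ker_mk']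
  exact pQ.comap_of_ker_isPGroup _ (by rw [QuotientGroup.ker_mk']; exact pV')

end H29.S7
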