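/- Local analysis for the order of `M₂₃`: the centralizer of an involution. -/
import Cfsg.Agent.H29.L23b

set_option autoImplicit false

namespace H29.S7
open Subgroup _root_.Cfsg H96.CG H98 H45.EX

universe u
variable {G : Type u} [Group G] [Finite G]

/-- the centralizer of `z` has the shape `2⁴ . L₃(2)` -/
structure Sit (z : G) (E : Subgroup G) {L : Type u} [Group L] (π : cen1 z →* L) : Prop where
  hz : orderOf z = 2
  sur : Function.Surjective π
  ker : ∀ x : cen1 z, π x = 1 ↔ (x : G) ∈ E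
  le : E ≤ cen1 z
  zE : z ∈ E
  cE : Nat.card E = 16
  sq : ∀ e ∈ E, e * e = 1
  cL : Nat.card L = 168
  sL : IsSimpleGroup L
  c4 : ∀ t ∈ cen1 z, t ∉ E → t * t = 1 → Nat.card ↥(E ⊓ cen1 t) = 4
  lift : ∀ s : L, s * s = 1 → ∃ t : cen1 z, π t = s ∧ t * t = 1

omit [Finite G] in
theorem ord2 {x : G} (h : x * x = 1) (h1 : x ≠ 1) : orderOf x = 2 :=
  orderOf_eq_prime (by rw [pow_two, h]) h1

omit [Finite G] in
theorem sq_ord2 {x : G} (h : orderOf x = 2) : x * x = 1 := by
  rw [← pow_two, ← h, pow_orderOf_eq_one]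

omit [Finite G] in
theorem ne_ord2 {x : G} (h : orderOf x = 2) : x ≠ 1 := by
  rintro rfl; simp at h

omit [Finite G] in
theorem i99' (D : D23 G) {z : G} (hz : orderOf z = 2) :
    {x : cen1 z | orderOf x = 2}.ncard = 99 := by
  rw [← D.i99 z hz]
  refine Set.ncard_congr (t := {t : G | orderOf t = 2 ∧ Commute t z}) (fun x _ => (x : G))
    (fun x hx => ⟨by rw [orderOf_coe]; exact hx, mem_centralizer_singleton_iff.1 x.2⟩)
    (fun a b _ _ h => Subtype.ext h) fun t ht =>
      ⟨⟨t, mem_centralizer_singleton_iff.2 ht.2⟩, by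
        show orderOf _ = 2
        rw [orderOf_mk]; exact ht.1, rfl⟩

theorem exists_sit (D : D23 G) : ∃ (z : G) (E : Subgroup G) (L : Type u) (_ : Group L)
    (π : cen1 z →* L), Sit z E π := by
  obtain ⟨z, hz, L, _, π, hπ, pK, hL⟩ := exists_hom D
  haveI : Finite L := Finite.of_surjective π hπ
  have hI := i99' D hz
  have hk := π.ker.card_mul_index
  rw [index_ker, MonoidHom.range_eq_top.2 hπ, card_top, D.c2 z hz] at hk
  set E := π.ker.map (cen1 z).subtype with hE
  have cE : Nat.card E = Nat.card π.ker := card_map_of_injective (cen1 z).subtype_injective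
  have ker : ∀ x : cen1 z, π x = 1 ↔ (x : G) ∈ E := fun x =>
    (mem_map_iff_mem (cen1 z).subtype_injective (K := π.ker)).symm
  rcases hL with hL | ⟨hL, hs⟩
  · exfalso
    have h1 : {x : π.ker | x * x = 1}.ncard = 100 := by
      rw [← Set.ncard_image_of_injective _ Subtype.val_injective, show 100 = 99 + 1 from rfl, ← hI,
        ← Set.ncard_insert_of_notMem (a := 1) (by simp)]
      congr 1; ext x
      constructor
      · rintro ⟨x, hx, rfl⟩
        by_cases h : x = 1
        · left; rw [h]; rfl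
        · right; exact (orderOf_coe x).trans (ord2 hx h)
      · intro hx
        have h2 : x * x = 1 := by
          rcases hx with rfl | hx
          · simp
          · exact sq_ord2 hx
        refine ⟨⟨x, ?_⟩, Subtype.ext h2, rfl⟩
        by_contra h
        have := orderOf_dvd_natCard (π x)
        rw [ord2 (by rw [← map_mul, h2, map_one]) h, hL] at this
        omega
    have h2 := sq_of_three_quarters (G := π.ker) (by rw [h1]; rw [hL] at hk; omega)
    have := D.rk E (elem_of_sq (by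
      rintro _ ⟨x, hx, rfl⟩; exact congrArg (fun a : π.ker => ((a : cen1 z) : G)) (h2 ⟨x, hx⟩)))
    rw [hL] at hk; omega
  have c16 : Nat.card π.ker = 16 := by rw [hL] at hk; omega
  have hsub : {x : cen1 z | orderOf x = 2 ∧ π x = 1} ⊆ (π.ker : Set (cen1 z)) \ {1} :=
    fun x hx => ⟨hx.2, ne_ord2 hx.1⟩
  have h15 : ((π.ker : Set (cen1 z)) \ {1}).ncard = 15 := by
    rw [Set.ncard_sdiff_singleton_of_mem π.ker.one_mem]
    show Nat.card π.ker - 1 = 15
    rw [c16]
  have hle := Set.ncard_le_ncard hsub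
  have h21 : {a : L | orderOf a = 2}.ncard = 21 := H44.L168.card_ord2 hL
  have hj : ∀ s : L, orderOf s = 2 → {x : cen1 z | orderOf x = 2 ∧ π x = s}.ncard = 4 ∧
      {x : cen1 z | orderOf x = 2 ∧ π x = 1}.ncard = 15 := fun s hs2 => by
    have := count_inv hπ (fun a b ha hb => H44.L168.conj_of_ord hL (ha.trans hb.symm) (by omega)) hs2
    rw [hI, h21] at this
    omega
  obtain ⟨s₀, hs₀⟩ := exists_prime_orderOf_dvd_card' (G := L) 2 (by rw [hL]; norm_num)
  have heq := Set.eq_of_subset_of_ncard_le hsub (by rw [(hj s₀ hs₀).2, h15])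
  have sq : ∀ e ∈ E, e * e = 1 := by
    rintro _ ⟨x, hx, rfl⟩
    by_cases h : x = 1
    · rw [h]; simp
    · have : x ∈ {x : cen1 z | orderOf x = 2 ∧ π x = 1} := heq ▸ ⟨hx, h⟩
      exact congrArg Subtype.val (sq_ord2 this.1)
  refine ⟨z, E, L, inferInstance, π, hz, hπ, ker, map_subtype_le _, ?_, cE.trans c16, sq, hL, hs,
    fun t ht tE tt => ?_, fun s ss => ?_⟩
  · have zz : z ∈ cen1 z := mem_centralizer_singleton_iff.2 rfl
    refine (ker ⟨z, zz⟩).1 ?_
    by_contra h
    have h2 := H44.L168.card_cent2 hL (ord2 (by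
      rw [← map_mul, ← map_one π]; exact congrArg π (Subtype.ext (sq_ord2 hz))) h)
    have : centralizer {π ⟨z, zz⟩} = ⊤ := by
      rw [eq_top_iff]; intro a _
      obtain ⟨c, rfl⟩ := hπ a
      rw [mem_centralizer_singleton_iff, ← map_mul, ← map_mul]
      exact congrArg π (Subtype.ext (mem_centralizer_singleton_iff.1 c.2))
    rw [this, card_top, hL] at h2; omega
  · have t2 : π ⟨t, ht⟩ * π ⟨t, ht⟩ = 1 := by
      rw [← map_mul, ← map_one π]; exact congrArg π (Subtype.ext tt)
    have t1 : π ⟨t, ht⟩ ≠ 1 := fun h => tE ((ker _).1 h)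
    rw [← (hj _ (ord2 t2 t1)).1]
    refine (Set.ncard_congr (s := {x : cen1 z | orderOf x = 2 ∧ π x = π ⟨t, ht⟩})
      (t := ((E ⊓ cen1 t : Subgroup G) : Set G)) (fun x _ => t * x)
      (fun x hx => ?_) (fun a b _ _ h => Subtype.ext (mul_left_cancel h)) fun e he => ?_).symm
    · have h1 : t * x ∈ E := (ker (⟨t, ht⟩ * x)).1 (by rw [map_mul, hx.2, t2])
      refine ⟨h1, mem_centralizer_singleton_iff.2 ?_⟩
      have h2 := sq _ h1
      have h3 : (x : G) * x = 1 := congrArg Subtype.val (sq_ord2 hx.1)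
      calc t * x * t = t * x * (t * x) * x := by rw [mul_assoc, mul_assoc _ (t * x), mul_assoc t, mul_assoc t, h3]; simp
        _ = t * (t * x) := by rw [h2, ← mul_assoc, tt]
    · have eC := map_subtype_le _ he.1
      have h1 : π (⟨t, ht⟩ * ⟨e, eC⟩) = π ⟨t, ht⟩ := by
        rw [map_mul, (ker ⟨e, eC⟩).2 he.1, mul_one]
      refine ⟨⟨t, ht⟩ * ⟨e, eC⟩, ⟨ord2 (Subtype.ext ?_) fun h => t1 ?_, h1⟩, ?_⟩
      · show t * e * (t * e) = 1
        rw [mul_assoc, ← mul_assoc e, mem_centralizer_singleton_iff.1 he.2, mul_assoc, sq e he.1,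
          mul_one, tt]
      · rw [← h1, h, map_one]
      · show t * (t * e) = e
        rw [← mul_assoc, tt, one_mul]
  · by_cases h : s = 1
    · exact ⟨1, by rw [map_one, h], mul_one _⟩
    · obtain ⟨t, ht⟩ := Set.nonempty_of_ncard_ne_zero (s := {x : cen1 z | orderOf x = 2 ∧ π x = s})
        (by rw [(hj s (ord2 ss h)).1]; norm_num)
      exact ⟨t, ht.2, sq_ord2 ht.1⟩

end H29.S7
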