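/- Local analysis for the order of `M₂₃`: the normalizer of `E`. -/
import Cfsg.Agent.H29.L23c

set_option autoImplicit false

namespace H29.S7
open Subgroup _root_.Cfsg H96.CG H98 H45.EX

universe u
variable {G : Type u} [Group G] [Finite G] {z : G} {E : Subgroup G} {L : Type u} [Group L]
  {π : cen1 z →* L}

omit [Finite G] in
theorem eq_of_card_two {K : Subgroup G} (h : Nat.card K = 2) {a b : G} (ha : a ∈ K) (hb : b ∈ K)
    (a1 : a ≠ 1) (b1 : b ≠ 1) : a = b := by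
  obtain ⟨c, -, hc⟩ := (Nat.card_eq_two_iff' (1 : K)).1 h
  exact congrArg Subtype.val ((hc ⟨a, ha⟩ fun e => a1 (congrArg Subtype.val e)).trans
    (hc ⟨b, hb⟩ fun e => b1 (congrArg Subtype.val e)).symm)

theorem eq_of_card_four {A B : Subgroup G} (hA : Nat.card A = 4) (hB : Nat.card B = 4) {a b : G}
    (ha : a ∈ A ⊓ B) (hb : b ∈ A ⊓ B) (a1 : a ≠ 1) (b1 : b ≠ 1) (ab : a ≠ b) : A = B := by
  have h1 := card_dvd_of_le (inf_le_left : A ⊓ B ≤ A)
  rw [hA] at h1
  have h4 : Nat.card ↥(A ⊓ B) = 4 := by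
    obtain ⟨i, hi, e⟩ := (Nat.dvd_prime_pow Nat.prime_two (m := 2)).1 h1
    interval_cases i
    · rw [pow_zero, card_eq_one] at e; rw [e] at ha; exact absurd ha a1
    · exact absurd (eq_of_card_two e ha hb a1 b1) ab
    · exact e
  rw [← eq_of_le_of_card_ge (inf_le_left : A ⊓ B ≤ A) (by omega)]
  exact eq_of_le_of_card_ge inf_le_right (by omega)

omit [Finite G] in
theorem Sit.comm (S : Sit z E π) {a b : G} (ha : a ∈ E) (hb : b ∈ E) : a * b = b * a :=
  congrArg Subtype.val ((elem_of_sq S.sq).1.is_comm.comm (⟨a, ha⟩ : E) ⟨b, hb⟩)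

theorem Sit.nE (S : Sit z E π) : cen1 z ≤ nor E := fun c hc =>
  mem_normalizer_fintype fun e he => (S.ker (⟨c, hc⟩ * ⟨e, S.le he⟩ * ⟨c, hc⟩⁻¹)).1 (by
    rw [map_mul, map_mul, (S.ker ⟨e, S.le he⟩).2 he, map_inv]; simp)

theorem Sit.exists_t (S : Sit z E π) : ∃ t ∈ cen1 z, t ∉ E ∧ t * t = 1 := by
  haveI : Finite L := Finite.of_surjective π S.sur
  obtain ⟨s, hs⟩ := exists_prime_orderOf_dvd_card' (G := L) 2 (by rw [S.cL]; norm_num)
  obtain ⟨t, rfl, tt⟩ := S.lift s (sq_ord2 hs)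
  exact ⟨t, t.2, fun h => ne_ord2 hs ((S.ker t).2 h), congrArg Subtype.val tt⟩

theorem Sit.cenE (S : Sit z E π) : cen E ≤ E := by
  haveI := S.sL
  have hle : cen E ≤ cen1 z := fun c hc =>
    mem_centralizer_singleton_iff.2 (mem_centralizer_iff.1 hc z S.zE).symm
  have hn : ((cen E).subgroupOf (cen1 z)).Normal :=
    normal_subgroupOf_of_le_normalizer (le_normalizer_centralizer S.nE)
  rcases (hn.map π S.sur).eq_bot_or_eq_top with h | h
  · intro c hc
    refine (S.ker ⟨c, hle hc⟩).1 ?_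
    rw [← mem_bot, ← h]; exact mem_map_of_mem π hc
  · exfalso
    obtain ⟨t, ht, tE, tt⟩ := S.exists_t
    obtain ⟨c, hc, e⟩ : π ⟨t, ht⟩ ∈ ((cen E).subgroupOf (cen1 z)).map π := h ▸ mem_top _
    have h1 : (c : G)⁻¹ * t ∈ E := (S.ker (c⁻¹ * ⟨t, ht⟩)).1 (by rw [map_mul, map_inv, e]; simp)
    have h2 : t ∈ cen E := by
      have := mul_mem (show (c : G) ∈ cen E from hc)
        (mem_centralizer_iff.2 fun a ha => S.comm ha h1 : (c : G)⁻¹ * t ∈ cen E)
      simpa using this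
    have h3 := S.c4 t ht tE tt
    rw [inf_eq_left.2 fun a ha => mem_centralizer_singleton_iff.2
      (mem_centralizer_iff.1 h2 a ha), S.cE] at h3
    omega

theorem Sit.fix7 (S : Sit z E π) {y : G} (hy : orderOf y = 7) (yC : y ∈ cen1 z) {x : G}
    (hx : x ∈ E) (x1 : x ≠ 1) (h : y * x * y⁻¹ = x) : x = z := by
  haveI : Fact (Nat.Prime 7) := ⟨by norm_num⟩
  have h1 := H83.Ord.conj_modEq (p := 7) (by rw [← hy, pow_orderOf_eq_one]) (S.nE yC)
  have h2 := card_dvd_of_le (inf_le_left : E ⊓ cen1 y ≤ E)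
  rw [S.cE] at h1 h2
  have h3 : Nat.card ↥(E ⊓ cen1 y) ≠ 16 := fun h => by
    have h4 := eq_of_le_of_card_ge (inf_le_left : E ⊓ cen1 y ≤ E) (by rw [h, S.cE])
    have h5 : y ∈ E := S.cenE (mem_centralizer_iff.2 fun a ha =>
      mem_centralizer_singleton_iff.1 (inf_eq_left.1 h4 ha))
    have := E.orderOf_dvd_natCard h5
    rw [hy, S.cE] at this; omega
  have h4 : Nat.card ↥(E ⊓ cen1 y) = 2 := by
    obtain ⟨i, hi, e⟩ := (Nat.dvd_prime_pow Nat.prime_two (m := 4)).1 h2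
    unfold Nat.ModEq at h1
    rw [show centralizer ({y} : Set G) = cen1 y from rfl, e] at h1
    rw [e] at h3 ⊢
    interval_cases i <;> simp_all
  exact eq_of_card_two h4 ⟨hx, mem_centralizer_singleton_iff.2 (mul_inv_eq_iff_eq_mul.1 h).symm⟩
    ⟨S.zE, mem_centralizer_singleton_iff.2 (mem_centralizer_singleton_iff.1 yC).symm⟩ x1
    (ne_ord2 S.hz)

theorem Sit.cases (S : Sit z E π) (D : D23 G) : nor E ≤ cen1 z ∨ E0 E := by
  haveI : Fact (Nat.Prime 7) := ⟨by norm_num⟩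
  obtain ⟨y, yC, hy⟩ := H83.Ord.exists_orderOf_mem (K := cen1 z) (p := 7) (by norm_num)
    (by rw [D.c2 z S.hz]; norm_num)
  set O := {x : G | ∃ g ∈ nor E, g * z * g⁻¹ = x} with hO
  have h1 : O.ncard = _ := ncard_cls (nor E) z
  have hsub : O ⊆ (E : Set G) \ {1} := by
    rintro _ ⟨g, hg, rfl⟩
    exact ⟨conj_mem_of_mem_normalizer hg S.zE, fun h => ne_ord2 S.hz (conj_eq_one_iff.1 h)⟩
  have h15 : ((E : Set G) \ {1}).ncard = 15 := by
    rw [Set.ncard_sdiff_singleton_of_mem E.one_mem]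
    show Nat.card E - 1 = 15
    rw [S.cE]
  have hle := Set.ncard_le_ncard hsub
  have h2 : O.ncard ≡ 1 [MOD 7] := conj_set_one (y := y) (z := z)
    (by rw [← hy, pow_orderOf_eq_one])
    (by rintro _ ⟨g, hg, rfl⟩; exact ⟨y * g, mul_mem (S.nE yC) hg, by group⟩)
    ⟨1, one_mem _, by group⟩ (mul_inv_eq_iff_eq_mul.2 (mem_centralizer_singleton_iff.1 yC))
    fun x hx h => S.fix7 hy yC (hsub hx).1 (hsub hx).2 h
  have h3 := relIndex_mul_index S.nE
  have h4 := (cen1 z).card_mul_index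
  have h5 := (nor E).card_mul_index
  rw [D.c2 z S.hz, D.card] at h4
  rw [D.card] at h5
  rw [← h1, show (cen1 z).index = 3795 by omega] at h3
  unfold Nat.ModEq at h2
  have h6 : O.ncard = 1 ∨ O.ncard = 8 ∨ O.ncard = 15 := by omega
  rcases h6 with h | h | h
  · left; rw [h] at h1; exact relIndex_eq_one.1 h1.symm
  · rw [h] at h3; omega
  · right
    rw [h] at h3
    have hi : (nor E).index = 253 := by omega
    have heq := Set.eq_of_subset_of_ncard_le hsub (by omega)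
    obtain ⟨t, ht, tE, tt⟩ := S.exists_t
    refine ⟨elem_of_sq S.sq, S.cE, S.cenE, fun e he e1 c hc => ?_, by rw [hi]; decide,
      Or.inr (by rw [hi] at h5; omega), D.one, t, S.nE ht, tE, tt⟩
    obtain ⟨g, hg, rfl⟩ : e ∈ O := heq ▸ ⟨he, e1⟩
    have : g⁻¹ * c * g ∈ cen1 z := by
      rw [mem_centralizer_singleton_iff] at hc ⊢
      calc g⁻¹ * c * g * z = g⁻¹ * (c * (g * z * g⁻¹)) * g := by group
        _ = z * (g⁻¹ * c * g) := by rw [hc]; group
    have := mul_mem (mul_mem hg (S.nE this)) (inv_mem hg)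
    simpa [mul_assoc] using this

end H29.S7
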