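/- Local analysis for the order of `M₂₃`: `JobL23`. -/
import Cfsg.Agent.H29.L23d

set_option autoImplicit false

namespace H29.S7
open Subgroup _root_.Cfsg H96.CG H98 H45.EX

universe u

theorem d4_dec : ∀ a b : DihedralGroup 4, a * a = 1 → b * b = 1 → a ≠ 1 → b ≠ 1 → a ≠ b →
    ∃ s : DihedralGroup 4, s * s = 1 ∧ (s * a ≠ a * s ∨ s * b ≠ b * s) := by decide

/-- elementary subgroups of the simple group of order `168` -/
theorem elem168 {L : Type u} [Group L] [Finite L] [IsSimpleGroup L] (h : Nat.card L = 168)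
    {U : Subgroup L} (hU : ∀ u ∈ U, u * u = 1) (h4 : 4 ≤ Nat.card U) :
    Nat.card U = 4 ∧ ∃ s ∈ nor U, s * s = 1 ∧ ∃ a ∈ U, s * a ≠ a * s := by
  obtain ⟨a, ha, a1⟩ := (nontrivial_iff_exists_ne_one U).1
    (Finite.one_lt_card_iff_nontrivial.1 (by omega))
  have a2 := ord2 (hU a ha) a1
  obtain ⟨f, hf, hr, -⟩ := H44.L168.exists_hom h a2
  have hle : U ≤ centralizer {a} := fun u hu => mem_centralizer_singleton_iff.2
    (congrArg Subtype.val ((elem_of_sq hU).1.is_comm.comm (⟨u, hu⟩ : U) ⟨a, ha⟩))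
  have c8 := H44.L168.card_cent2 h a2
  have c4 : Nat.card U = 4 := by
    have h1 := card_dvd_of_le hle
    rw [c8] at h1
    have h2 : Nat.card U ≠ 8 := fun e => by
      have h3 := eq_of_le_of_card_ge hle (by omega)
      have h5 := hU (f (.r 1)) (by rw [h3, ← hr]; exact ⟨_, rfl⟩)
      rw [← map_mul, ← map_one f] at h5
      exact absurd (hf h5) (by decide)
    obtain ⟨i, hi, e⟩ := (Nat.dvd_prime_pow Nat.prime_two (m := 3)).1 h1
    rw [e] at h2 h4 ⊢
    interval_cases i <;> simp_all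
  refine ⟨c4, ?_⟩
  obtain ⟨b, hb, ba⟩ : ∃ b ∈ U, b ∉ zpowers a := by
    by_contra! hh
    have := card_le_of_le (show U ≤ zpowers a from hh)
    rw [Nat.card_zpowers] at this; omega
  obtain ⟨a', rfl⟩ : a ∈ f.range := hr ▸ hle ha
  obtain ⟨b', rfl⟩ : b ∈ f.range := hr ▸ hle hb
  obtain ⟨s, ss, hs⟩ := d4_dec a' b' (hf (by rw [map_mul, hU _ ha, map_one]))
    (hf (by rw [map_mul, hU _ hb, map_one])) (fun e => a1 (by rw [e, map_one]))
    (fun e => ba (by rw [e, map_one]; exact one_mem _)) fun e => ba (e ▸ mem_zpowers _)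
  refine ⟨f s, H44.L168.cent_le_norm h (H44.L168.klein_iff.2 ⟨c4, hU⟩) a2 hle
    (hr ▸ ⟨s, rfl⟩), by rw [← map_mul, ss, map_one], ?_⟩
  rcases hs with hs | hs
  · exact ⟨_, ha, fun e => hs (hf (by rw [map_mul, map_mul, e]))⟩
  · exact ⟨_, hb, fun e => hs (hf (by rw [map_mul, map_mul, e]))⟩

variable {G : Type u} [Group G] [Finite G] {z : G} {E : Subgroup G} {L : Type u} [Group L]
  {π : cen1 z →* L}

omit [Finite G] in
theorem Sit.brk (S : Sit z E π) {s e : G} (hs : s ∈ nor E) (ss : s * s = 1) (he : e ∈ E) :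
    s * e * s⁻¹ * e ∈ E ⊓ cen1 s := by
  have h1 := conj_mem_of_mem_normalizer hs he
  refine ⟨mul_mem h1 he, mem_centralizer_singleton_iff.2 ?_⟩
  rw [S.comm h1 he]
  calc e * (s * e * s⁻¹) * s = e * s * e := by group
    _ = s * (s * e * s⁻¹ * e) := by
      rw [inv_eq_of_mul_eq_one_right ss, ← mul_assoc, ← mul_assoc, ← mul_assoc, ss, one_mul]
    _ = s * (e * (s * e * s⁻¹)) := by rw [S.comm h1 he]

theorem Sit.not_le (S : Sit z E π) (D : D23 G) : ¬ nor E ≤ cen1 z := by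
  intro hN
  haveI := S.sL
  haveI : Finite L := Finite.of_surjective π S.sur
  obtain ⟨e, he, ez⟩ : ∃ e ∈ E, e ∉ zpowers z := by
    by_contra! hh
    have := card_le_of_le (show E ≤ zpowers z from hh)
    rw [Nat.card_zpowers, S.hz, S.cE] at this; omega
  have e2 := ord2 (S.sq e he) fun h => ez (h ▸ one_mem _)
  obtain ⟨g, hg⟩ := isConj_iff.1 (D.one e z e2 S.hz)
  have gC : g ∉ cen1 z := fun h => ez (by
    have : e = z :=
      calc e = g⁻¹ * (z * g) := by rw [← hg]; group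
        _ = z := by rw [← mem_centralizer_singleton_iff.1 h]; group
    rw [this]; exact mem_zpowers z)
  set E' := cj g E with hE'
  have sq' : ∀ x ∈ E', x * x = 1 := by
    rintro _ ⟨x, hx, rfl⟩; rw [← map_mul, S.sq x hx, map_one]
  have cE' : Nat.card E' = 16 := (card_cj g E).trans S.cE
  have zE' : z ∈ E' := hg ▸ conj_mem_cj he
  have comm' : ∀ a ∈ E', ∀ b ∈ E', a * b = b * a := fun a ha b hb =>
    congrArg Subtype.val ((elem_of_sq sq').1.is_comm.comm (⟨a, ha⟩ : E') ⟨b, hb⟩)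
  have le' : E' ≤ cen1 z := fun a ha => mem_centralizer_singleton_iff.2 (comm' a ha z zE')
  have hN' : ∀ c ∈ nor E', c * (g * z * g⁻¹) = g * z * g⁻¹ * c := fun c hc => by
    rw [hE', nor, ← cj_normalizer, mem_cj] at hc
    have := mem_centralizer_singleton_iff.1 (hN hc)
    calc c * (g * z * g⁻¹) = g * (g⁻¹ * c * g * z) * g⁻¹ := by group
      _ = g * z * g⁻¹ * c := by rw [this]; group
  obtain ⟨t₀, ht₀, t₀E⟩ : ∃ t ∈ E', t ∉ E := by
    by_contra! hh
    exact gC (hN (mem_normalizer_of_cj_le hh))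
  have hZ : ∀ t ∈ E', E ⊓ E' ≤ E ⊓ cen1 t := fun t ht a ha =>
    ⟨ha.1, mem_centralizer_singleton_iff.2 (comm' a ha.2 t ht)⟩
  set U := (E'.subgroupOf (cen1 z)).map π with hU
  have sqU : ∀ u ∈ U, u * u = 1 := by
    rintro _ ⟨x, hx, rfl⟩
    rw [← map_mul, ← map_one π]; exact congrArg π (Subtype.ext (sq' _ hx))
  have hm : Nat.card ↥(E ⊓ E') * Nat.card U = 16 := by
    rw [hU, ← relIndex_ker, ← cE', ← Nat.card_congr (subgroupOfEquivOfLe le').toEquiv,
      ← (π.ker.subgroupOf (E'.subgroupOf (cen1 z))).card_mul_index]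
    congr 1
    rw [← card_map_of_injective (E'.subgroupOf (cen1 z)).subtype_injective, subgroupOf_map_subtype,
      ← card_map_of_injective (cen1 z).subtype_injective]
    congr 2; ext x
    exact ⟨fun h => ⟨⟨x, S.le h.1⟩, ⟨(S.ker _).2 h.1, h.2⟩, rfl⟩,
      fun ⟨y, hy, e⟩ => e ▸ ⟨(S.ker _).1 hy.1, hy.2⟩⟩
  have hZ4 := card_le_of_le (hZ t₀ ht₀)
  rw [S.c4 t₀ (le' ht₀) t₀E (sq' _ ht₀)] at hZ4
  obtain ⟨cU, s, hs, ss, a, ha, hsa⟩ := elem168 S.cL sqU (by nlinarith)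
  have cZ : Nat.card ↥(E ⊓ E') = 4 := by rw [cU] at hm; omega
  have hZ' : ∀ t ∈ E', t ∉ E → E ⊓ E' = E ⊓ cen1 t := fun t ht tE =>
    eq_of_le_of_card_ge (hZ t ht) (by rw [cZ, S.c4 t (le' ht) tE (sq' _ ht)])
  have key : ∀ c : cen1 z, π c ∈ nor U → (c : G) ∈ nor E' := by
    intro c hc
    have k1 : ∀ x ∈ E', x ∉ E → c * x * (c : G)⁻¹ ∈ E' := fun x hx xE => by
      obtain ⟨t, ht, et⟩ := conj_mem_of_mem_normalizer hc
        (mem_map_of_mem π (show (⟨x, le' hx⟩ : cen1 z) ∈ E'.subgroupOf _ from hx))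
      have h1 : c * x * (c : G)⁻¹ * (t : G)⁻¹ ∈ E := (S.ker (c * ⟨x, le' hx⟩ * c⁻¹ * t⁻¹)).1 (by
        rw [map_mul, map_mul, map_mul, map_inv, map_inv, et]; group)
      have tE : (t : G) ∉ E := fun h => xE (by
        have := conj_mem_of_mem_normalizer' (S.nE c.2) (mul_mem h1 h)
        simpa [mul_assoc] using this)
      have h2 : c * x * (c : G)⁻¹ * (t : G)⁻¹ ∈ E ⊓ E' := by
        rw [hZ' t ht tE]
        refine ⟨h1, mem_centralizer_singleton_iff.2 ?_⟩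
        have h3 := S.sq _ h1
        have h4 : c * x * (c : G)⁻¹ * (c * x * (c : G)⁻¹) = 1 := by
          rw [conj_mul, sq' x hx]; simp
        generalize c * x * (c : G)⁻¹ = w at h3 h4 ⊢
        have h5 : (t : G)⁻¹ = t := inv_eq_of_mul_eq_one_right (sq' _ ht)
        have h6 := inv_eq_of_mul_eq_one_right h3
        rw [mul_inv_rev, inv_inv, inv_eq_of_mul_eq_one_right h4, h5] at h6
        rw [← mul_assoc, h6]; group
      simpa using mul_mem h2.2 ht
    refine mem_normalizer_fintype fun x hx => ?_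
    by_cases xE : x ∈ E
    · have := mul_mem (k1 _ (mul_mem hx ht₀) fun h => t₀E ((mul_mem_cancel_left xE).1 h))
        (inv_mem (k1 _ ht₀ t₀E))
      simpa [mul_assoc] using this
    · exact k1 x hx xE
  have z'E : g * z * g⁻¹ ∈ E := S.cenE (mem_centralizer_iff.2 fun x hx =>
    hN' x (key ⟨x, S.le hx⟩ (by rw [(S.ker _).2 hx]; exact one_mem _)))
  obtain ⟨s, rfl, s2⟩ := S.lift s ss
  obtain ⟨t, ht, rfl⟩ := ha
  have s2' : (s : G) * s = 1 := congrArg Subtype.val s2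
  have sE : (s : G) ∉ E := fun h => hsa (by rw [(S.ker s).2 h]; simp)
  have tE : (t : G) ∉ E := fun h => hsa (by rw [(S.ker t).2 h]; simp)
  have hsZ : E ⊓ E' = E ⊓ cen1 (s : G) := eq_of_card_four cZ (S.c4 s s.2 sE s2')
    (a := z) (b := g * z * g⁻¹)
    ⟨⟨S.zE, zE'⟩, S.zE, mem_centralizer_singleton_iff.2 (mem_centralizer_singleton_iff.1 s.2).symm⟩
    ⟨⟨z'E, conj_mem_cj S.zE⟩, z'E, mem_centralizer_singleton_iff.2 (hN' _ (key s hs)).symm⟩
    (ne_ord2 S.hz) (fun h => ne_ord2 S.hz (conj_eq_one_iff.1 h))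
    fun h => gC (mem_centralizer_singleton_iff.2 (mul_inv_eq_iff_eq_mul.1 h.symm))
  apply hsa
  rw [← map_mul, ← map_mul, eq_comm, ← inv_mul_eq_one, ← map_inv, ← map_mul, S.ker]
  refine S.cenE (mem_centralizer_iff.2 fun x hx => ?_)
  have w1 := S.brk (S.nE s.2) s2' hx
  have w2 := S.brk (S.nE t.2) (sq' _ ht) hx
  have w3 : _ ∈ E ⊓ cen1 (t : G) := hZ' t ht tE ▸ hsZ ▸ w1
  have w4 : _ ∈ E ⊓ cen1 (s : G) := hsZ ▸ hZ' t ht tE ▸ w2
  have e3 := mem_centralizer_singleton_iff.1 w3.2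
  have e4 := mem_centralizer_singleton_iff.1 w4.2
  have e5 := S.comm w1.1 w2.1
  have f1 : s * x * (s : G)⁻¹ = s * x * (s : G)⁻¹ * x * x := by
    rw [mul_assoc _ x x, S.sq x hx, mul_one]
  have f2 : t * x * (t : G)⁻¹ = t * x * (t : G)⁻¹ * x * x := by
    rw [mul_assoc _ x x, S.sq x hx, mul_one]
  generalize s * x * (s : G)⁻¹ * x = a at e3 e5 f1
  generalize t * x * (t : G)⁻¹ * x = b at e4 e5 f2
  have f3 : (s : G) * (t * x * (t : G)⁻¹) * (s : G)⁻¹ = t * (s * x * (s : G)⁻¹) * (t : G)⁻¹ :=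
    calc (s : G) * (t * x * (t : G)⁻¹) * (s : G)⁻¹ = s * b * x * (s : G)⁻¹ := by rw [f2]; group
      _ = b * (s * x * (s : G)⁻¹) := by rw [← e4]; group
      _ = a * (t * x * (t : G)⁻¹) := by rw [f1, f2, ← mul_assoc, ← e5, mul_assoc]
      _ = t * a * x * (t : G)⁻¹ := by rw [← e3]; group
      _ = _ := by rw [f1]; group
  show x * (((t : G) * s)⁻¹ * (s * t)) = ((t : G) * s)⁻¹ * (s * t) * x
  calc x * (((t : G) * s)⁻¹ * (s * t))
      = ((t : G) * s)⁻¹ * (t * (s * x * (s : G)⁻¹) * (t : G)⁻¹) * (s * t) := by group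
    _ = _ := by rw [← f3]; group

theorem jobL23 : JobL23.{u} := by
  intro G _ _ D
  obtain ⟨z, E, L, _, π, S⟩ := exists_sit D
  exact ⟨E, (S.cases D).resolve_left (S.not_le D)⟩

end H29.S7
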