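import Cfsg.Agent.H29.SAFF1
import Cfsg.Agent.H55.Basic

/-! STD-A: the job FF. -/

set_option autoImplicit false
set_option linter.unusedSectionVars false

namespace H29.SA

open H64.SG (O2 Syl Cz Cs Ns cjs Is2 Inv2 fx)
open Matrix H57 H67.SA Subgroup
open scoped commutatorElement

section gen
variable {G Γ : Type*} [Group G] [Group Γ]

def Good (P : Subgroup G) : Prop :=
  4 ≤ Nat.card ↥(P ⊓ Cs P) ∧ (∀ y ∈ P ⊓ Cs P, y * y = 1) ∧ Ns P ≤ Cs (P ⊓ Cs P)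

theorem mem_map_e (e : G ≃* Γ) {P : Subgroup G} {x : G} : e x ∈ P.map e.toMonoidHom ↔ x ∈ P :=
  mem_map_iff_mem (f := e.toMonoidHom) e.injective

theorem zc_map (e : G ≃* Γ) (P : Subgroup G) :
    P.map e.toMonoidHom ⊓ Cs (P.map e.toMonoidHom) = (P ⊓ Cs P).map e.toMonoidHom := by
  ext y
  obtain ⟨x, rfl⟩ := e.surjective y
  rw [mem_map_e, mem_inf, mem_inf, mem_map_e, mem_centralizer_iff, mem_centralizer_iff]
  refine and_congr_right fun _ => ⟨fun h s hs => e.injective ?_, ?_⟩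
  · rw [map_mul, map_mul]; exact h _ ⟨s, hs, rfl⟩
  · rintro h _ ⟨s, hs, rfl⟩
    change e s * _ = _ * e s
    rw [← map_mul, h s hs, map_mul]

theorem Good.map (e : G ≃* Γ) {P : Subgroup G} (h : Good P) : Good (P.map e.toMonoidHom) := by
  rw [Good, zc_map]
  refine ⟨by rw [card_map_of_injective e.injective]; exact h.1, ?_, fun y hy => ?_⟩
  · rintro _ ⟨s, hs, rfl⟩
    change e s * e s = 1
    rw [← map_mul, h.2.1 s hs, map_one]
  · obtain ⟨x, rfl⟩ := e.surjective y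
    have hx : x ∈ Ns P := mem_normalizer_iff.2 fun s => by
      rw [← mem_map_e e, ← mem_map_e e (x := x * s * x⁻¹), map_mul, map_mul, map_inv]
      exact mem_normalizer_iff.1 hy _
    rintro _ ⟨s, hs, rfl⟩
    change e s * _ = _ * e s
    rw [← map_mul, mem_centralizer_iff.1 (h.2.2 hx) s hs, map_mul]

theorem syl_iff {P H : Subgroup G} : Syl P H ↔ H7.IsSylowIn 2 P H :=
  ⟨fun h => ⟨h.1, h.2.1, fun e => Nat.not_even_iff_odd.2 h.2.2 (even_iff_two_dvd.2 e)⟩,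
    fun h => ⟨h.le, h.isPGroup, Nat.not_even_iff_odd.1 fun e => h.not_dvd (even_iff_two_dvd.1 e)⟩⟩

theorem good_all [Finite Γ] (e : G ≃* Γ) {P₀ H₀ : Subgroup G} (h : Good P₀) (hs : Syl P₀ H₀) (P : Subgroup Γ)
    (hP : Syl P (H₀.map e.toMonoidHom)) : Good P := by
  obtain ⟨g, -, rfl⟩ := ((syl_iff.1 hs).map e.toMonoidHom).exists_conj_eq (syl_iff.1 hP)
  rw [H7.conj_smul_eq_map]
  exact (h.map e).map _

end gen

section model

abbrev Z4 := ZMod 2 × ZMod 2 × ZMod 2 × ZMod 2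

def um (p : Z4) : Matrix (Fin 5) (Fin 5) (ZMod 2) :=
  !![1, p.1, 0, p.2.1, p.2.2.1; 0, 1, 0, p.2.2.2, p.2.1 + p.1 * p.2.2.2; 0, 0, 1, 0, 0; 0, 0, 0, 1, p.1;
    0, 0, 0, 0, 1]

def jm : Matrix (Fin 5) (Fin 5) (ZMod 2) :=
  !![0, 0, 0, 0, 1; 0, 0, 0, 1, 0; 0, 0, 1, 0, 0; 0, 1, 0, 0, 0; 1, 0, 0, 0, 0]

def pmul (p q : Z4) : Z4 := (p.1 + q.1, p.2.1 + q.2.1 + p.1 * q.2.2.2,
  p.2.2.1 + q.2.2.1 + p.1 * (q.2.1 + q.1 * q.2.2.2) + p.2.1 * q.1, p.2.2.2 + q.2.2.2)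

theorem um_mul : ∀ p q, um p * um q = um (pmul p q) := by decide +kernel

theorem um_det (p : Z4) : (um p).det = 1 := by
  rw [det_of_isUpperTriangular]
  · simp [um, Fin.prod_univ_succ]
  · intro i j h
    fin_cases i <;> fin_cases j <;> first | rfl | exact absurd h (by decide)

def us (p : Z4) : SLn 4 (ZMod 2) := ⟨um p, um_det p⟩

theorem us_mul (p q : Z4) : us p * us q = us (pmul p q) := Subtype.ext (um_mul p q)
theorem us_zero : us 0 = 1 := Subtype.ext (by decide +kernel : um 0 = 1)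
theorem us_inj : Function.Injective us := fun p q h =>
  (by decide +kernel : ∀ p q, um p = um q → p = q) p q (congrArg Subtype.val h)

def P0 : Subgroup (SLn 4 (ZMod 2)) where
  carrier := Set.range us
  one_mem' := ⟨0, us_zero⟩
  mul_mem' := by rintro _ _ ⟨p, rfl⟩ ⟨q, rfl⟩; exact ⟨_, (us_mul p q).symm⟩
  inv_mem' := by
    rintro _ ⟨p, rfl⟩
    obtain ⟨q, h⟩ := (by decide : ∀ p, ∃ q, pmul p q = 0) p
    exact ⟨q, (inv_eq_of_mul_eq_one_right (by rw [us_mul, h, us_zero])).symm⟩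

def J0 : GL (Fin 5) (ZMod 2) := ⟨jm, jm, by decide +kernel, by decide +kernel⟩

theorem mem_z {y : SLn 4 (ZMod 2)} : y ∈ P0 ⊓ Cs P0 ↔ ∃ b c, y = us (0, b, c, 0) := by
  constructor
  · rintro ⟨⟨p, rfl⟩, h⟩
    have h1 := mem_centralizer_iff.1 h _ ⟨(1, 0, 0, 0), rfl⟩
    have h2 := mem_centralizer_iff.1 h _ ⟨(0, 0, 0, 1), rfl⟩
    rw [us_mul, us_mul] at h1 h2
    have := (by decide : ∀ p, pmul (1, 0, 0, 0) p = pmul p (1, 0, 0, 0) →
      pmul (0, 0, 0, 1) p = pmul p (0, 0, 0, 1) → p = (0, p.2.1, p.2.2.1, 0)) p (us_inj h1) (us_inj h2)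
    exact ⟨_, _, congrArg us this⟩
  · rintro ⟨b, c, rfl⟩
    refine ⟨⟨_, rfl⟩, mem_centralizer_iff.2 ?_⟩
    rintro _ ⟨p, rfl⟩
    rw [us_mul, us_mul, (by decide : ∀ p b c, pmul p (0, b, c, 0) = pmul (0, b, c, 0) p)]

theorem not_conj (g : SLn 4 (ZMod 2)) : g * us (0, 0, 1, 0) ≠ us (0, 1, 0, 0) * g := fun e => by
  have e' : g.1 * um (0, 0, 1, 0) = um (0, 1, 0, 0) * g.1 := congrArg Subtype.val e
  have a := fun i j => congrFun (congrFun e' i) j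
  have b := fun i j => congrFun (congrFun (val_mul_inv g) i) j
  have a0 := a 0 0; have a1 := a 0 1; have a2 := a 0 2; have a3 := a 0 3
  have c0 := a 1 0; have c1 := a 1 1; have c2 := a 1 2; have c3 := a 1 3
  have b1 := b 3 3; have b2 := b 4 4; have b3 := b 3 4
  generalize (g⁻¹).1 = h at b1 b2 b3
  simp [um, Matrix.mul_apply, Fin.sum_univ_succ] at a0 a1 a2 a3 c0 c1 c2 c3
  simp [Matrix.mul_apply, Fin.sum_univ_five, a0, a1, a2, a3, c0, c1, c2, c3] at b1 b2 b3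
  rcases b3 with h | h
  · simp [h] at b1
  · simp [h] at b2

theorem good_P0 : Good P0 := by
  refine ⟨?_, fun y hy => ?_, fun g hg => mem_centralizer_iff.2 fun y hy => ?_⟩
  · have := Nat.card_le_card_of_injective (fun p : ZMod 2 × ZMod 2 =>
      (⟨us (0, p.1, p.2, 0), mem_z.2 ⟨_, _, rfl⟩⟩ : ↥(P0 ⊓ Cs P0))) fun p q e => by
        simpa [Prod.ext_iff] using us_inj (congrArg Subtype.val e)
    simpa using this
  · obtain ⟨b, c, rfl⟩ := mem_z.1 hy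
    rw [us_mul, (by decide : ∀ b c, pmul (0, b, c, 0) (0, b, c, 0) = 0), us_zero]
  have ne1 : ∀ p, p ≠ 0 → g * us p * g⁻¹ ≠ us 0 := fun p hp e =>
    hp (us_inj (by rw [us_zero] at e ⊢; simpa [mul_inv_eq_one] using e))
  have h3 : g * us (0, 1, 1, 0) * g⁻¹ = us (0, 1, 1, 0) := by
    obtain ⟨p, hp⟩ := (mem_normalizer_iff.1 hg _).1 (⟨(1, 0, 0, 1), rfl⟩ : us (1, 0, 0, 1) ∈ P0)
    have e : g * us (0, 1, 1, 0) * g⁻¹ = us (pmul p p) := by
      rw [← us_mul, hp, show ((0, 1, 1, 0) : Z4) = pmul (1, 0, 0, 1) (1, 0, 0, 1) by decide, ← us_mul]; group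
    rcases (by decide : ∀ p, pmul p p = 0 ∨ pmul p p = (0, 1, 1, 0)) p with h | h
    · exact absurd (h ▸ e) (ne1 _ (by decide))
    · rw [e, h]
  have h1 : g * us (0, 0, 1, 0) * g⁻¹ = us (0, 0, 1, 0) := by
    have hz : g ∈ Ns (P0 ⊓ Cs P0) := inf_normalizer_le_normalizer_inf ⟨hg, H7.normalizer_le_normalizer_centralizer _ hg⟩
    obtain ⟨b, c, e⟩ := mem_z.1 ((mem_normalizer_iff.1 hz _).1 (mem_z.2 ⟨0, 1, rfl⟩))
    rcases (by decide : ∀ b c : ZMod 2, b = 0 ∧ c = 0 ∨ b = 0 ∧ c = 1 ∨ b = 1 ∧ c = 0 ∨ b = 1 ∧ c = 1) b c with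
      ⟨rfl, rfl⟩ | ⟨rfl, rfl⟩ | ⟨rfl, rfl⟩ | ⟨rfl, rfl⟩
    · exact absurd e (ne1 _ (by decide))
    · exact e
    · exact absurd (mul_inv_eq_iff_eq_mul.1 e) (not_conj g)
    · rw [← h3, mul_left_inj, mul_right_inj] at e
      exact absurd (us_inj e) (by decide)
  obtain ⟨b, c, rfl⟩ := mem_z.1 hy
  rw [eq_comm, ← mul_inv_eq_iff_eq_mul]
  rcases (by decide : ∀ b c : ZMod 2, b = 0 ∧ c = 0 ∨ b = 0 ∧ c = 1 ∨ b = 1 ∧ c = 0 ∨ b = 1 ∧ c = 1) b c with
    ⟨rfl, rfl⟩ | ⟨rfl, rfl⟩ | ⟨rfl, rfl⟩ | ⟨rfl, rfl⟩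
  · rw [show ((0, 0, 0, 0) : Z4) = 0 from rfl, us_zero]; group
  · exact h1
  · rw [show ((0, 1, 0, 0) : Z4) = pmul (0, 0, 1, 0) (0, 1, 1, 0) by decide, ← us_mul]
    conv_rhs => rw [← h1, ← h3]
    group
  · exact h3

end model

variable {n : ℕ} {F : Type} [Field F] [Finite F] [CharP F 2]

theorem gr_sq (h : 2 ≤ n) {J : GL (Fin (n + 1)) F} (hJ : J.1ᵀ = J.1) : gr J * gr J = 1 :=
  quot_injective h (by
    rw [map_mul, quot_gr, map_one, ← sq]
    exact H58.pslGr_sq_eq_one_iff.2 ((H58.isEps_toBilin'_iff J.det_ne_zero).2 ⟨1, by simpa⟩))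

theorem gr_conj (h : 2 ≤ n) (hn : Odd (n + 1)) (h2 : Nat.card F = 2) {J J' : GL (Fin (n + 1)) F}
    (hJ : gr J * gr J = 1) (hJ' : gr J' * gr J' = 1) :
    ∃ s : SLn n F, gr J' = MulAut.conj s * gr J * (MulAut.conj s)⁻¹ := by
  obtain ⟨g, e⟩ := H58.fsim_toBilin'_iff.1 (H58.fsim_of_odd ⟨(symm_of_sq hJ).1, .inl (isSymm_of (symm_of_sq hJ).2)⟩
    ⟨(symm_of_sq hJ').1, .inl (isSymm_of (symm_of_sq hJ').2)⟩ rfl (by simpa))
  obtain ⟨s, rfl⟩ : g ∈ (SpecialLinearGroup.toGL : SLn n F →* GL (Fin (n + 1)) F).range := by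
    rw [range_toGL_eq_ker_det]
    have : Subsingleton Fˣ := (Nat.card_eq_one_iff_unique.1 (by rw [Nat.card_units, h2])).1
    exact Subsingleton.elim _ _
  refine ⟨s, quot_injective h ?_⟩
  rw [quot_gr, ← slDiag_toGL', map_mul, map_mul, map_inv, quot_gr]
  exact (H58.conj_pslGr_eq_iff.2 e).symm

theorem syl_P0 : Syl P0 (fx (gr J0)) := by
  have c : Nat.card P0 = 2 ^ 4 := by
    refine (Nat.card_congr (Equiv.ofInjective us us_inj)).symm.trans ?_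
    simp
  have le : P0 ≤ fx (gr J0) := by
    rintro _ ⟨p, rfl⟩
    exact mem_fx_gr.2 ((by decide +kernel : ∀ p, (um p)ᵀ * jm * um p = jm) p)
  refine ⟨le, IsPGroup.of_card c, ?_⟩
  obtain ⟨e⟩ := (fx_gr (gr_sq (n := 4) (J := J0) (by norm_num) (by decide +kernel : jmᵀ = jm))).1 2 rfl
  have := H7.relIndex_mul_card le
  rw [c, Nat.card_congr e.toEquiv, H54.card_sp, Nat.card_zmod, Fintype.card_fin,
    show H54.spOrder 2 2 = 720 by decide] at this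
  rw [show P0.relIndex (fx (gr J0)) = 45 by omega]
  decide

theorem second (h2 : Nat.card F = 2) {J : GL (Fin 5) F} (hJ : gr (n := 4) J * gr J = 1) (P : Subgroup (SLn 4 F))
    (hP : Syl P (fx (gr J))) : Good P := by
  cases nonempty_fintype F
  let ε : ZMod 2 ≃+* F := FiniteField.ringEquivOfCardEq (by rw [ZMod.card, ← h2, Nat.card_eq_fintype_card])
  let J1 : GL (Fin 5) F := GeneralLinearGroup.map (ε : ZMod 2 →+* F) J0
  have e1 : J1.1 = jm.map ε := rfl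
  obtain ⟨s, hs⟩ := gr_conj (n := 4) (by norm_num) (by decide) h2 (gr_sq (J := J1) (by norm_num) (by
    rw [e1, ← transpose_map, (by decide +kernel : jmᵀ = jm)])) hJ
  have e2 : fx (gr (n := 4) J1) = (fx (gr J0)).map (H55.slCongr ε).toMonoidHom := by
    ext y
    obtain ⟨x, rfl⟩ := (H55.slCongr ε).surjective y
    rw [mem_map_e, mem_fx_gr, mem_fx_gr, e1]
    change (x.1.map ε)ᵀ * jm.map ε * x.1.map ε = jm.map ε ↔ x.1ᵀ * jm * x.1 = jm
    generalize x.1 = M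
    rw [← transpose_map, ← Matrix.map_mul, ← Matrix.map_mul]
    exact (Matrix.map_injective ε.injective).eq_iff
  refine good_all ((H55.slCongr ε).trans (MulAut.conj s)) good_P0 syl_P0 P ?_
  rwa [hs, fx_conj, e2, Subgroup.map_map] at hP

theorem jobFF : JobFF := by
  intro n F _ _ _ hp β h2 ho
  have hn := hp.two_le
  have h4 := hp.four
  have q1 : 1 < Nat.card F := one_lt_card
  rcases rep hn h2 ho with ⟨σ, -, -, e⟩ | ⟨J, rfl⟩ | ⟨σ, s1, s2, e⟩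
  · obtain ⟨e'⟩ := fx_field e
    exact .inl (First.sub e' (.of_perfect (perfect hn)))
  · rcases Nat.even_or_odd' (n + 1) with ⟨l, hl | hl⟩
    · rcases (fx_gr h2).2 l hl with ⟨⟨e⟩⟩ | ⟨r, hr, ⟨e⟩⟩
      · exact .inl (First.sub e (.of_perfect (H54.sp_commutator_eq_top (by rw [Fintype.card_fin]; omega))))
      · exact .inl (First.sub e (first_cen' hr (by omega) (by omega)))
    obtain ⟨e⟩ := (fx_gr h2).1 l hl
    by_cases hc : n = 4 ∧ Nat.card F = 2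
    swap
    · exact .inl (First.sub e (.of_perfect (H54.sp_commutator_eq_top (by rw [Fintype.card_fin]; omega))))
    obtain ⟨rfl, hF⟩ := hc
    refine .inr ⟨hF, fun g hg => ?_, second hF h2⟩
    have e1 : MulAut.conj g * gr J = gr (J * (SpecialLinearGroup.toGL g)⁻¹) := by
      rw [gr, gr, _root_.mul_inv_rev, inv_inv, map_mul, slDiag_toGL', mul_assoc]
    rw [e1] at hg ⊢
    exact gr_conj hn (by decide) hF h2 hg
  · cases nonempty_fintype F
    obtain ⟨q, hq, ⟨e'⟩⟩ := fx_gf s1 s2 e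
    by_cases hc : n + 1 = 3 ∧ q = 2
    · obtain ⟨h3, rfl⟩ := hc
      obtain rfl : n = 2 := by omega
      exact .inl (First.sub e' (first_su3 hq))
    · exact .inl (First.sub e' (.of_perfect (H59.commutator_SU hq (by omega) hc)))

end H29.SA
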