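/- DP0-A (S3275), slot N0. -/
import Cfsg.Agent.H26.DP0ASpec

set_option autoImplicit false

open Subgroup Cfsg H98 H48.DP H26.DA
open scoped commutatorElement

namespace H29.DPA

universe u
variable {P : Type u} [Group P]

theorem sq_inj (hP : IsPGroup 3 P) {a b : P} (h : a * a = b * b) : a = b :=
  (hP.powEquiv (n := 2) (by norm_num)).injective (by simpa [pow_two] using h)

/-- An involutory automorphism that fixes all commutators. -/
def Iv (α : MulAut P) : Prop := (∀ a, α (α a) = a) ∧ ∀ a b : P, α ⁅a, b⁆ = ⁅a, b⁆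

theorem Iv.cj {α : MulAut P} (h : Iv α) (τ : MulAut P) : Iv (τ * α * τ⁻¹) :=
  ⟨fun a => by simp [h.1], fun a b => by
    rw [MulAut.mul_apply, MulAut.mul_apply, map_commutatorElement τ⁻¹, h.2, map_commutatorElement]; simp⟩

theorem Iv.nrm (hP : IsPGroup 3 P) {α : MulAut P} (h : Iv α) (a : P) : α (a * α a) = a * α a := by
  have e : α (a * α a) = a * α a * ⁅(α a)⁻¹, a⁻¹⁆ := by
    rw [map_mul, h.1, commutatorElement_def]; group
  have e2 := congrArg α e
  rw [h.1, map_mul _ (a * α a), e, h.2, mul_assoc, left_eq_mul] at e2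
  rw [e, sq_inj hP (e2.trans (mul_one 1).symm), mul_one]

theorem core [Finite P] (hP : IsPGroup 3 P) {α τ : MulAut P} (h : Iv α) (t3 : τ * τ * τ = 1)
    (r3 : α * (τ * α * τ⁻¹) * (τ * (τ * α * τ⁻¹) * τ⁻¹) = 1) (n : α ≠ 1) :
    ∃ r, orderOf r = 3 ∧ α r = r ∧ (τ * α * τ⁻¹) r = r⁻¹ ∧ (τ * (τ * α * τ⁻¹) * τ⁻¹) r = r⁻¹ ∧
      Commute r (τ r) := by
  have hb := h.cj τ
  have hc := hb.cj τ
  have ea : τ * (τ * (τ * α * τ⁻¹) * τ⁻¹) * τ⁻¹ = α := by
    calc _ = τ * τ * τ * α * (τ * τ * τ)⁻¹ := by group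
      _ = α := by rw [t3]; group
  have st : ∀ {a b : MulAut P}, (∀ x, a x = x → b x = x) → ∀ x, (τ * a * τ⁻¹) x = x → (τ * b * τ⁻¹) x = x :=
    fun {a b} k x e => by
      have : a (τ⁻¹ x) = τ⁻¹ x := τ.injective (by simpa using e)
      rw [MulAut.mul_apply, MulAut.mul_apply, k _ this]; simp
  generalize eb : τ * α * τ⁻¹ = β at *
  generalize ec : τ * β * τ⁻¹ = γ at *
  have g1 : ∀ x, γ x = α (β x) := fun x => by
    have := DFunLike.congr_fun r3 (γ x)
    rwa [MulAut.mul_apply, MulAut.mul_apply, hc.1, eq_comm] at this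
  have g2 : ∀ x, α (β x) = β (α x) := fun x => by
    have := hc.1 (β (α x))
    rwa [g1 (β (α x)), hb.1, h.1, g1] at this
  obtain ⟨a, a1, a2⟩ : ∃ a, α a = a ∧ β a ≠ a := by
    by_contra k
    push Not at k
    have k2 := st k
    rw [eb, ec] at k2
    have k3 := st k2
    rw [ec, ea] at k3
    refine n (MulEquiv.ext fun a => sq_inj hP ?_)
    let C : Subgroup P := α.toMonoidHom.eqLocus (MonoidHom.id P)
    have c1 : a * α a ∈ C := h.nrm hP a
    have c2 : a * β a ∈ C := k3 _ (k2 _ (hb.nrm hP a))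
    have c3 : a * γ a ∈ C := k3 _ (hc.nrm hP a)
    have e : γ a = (α a)⁻¹ * (a * β a) := by
      rw [← show α (a * β a) = a * β a from c2, map_mul, inv_mul_cancel_left, g1]
    have c4 : ⁅a, (a * α a)⁻¹⁆ ∈ C := h.2 _ _
    have c5 : a * a ∈ C := by
      have := mul_mem (inv_mem (mul_mem c4 (inv_mem c1))) (mul_mem c3 (inv_mem c2))
      rw [e, commutatorElement_def] at this
      convert this using 1
      simp only [mul_inv_rev, inv_inv, mul_assoc, inv_mul_cancel_left, mul_inv_cancel_left, mul_inv_cancel,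
        mul_one]
    exact (map_mul α a a).symm.trans c5
  have f1 : α (a⁻¹ * β a) = a⁻¹ * β a := by rw [map_mul, map_inv, g2, a1]
  have f2 : β (a⁻¹ * β a) = (a⁻¹ * β a)⁻¹ := by rw [map_mul, map_inv, hb.1]; group
  obtain ⟨j, hj⟩ := IsPGroup.iff_orderOf.1 hP (a⁻¹ * β a)
  have o3 : orderOf ((a⁻¹ * β a) ^ (orderOf (a⁻¹ * β a) / 3)) = 3 :=
    orderOf_pow_orderOf_div (orderOf_pos _).ne' (hj ▸ dvd_pow_self 3 (by
      rintro rfl
      exact a2 (inv_mul_eq_one.1 (orderOf_eq_one_iff.1 hj)).symm))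
  generalize orderOf (a⁻¹ * β a) / 3 = m at o3
  have f3 : α ((a⁻¹ * β a) ^ m) = (a⁻¹ * β a) ^ m := by rw [map_pow, f1]
  have f4 : β ((a⁻¹ * β a) ^ m) = ((a⁻¹ * β a) ^ m)⁻¹ := by rw [map_pow, f2, inv_pow]
  generalize (a⁻¹ * β a) ^ m = r at o3 f3 f4
  have f5 : γ r = r⁻¹ := by rw [g1, f4, map_inv, f3]
  refine ⟨r, o3, f3, f4, f5, ?_⟩
  have f6 : α (τ r) = (τ r)⁻¹ := by rw [← ea, ← map_inv, ← f5]; simp
  have f7 := h.2 r (τ r)
  rw [map_commutatorElement, f3, f6] at f7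
  have f8 : τ r ^ 3 = 1 := by rw [← map_pow, ← o3, pow_orderOf_eq_one, map_one]
  generalize τ r = s at f7 f8
  have f9 : Commute r (s * s) := by
    simp only [commutatorElement_def, inv_inv, mul_assoc, mul_right_inj] at f7
    refine Commute.inv_left_iff.1 ?_
    calc r⁻¹ * (s * s) = s * (s⁻¹ * (r⁻¹ * s)) * s := by group
      _ = _ := by rw [f7]; group
  have := f9.mul_right f9
  rwa [show s * s * (s * s) = s ^ 3 * s by simp only [pow_succ, pow_zero, one_mul, mul_assoc], f8,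
    one_mul] at this

theorem jobN0 : JobN0.{u} := by
  intro G _ _ R v y hR _ y3 vR yR v2 r3 n
  have : Fact (Nat.Prime 3) := ⟨Nat.prime_three⟩
  obtain ⟨S, -, ⟨le, vS, yS, nS⟩, mn⟩ := Finite.exists_le_minimal
    (p := fun S : Subgroup G => S ≤ R ∧ v ∈ No S ∧ y ∈ No S ∧ v ∉ Ce S) (a := R) ⟨le_rfl, vR, yR, n⟩
  have hS := hR.to_le le
  have lt : ⁅S, S⁆ < S := commutator_lt_of_isPGroup hS hS le_normalizer fun e => nS (by
    rw [e]; intro x hx; rw [mem_bot.1 hx, one_mul, mul_one])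
  have nn : No S ≤ No ⁅S, S⁆ := le_normalizer_commutator le_rfl le_rfl
  have c : v ∈ Ce ⁅S, S⁆ := by_contra fun k => lt.not_ge (mn ⟨lt.le.trans le, nn vS, nn yS, k⟩ lt.le)
  let φ := S.normalizerMonoidHom
  have k : ∀ g : No S, g.1 ∈ Ce S → φ g = 1 := fun g hg => MulEquiv.ext fun x =>
    Subtype.ext (mul_inv_eq_of_eq_mul (hg x x.2).symm)
  obtain ⟨r, o, a, b, d, e⟩ := core hS (α := φ ⟨v, vS⟩) (τ := φ ⟨y, yS⟩)
    ⟨fun a => by rw [← MulAut.mul_apply, ← map_mul, k _ (centralizer_le le v2)]; rfl, fun a b =>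
      Subtype.ext (mul_inv_eq_of_eq_mul (c _ (commutator_mem_commutator a.2 b.2)).symm)⟩
    (by rw [← map_mul, ← map_mul, ← map_one φ]; exact congrArg φ (Subtype.ext ((pow_three' y).symm.trans y3)))
    (by
      simp only [← map_inv, ← map_mul]
      refine k _ (centralizer_le le ?_)
      convert r3 using 1
      simp only [coe_mul, coe_inv]; group)
    fun e => nS fun x hx => (mul_inv_eq_iff_eq_mul.1
      (congrArg Subtype.val (DFunLike.congr_fun e (⟨x, hx⟩ : S)) : v * x * v⁻¹ = x)).symm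
  simp only [← map_inv, ← map_mul] at b d
  refine ⟨r, le r.2, (orderOf_coe r).trans o, congrArg Subtype.val a, congrArg Subtype.val b, ?_,
    congrArg Subtype.val e⟩
  refine Eq.trans ?_ (congrArg Subtype.val d)
  change _ = y * (y * v * y⁻¹) * y⁻¹ * r * (y * (y * v * y⁻¹) * y⁻¹)⁻¹
  group

end H29.DPA
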