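import Cfsg.Agent.H28.TESpec
import Cfsg.Agent.H14.Tight

/-! Tower NF (S1308), chapter TE part 1, job `EG`: the structure of an edge. -/

set_option autoImplicit false

open Cfsg Subgroup H14 H98 H1.Gold H31.S2 H14.GC H14.FE H14.NF H28.TE
open scoped commutatorElement

namespace H29.TEG

universe u

theorem jobEG : JobEG.{u} := by
  intro G _ _ Q h Q₁ Q₂ v1 v2 ne T hT T1 R hR TR
  obtain ⟨g, rfl⟩ := v1.exists_cj v2
  have te : IsTightlyEmbedded Q₁ := by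
    obtain ⟨a, rfl⟩ := v1
    exact te_cj h.te a
  have hg : g ∉ nor Q₁ := fun e => ne (cj_eq_self_iff.2 e).symm
  have TQ : T ≤ nor Q₁ := hT.le.trans inf_le_right
  have S2 : IsPGroup 2 ↥(T ⊔ R) := hT.isPGroup.to_sup_of_normal_right' hR.isPGroup TR
  have k : ∀ U : Subgroup G, IsPGroup 2 U → T ⊔ R ≤ U → U ⊓ Q₁ = R := fun U h1 h2 =>
    hR.eq_of_le (h1.to_le inf_le_left) (le_inf (le_sup_right.trans h2) hR.le) inf_le_right
  have hS : IsSyl 2 (T ⊔ R) (Q₁ ⊔ T) := by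
    refine ⟨sup_le le_sup_right (hR.le.trans le_sup_left), S2, fun U h1 h2 h3 =>
      le_antisymm (fun u hu => ?_) h2⟩
    obtain ⟨t, ht, q, hq, rfl⟩ := (mem_sup_left_norm TQ).1 (sup_comm Q₁ T ▸ h3 hu)
    exact mul_mem (mem_sup_left ht) (mem_sup_right ((k U h1 h2).le
      ⟨(U.mul_mem_cancel_left (h2 (mem_sup_left ht))).1 hu, hq⟩))
  obtain ⟨-, h2, -, ⟨e⟩⟩ := te_structure te hg T1 hT hS le_sup_left
  have c : ∀ r ∈ R, r ∈ nor T → r ∈ cen T := fun r hr hn t ht => by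
    have := commutator_mem_commutator ht
      (show r ∈ (T ⊔ R) ⊓ nor T ⊓ Q₁ from ⟨⟨mem_sup_right hr, hn⟩, hR.le hr⟩)
    rwa [h2, mem_bot, commutatorElement_eq_one_iff_mul_comm] at this
  have e1 : (T ⊔ R) ⊓ nor T ⊓ Q₁ = R ⊓ cen T := by
    refine le_antisymm (fun r hr => ?_) fun r hr =>
      ⟨⟨mem_sup_right hr.1, centralizer_le_normalizer _ hr.2⟩, hR.le hr.1⟩
    have m : r ∈ R := (k _ S2 le_rfl).le ⟨hr.1.1, hr.2⟩
    exact ⟨m, c r m hr.1.2⟩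
  refine ⟨fun t ht t1 r hr => c r hr.1 ?_, ⟨(MulEquiv.subgroupCongr e1.symm).trans e⟩⟩
  obtain ⟨d, hd, d2⟩ := exists_inv_two (hT.isPGroup.to_le (zpowers_le.2 ht))
    (fun e => t1 (zpowers_eq_bot.1 e))
  have rn : r ∈ nor (cj g Q₁) := by
    refine h.cen_le _ v2 d (hT.le (zpowers_le.2 ht hd)).1 d2 (mem_cen1.2 ?_)
    obtain ⟨i, rfl⟩ := hd
    exact ((show Commute r t from mem_cen1.1 hr.2).zpow_right i).eq
  have e2 : (T ⊔ R) ⊓ cj g Q₁ = T := hT.eq_of_le (S2.to_le inf_le_left)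
    (le_inf le_sup_left (hT.le.trans inf_le_left))
    (le_inf inf_le_right (inf_le_left.trans (sup_le TQ (hR.le.trans le_normalizer))))
  rw [← e2]
  exact cj_eq_self_iff.1 (by
    rw [cj_inf, cj_eq_self_iff.2 rn, cj_eq_self_iff.2 (le_normalizer (mem_sup_right hr.1))])

end H29.TEG
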