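import Cfsg.Agent.H28.TESpec2

/-! Tower NF (S1308), chapter TE part 1, job `RQ`: commutators of a Sylow subgroup of `Q`. -/

set_option autoImplicit false

open Cfsg Subgroup H14 H98 H1.Gold H31.S2 H14.GC H14.FE H14.NF H28.TE
open scoped commutatorElement

namespace H29.TRQ

universe u

theorem jobRQ : JobRQ.{u} := by
  intro zc ra G _ _ Q h hl R' hR' x hx x' hx'
  obtain ⟨Q₂, T, v2, ne, sT, nb, nf⟩ := h.ex
  obtain ⟨R, hR, -, hn⟩ := inv_syl (Y := Q) sT.isPGroup (sT.le.trans inf_le_right)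
  have ln := (hl _ _ (vx_self _) v2 ne T sT nb R hR hn).2 nf
  have a : AR Q (R ⊓ cen T) T R := ⟨hR, inf_le_left, hn⟩
  obtain ⟨g, -, rfl⟩ := hR.exists_cj_eq hR'
  obtain ⟨y, hy, rfl⟩ := hx
  obtain ⟨y', hy', rfl⟩ := hx'
  obtain ⟨h1, h2, h3⟩ := ((zc G _ _ _ _ _ ln R a).1.le (ra G _ _ _ _ _ ln R a y hy y' hy') :
    ⁅y, y'⁆ ∈ OZ R)
  rw [← map_commutatorElement]
  refine ⟨mem_map_of_mem _ h1, ?_, by rw [← map_mul, h3, map_one]⟩
  rintro _ ⟨w, hw, rfl⟩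
  rw [← map_mul, ← map_mul, h2 w hw]

end H29.TRQ
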