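/- A8S (S3152), slot FG. -/
import Cfsg.Agent.H63.A8Def
import Cfsg.Agent.H29.SAFG
import Cfsg.Agent.H76.SAFB

set_option autoImplicit false
set_option linter.unusedSectionVars false

open H64.SG (O2 Syl Cz Cs Ns cjs Is2 Inv2 fx mem_Cz)
open Matrix H57 H67.SA Subgroup H29.SA

namespace H29.A8G

variable {K : Type} [Field K] [Finite K] [CharP K 2]

def mm (v : Fin 5 → K) : SLn 3 K :=
  ⟨!![1, v 0, v 1, v 2; 0, 1, v 3, v 4; 0, 0, 1, v 0; 0, 0, 0, 1], by
    rw [det_of_isUpperTriangular]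
    · simp [Fin.prod_univ_four]
    · intro a b h
      fin_cases a <;> fin_cases b <;> first | rfl | exact absurd h (by decide)⟩

theorem mm_inj : Function.Injective (mm (K := K)) := fun v w h => by
  have h1 := congrArg Subtype.val h
  funext i
  fin_cases i
  exacts [congrFun (congrFun h1 0) 1, congrFun (congrFun h1 0) 2, congrFun (congrFun h1 0) 3,
    congrFun (congrFun h1 1) 2, congrFun (congrFun h1 1) 3]

theorem mm_U (v : Fin 5 → K) : mm v ∈ UU 3 K := mem_UU.2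
  ⟨fun i => by fin_cases i <;> rfl, fun a b h => by
    fin_cases a <;> fin_cases b <;> first | rfl | exact absurd h (by decide)⟩

theorem xk1 : (xk K 3 1).1 = !![1, 0, 0, 1; 0, 1, 0, 0; 0, 0, 1, 0; 0, 0, 0, 1] := by
  ext a b
  fin_cases a <;> fin_cases b <;> simp [xk]

theorem xk2 : (xk K 3 2).1 = !![1, 0, 1, 0; 0, 1, 0, 1; 0, 0, 1, 0; 0, 0, 0, 1] := by
  ext a b
  fin_cases a <;> fin_cases b <;> simp [xk]

theorem mm_C {k : ℕ} (h : k = 1 ∨ k = 2) (v : Fin 5 → K) : mm v ∈ Cz (xk K 3 k) := by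
  refine mem_Cz.2 (Subtype.ext ?_)
  change (xk K 3 k).1 * (mm v).1 = (mm v).1 * (xk K 3 k).1
  rcases h with rfl | rfl
  · rw [xk1]
    ext a b
    fin_cases a <;> fin_cases b <;> simp [mm, Matrix.mul_apply, Fin.sum_univ_four, add_comm]
  · rw [xk2]
    ext a b
    fin_cases a <;> fin_cases b <;> simp [mm, Matrix.mul_apply, Fin.sum_univ_four, add_comm]

theorem pU : IsPGroup 2 (UU 3 K) := by
  obtain ⟨f, -, hf⟩ := exists_card_eq (F := K)
  exact IsPGroup.of_card (by rw [UU, card_Pat uni_UU, hf, ← pow_mul])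

theorem bk (hK : Nat.card K = 4) (g : SLn 3 K) (hg : g * g = 1) :
    ∃ P ≤ Cz g, IsPGroup 2 P ∧ 512 ≤ Nat.card P := by
  obtain ⟨h, k, hk, e⟩ : ∃ h k, (k = 1 ∨ k = 2) ∧ ∀ y ∈ Cz (xk K 3 k), h⁻¹ * y * h ∈ Cz g := by
    by_cases h1 : g = 1
    · exact ⟨1, 1, .inl rfl, fun y _ => mem_Cz.2 (by simp [h1])⟩
    obtain ⟨h, k, k1, k2, e⟩ := H76.SAFB.ic (by norm_num) g ⟨hg, h1⟩
    refine ⟨h, k, by omega, fun y hy => mem_Cz.2 ?_⟩
    have := mem_Cz.1 (e ▸ hy)
    calc g * (h⁻¹ * y * h) = h⁻¹ * (h * g * h⁻¹ * y) * h := by group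
      _ = _ := by rw [this]; group
  refine ⟨(UU 3 K ⊓ Cz (xk K 3 k)).map (MulAut.conj h⁻¹).toMonoidHom, ?_,
    (pU.to_inf_left).map _, ?_⟩
  · rintro _ ⟨y, hy, rfl⟩
    simpa using e y hy.2
  · rw [card_map_of_injective (MulAut.conj h⁻¹).injective]
    have := Nat.card_le_card_of_injective
      (fun v : Fin 5 → K => (⟨mm v, mm_U v, mm_C hk v⟩ : ↥(UU 3 K ⊓ Cz (xk K 3 k))))
      fun v w e => mm_inj (congrArg Subtype.val e)
    rw [Nat.card_fun, hK, Nat.card_eq_fintype_card, Fintype.card_fin] at this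
    omega

theorem jobFG : H63.A8.J8FG := by
  intro n F _ _ _ hp K _ _ _ hK
  obtain ⟨rfl, hF⟩ := hp
  rw [hF] at hK
  refine ⟨ft, fun β h2 hg => ?_, bk hK⟩
  have hn : 2 ≤ 3 := by norm_num
  rcases rep hn h2 (fun e => hg (by rw [e]; rfl)) with ⟨σ, -, -, e⟩ | ⟨J, rfl⟩ | ⟨σ, s1, s2, e⟩
  · exact absurd (by rw [out_of_isConj e, out_slField hn]) hg
  · obtain ⟨P, a, b, c⟩ := big_gr_even h2 (by decide)
    rw [hK] at c
    exact .inl ⟨P, a, b, c⟩
  · cases nonempty_fintype K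
    cases nonempty_fintype F
    obtain ⟨q, hq, ⟨e'⟩⟩ := fx_gf s1 s2 e
    obtain rfl : q = 2 := by
      rw [← Nat.card_eq_fintype_card, hK] at hq
      exact (Nat.pow_left_injective two_ne_zero hq).symm
    refine .inr ⟨_, le_rfl,
      (comm_eq_of_equiv e' (H59.commutator_SU hq (by omega) (by omega))).ge, 27, ?_, ?_⟩
    · have c : center (SLn 3 K) = ⊥ := by
        rw [← card_eq_one, card_center_sl, hK]
        simp
      have := H59.card_SU hq (n := 3 + 1) (by norm_num)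
      rw [show H59.ordGU 2 (3 + 1) = 77760 by decide] at this
      rw [c, relIndex_bot_left, Nat.card_congr e'.toEquiv]
      omega
    · rw [card_sl_fin_eq, ← Nat.card_eq_fintype_card, hF]
      decide

end H29.A8G
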