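/- A8S (S3152), slot HQ: `t` is not a square, the involutions of `S₀` are. -/
import Cfsg.Agent.H63.A8Def
import Cfsg.Agent.H67.SAInd

set_option autoImplicit false
set_option linter.unusedSectionVars false

open H64.SG (O2 Syl Cz Cs Ns cjs Is2 Inv2 fx mem_Cz)
open H67.SA Subgroup H63.A8
open H32.HS (U el A decAll decEx decBAll decBEx)

namespace H29.A8Q

universe u

section
variable {G : Type*} [Group G]

/-- `L ∪ s L` -/
def ext (L : Subgroup G) (s : G) (h2 : s * s = 1) (hn : ∀ l ∈ L, s * l * s⁻¹ ∈ L) : Subgroup G where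
  carrier := {y | s * y ∈ L ∨ y ∈ L}
  one_mem' := .inr L.one_mem
  mul_mem' := by
    rintro y z (hy | hy) (hz | hz)
    · refine .inr ?_
      have := L.mul_mem (hn _ hy) hz
      rwa [← mul_assoc s s, h2, one_mul, mul_assoc, inv_mul_cancel_left] at this
    · exact .inl (by rw [← mul_assoc]; exact L.mul_mem hy hz)
    · refine .inl ?_
      have := L.mul_mem (hn _ hy) hz
      rwa [mul_assoc, inv_mul_cancel_left, mul_assoc] at this
    · exact .inr (L.mul_mem hy hz)
  inv_mem' := by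
    rintro y (hy | hy)
    · refine .inl ?_
      have := hn _ (L.inv_mem hy)
      rwa [mul_inv_rev, mul_assoc, mul_assoc, ← mul_inv_rev, h2, inv_one, mul_one] at this
    · exact .inr (L.inv_mem hy)

theorem card_ext {L : Subgroup G} {s : G} (h2 : s * s = 1) (hn : ∀ l ∈ L, s * l * s⁻¹ ∈ L)
    (hs : s ∉ L) : Nat.card (ext L s h2 hn) = Nat.card L * 2 := by
  have h0 : s ∈ ext L s h2 hn := .inl (h2 ▸ L.one_mem)
  have h1 : L.relIndex (ext L s h2 hn) ∣ 2 := relIindex_dvd_two_iff'.2 ⟨s, h0, fun _ h => h⟩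
  have h3 : L ≤ ext L s h2 hn := fun _ h => .inr h
  rcases (Nat.dvd_prime Nat.prime_two).1 h1 with h | h
  · exact absurd (relIndex_eq_one.1 h h0) hs
  · rw [← (L.subgroupOf (ext L s h2 hn)).card_mul_index,
      Nat.card_congr (subgroupOfEquivOfLe h3).toEquiv]
    exact congrArg _ h

end

variable {n : ℕ} {F : Type} [Field F] [Finite F] [CharP F 2] {G : Type u} [Group G] [Finite G]
  {e : SLn n F →* G} {t : G}

theorem out1 (hp : Par8 n F) (β : Au n F) : (out n F β).1 = 1 := by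
  ext c
  rcases hp.fld c with rfl | rfl <;> simp

theorem out3 (hp : Par8 n F) (β β' : Au n F) :
    out n F β = 1 ∨ out n F β' = 1 ∨ out n F (β * β') = 1 := by
  have : ∀ a b : Multiplicative (ZMod 2), a = 1 ∨ b = 1 ∨ a * b = 1 := by decide
  simpa only [Prod.ext_iff, out1 hp, Prod.fst_one, true_and, Prod.snd_one, map_mul, Prod.snd_mul,
    Prod.fst_mul, mul_one] using this (out n F β).2 (out n F β').2

theorem inn (hp : Par8 n F) (h : CE e t) (a : AE e t) {y : G} {β : Au n F} (hy : y ∈ Cz t)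
    (h2 : Is2 y) (hi : Ind e y β) (ho : out n F β = 1) : t * y ∈ e.range ∨ y ∈ e.range := by
  obtain ⟨s, -, -, k, hk, -, e1, -⟩ := hi.inner hp.two_le h.ker ho h2
  exact (a.inn y hy h2 ⟨e s, ⟨s, rfl⟩, by rwa [e1, mul_inv_cancel_right]⟩).symm

theorem invol (hp : Par8 n F) (h : CE e t) (a : AE e t) {r : G} (hr : r * r = t) {i : G}
    (hi : i ∈ Cz t) (h2 : i * i = 1) : t * i ∈ e.range ∨ i ∈ e.range := by
  have nt := h.toB1.not_mem hp.two_le
  have tt := h.inv.1
  have rt : r ∈ Cz t := mem_Cz.2 (by rw [← hr, mul_assoc])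
  obtain ⟨ρ, hρ⟩ := exists_ind hp.two_le h.ker (h.cz rt)
  obtain ⟨ι, hι⟩ := exists_ind hp.two_le h.ker (h.cz hi)
  rcases out3 hp ι ρ with o | o | o
  · exact inn hp h a hi ⟨1, by rw [pow_one, pow_two, h2]⟩ hι o
  · refine absurd ?_ nt
    rcases inn hp h a rt ⟨2, by rw [show 2 ^ 2 = 2 * 2 from rfl, pow_mul, pow_two, pow_two, hr, tt]⟩
      hρ o with k | k
    · have := mul_mem k k
      rwa [mul_assoc, ← mul_assoc r, ← mem_Cz.1 rt, mul_assoc, hr, tt, mul_one] at this
    · exact hr ▸ mul_mem k k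
  · refine absurd ?_ nt
    obtain ⟨k, m, ⟨j, hm⟩, ho⟩ := Nat.exists_eq_two_pow_mul_odd (orderOf_pos (i * r)).ne'
    have c1 : Commute t (i * r) := mem_Cz.1 (mul_mem hi rt)
    have e1 : i * (i * r) * i⁻¹ = t * (i * r)⁻¹ := by
      rw [← mul_assoc, h2, one_mul, ← hr]; group
    have e2 : i * (i * r) ^ m * i⁻¹ = t * ((i * r) ^ m)⁻¹ := by
      rw [← conj_pow, e1, c1.inv_right.mul_pow, inv_pow, hm, pow_succ t, pow_mul t, pow_two t, tt,
        one_pow, one_mul]
    have c2 : Commute t ((i * r) ^ m) := c1.pow_right m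
    have nm := mem_normalizer_iff.1 (h.cz hi)
    rcases inn hp h a (mem_Cz.2 c2) ⟨k, by rw [← pow_mul, mul_comm, ← ho, pow_orderOf_eq_one]⟩
      ((hι.mul hρ).pow m) (by rw [map_pow, o, one_pow]) with k | k
    · have := mul_mem ((nm _).1 k) k
      rwa [← mul_assoc i, ← mem_Cz.1 hi, mul_assoc t i, mul_assoc t, e2, ← mul_assoc t, tt, one_mul,
        c2.eq, inv_mul_cancel_left] at this
    · have := mul_mem ((nm _).1 k) k
      rwa [e2, inv_mul_cancel_right] at this

/-- the codes of `C_W(s)` -/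
def pC (s : U) : Bool := Nat.testBit 0x50A0050AA0500A05 (s.n % 64)

def l1 : List U := [1, el 22, el 22 * el 22, el 22 * el 22 * el 22]
def l2 : List U := [1, el 11, el 11 * el 11, el 11 * el 11 * el 11]
def l3 : List U := [1, el 64, el 256, el 256 * el 64, el 64 * el 256, el 256 * el 64 * el 256,
  el 64 * el 256 * el 64, el 256 * el 64 * el 256 * el 64]

theorem dC : ∀ s : U, pC s = true → ∃ d ∈ l3, ∃ i ∈ l1, ∃ j ∈ l2, s * d = i * j := by
  decide +kernel

theorem card_ge {M : Subgroup U} (h1 : el 22 ∈ M) (h2 : el 11 ∈ M) (h3 : el 256 ∈ M)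
    (h4 : el 64 ∈ M) : 128 ∣ Nat.card M := by
  have k1 : ∀ i ∈ l1, i ∈ M := by simp [l1, mul_mem, one_mem, h1]
  have k2 : ∀ i ∈ l2, i ∈ M := by simp [l2, mul_mem, one_mem, h2]
  have k3 : ∀ i ∈ l3, i ∈ M := by simp [l3, mul_mem_cancel_right, one_mem, h3, h4]
  have k : ∀ s : U, pC s = true → s ∈ M := fun s hs => by
    obtain ⟨d, hd, i, hi, j, hj, e⟩ := dC s hs
    exact (mul_mem_cancel_right (k3 d hd)).1 (e ▸ mul_mem (k1 i hi) (k2 j hj))
  have c := Nat.card_le_card_of_injective (fun s : {s // pC s = true} => (⟨s.1, k s.1 s.2⟩ : M))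
    fun a b h => Subtype.ext (congrArg (fun x : M => x.1) h)
  rw [H32.HS.card_eq, show ((List.range 512).filter fun n => decide (pC (el n) = true)).length = 128
    by decide +kernel] at c
  have d := card_subgroup_dvd_card M
  rw [H32.HS.card, show 512 = 2 ^ 9 from rfl] at d
  obtain ⟨i, hi, e⟩ := (Nat.dvd_prime_pow Nat.prime_two).1 d
  rw [e] at c ⊢
  exact pow_dvd_pow 2 ((Nat.pow_le_pow_iff_right one_lt_two).1 (show 2 ^ 7 ≤ 2 ^ i from c))

theorem d1 : ∀ u ∈ [el 22, el 11, el 256, el 64], tau u * el 192 = el 192 * u := by decide +kernel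
theorem d2 : ∀ u ∈ [el 22, el 11], tau u * u = 1 := by decide +kernel
theorem d3 : ∀ u ∈ [el 256, el 64], u * u = 1 := by decide +kernel

theorem d4 : ∀ s : U, s * s = 1 → (∃ k ∈ [1, el 256, el 64], ∃ a ∈ [el 256, el 64],
    k * s * k⁻¹ * a ∈ A) ∨ ∃ u, s = u * u ∨ s = u * tau u := by decide +kernel

theorem d5 : ∀ w : U, w ∈ A → w * el 192 * (w * el 192) = 1 →
    ∃ u, w * el 192 = u * u ∨ w * el 192 = u * tau u := by decide +kernel

theorem sq_of {W : Subgroup G} {φ : U →* G} (m : HM e t W φ) (tt : t * t = 1) {s : U}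
    (h : ∃ u, s = u * u ∨ s = u * tau u) : ∃ r, φ s = r * r := by
  obtain ⟨u, rfl | rfl⟩ := h
  · exact ⟨φ u, map_mul _ _ _⟩
  · exact ⟨φ u * t, by rw [map_mul, ← m.ta, inv_eq_of_mul_eq_one_right tt]; group⟩

theorem jobHQ (AB : J8AB.{u}) : J8HQ.{u} := by
  intro n F _ _ _ hp G _ _ e t w₁ w₂ w₃ φ h c m
  obtain rfl := hp.three
  have tt := h.inv.1
  have ti := inv_eq_of_mul_eq_one_right tt
  refine ⟨fun r hr => ?_, fun s hs => ?_⟩
  · let g := e (pm (Equiv.swap 0 1)) * w₃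
    have es : g * t * g⁻¹ = t * φ (el 192) := by
      have e1 : w₃ * t * w₃⁻¹ = e (x 0 (la 3) 1) * t := by
        rw [← c.s3, mul_assoc w₃ w₃, mul_assoc w₃ t, ← c.t3, ← mul_assoc t, ← mul_assoc t, tt, one_mul, ti]
      have e2 := congrArg e (pm_conj (F := F) (Equiv.swap (0 : Fin (3 + 1)) 1) 0 (la 3) 1)
      rw [show Equiv.swap (0 : Fin (3 + 1)) 1 0 = 1 by decide,
        show Equiv.swap (0 : Fin (3 + 1)) 1 (la 3) = la 3 by decide, map_mul, map_mul, map_inv] at e2
      rw [m.ec, h.toB1.comm, ← e2]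
      calc g * t * g⁻¹ = e (pm (Equiv.swap 0 1)) * (w₃ * t * w₃⁻¹) * (e (pm (Equiv.swap 0 1)))⁻¹ := by
            simp only [g]; group
        _ = _ := by
          rw [e1, mul_assoc _ _ t, ← map_inv, ← h.toB1.comm]; simp only [mul_assoc, h.toB1.comm]
    have h' := h.cje g
    have iv := fun i => invol (i := i) hp h' ((AB 3 F hp G _ _).2 h') (r := g * r * g⁻¹)
      (by rw [← hr]; group)
    have ns := h'.toB1.not_mem hp.two_le
    have s2 := h'.inv.1
    have sn : ∀ l ∈ (cje g e).range, g * t * g⁻¹ * l * (g * t * g⁻¹)⁻¹ ∈ (cje g e).range := by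
      rintro _ ⟨l, rfl⟩
      exact ⟨l, (h'.toB1.conj_eq l).symm⟩
    have cM := card_ext s2 sn ns
    have hM : ∀ i ∈ Cz (g * t * g⁻¹), i * i = 1 → i ∈ ext _ _ s2 sn := iv
    generalize ext _ _ s2 sn = M at cM hM
    rw [es] at hM
    have ta : ∀ u, φ u * t = t * φ (tau u) := fun u => by
      rw [← m.ta, ← mul_assoc, ← mul_assoc, tt, one_mul, ti]
    have cs : ∀ u ∈ [el 22, el 11, el 256, el 64], φ u ∈ Cz (t * φ (el 192)) := fun u hu =>
      mem_Cz.2 (by rw [← mul_assoc, ta, mul_assoc, mul_assoc, ← map_mul, ← map_mul, d1 u hu])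
    have tc : t ∈ Cz (t * φ (el 192)) := mem_Cz.2 (by rw [m.ec, mul_assoc, h.toB1.comm])
    have tM := hM t tc tt
    have a1 : ∀ u ∈ [el 22, el 11], u ∈ M.comap φ := fun u hu =>
      (mul_mem_cancel_left tM).1 (hM _ (mul_mem tc (cs u (by simp at hu ⊢; tauto))) (by
        rw [← ti, mul_assoc, ← mul_assoc (φ u), ti, ta, ← mul_assoc, ← mul_assoc, tt, one_mul,
          ← map_mul, d2 u hu, map_one]))
    have a2 : ∀ u ∈ [el 256, el 64], u ∈ M.comap φ := fun u hu =>
      hM _ (cs u (by simp at hu ⊢; tauto)) (by rw [← map_mul, d3 u hu, map_one])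
    have k := card_ge (a1 _ (by simp)) (a1 _ (by simp)) (a2 _ (by simp)) (a2 _ (by simp))
    have hn : ∀ l ∈ (M.comap φ).map φ, t * l * t⁻¹ ∈ (M.comap φ).map φ := by
      rintro _ ⟨u, hu, rfl⟩
      exact ⟨tau u, show φ (tau u) ∈ M from m.ta u ▸ mul_mem (mul_mem tM hu) (inv_mem tM),
        (m.ta u).symm⟩
    have le : ext _ t tt hn ≤ M := fun y hy => hy.elim
      (fun hy => (mul_mem_cancel_left tM).1 (map_comap_le _ _ hy)) fun hy => map_comap_le _ _ hy
    have k2 := card_dvd_of_le le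
    rw [card_ext tt hn (fun k => m.nt (map_le_range _ _ k)), card_map_of_injective m.inj, cM] at k2
    have k3 := (k.trans (Nat.dvd_of_mul_dvd_mul_right two_pos k2)).trans
      (card_dvd_of_surjective _ (cje g e).rangeRestrict_surjective)
    cases nonempty_fintype F
    rw [H57.card_sl_fin_eq, ← Nat.card_eq_fintype_card, hp.two] at k3
    exact absurd k3 (by decide)
  · have s2 : s * s = 1 := m.inj (by rw [map_mul, hs, map_one])
    rcases d4 s s2 with ⟨k, -, a, ha, hw⟩ | hu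
    · obtain ⟨p, hP, ep⟩ : ∃ p ∈ Pr 3 F, e p * φ a * (e p)⁻¹ = φ (el 192) := by
        have pp : ∀ i j : Fin (3 + 1), i ≠ 0 → j ≠ 0 → pm (F := F) (Equiv.swap i j) ∈ Pr 3 F :=
          fun i j hi hj => pm_mem _ fun a b _ hb e =>
            hb (by rw [e, Equiv.swap_apply_of_ne_of_ne hi.symm hj.symm])
        simp only [List.mem_cons, List.not_mem_nil, or_false] at ha
        rcases ha with rfl | rfl
        · refine ⟨_, pp 2 3 (by decide) (by decide), ?_⟩
          rw [m.ea, m.ec, ← map_inv, ← map_mul, ← map_mul, pm_conj]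
          rfl
        · refine ⟨_, pp 1 2 (by decide) (by decide), ?_⟩
          rw [m.eb, m.ec, ← map_inv, ← map_mul, ← map_mul, pm_conj]
          rfl
      have a2 := d3 a ha
      have h1 : φ (k * s * k⁻¹ * a) ∈ WW w₁ w₂ w₃ := m.mA ▸ mem_map_of_mem φ hw
      have h2 := (mem_normalizer_iff.1 (c.pr (mem_map_of_mem e hP)) _).1 h1
      rw [← m.mA] at h2
      obtain ⟨w, hw', ew⟩ := h2
      have e1 : e p * φ k * φ s * (e p * φ k)⁻¹ = φ (w * el 192) := by
        rw [map_mul, ew, ← ep]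
        have : φ a * φ a = 1 := by rw [← map_mul, a2, map_one]
        simp only [map_mul, map_inv, mul_assoc, inv_mul_cancel_left, mul_inv_rev]
        rw [← mul_assoc (φ a), this, one_mul]
      obtain ⟨r, hr⟩ := sq_of m tt (d5 w hw' (m.inj (by
        rw [map_mul, ← e1, map_one, conj_mul, hs]; group)))
      exact ⟨_, r, e1.trans hr⟩
    · obtain ⟨r, hr⟩ := sq_of m tt hu
      exact ⟨1, r, by rw [← hr]; group⟩

end H29.A8Q
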