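import Cfsg.Agent.H88.CGKit

/-! CG tower, job G1: coordinates on the Sylow subgroup. -/

set_option autoImplicit false
set_option linter.unusedSectionVars false

namespace H29.CG1
open Subgroup _root_.Cfsg H98 H1.Gold H86.L34 H88.AS H88.CG
open H6 (F4)
open H88.TE (sqs mc1)

universe u
variable {G : Type u} [Group G]

def q (d : GD G) (a b e s t : F4) : G := d.u a b e * d.v s t

def xp (d : GD G) : F4 → G
  | .v => d.x
  | .w => d.x ^ 2
  | _ => 1

theorem q_cg (d : GD G) {a b e s t a' b' e' s' t' : F4} (h1 : a = a') (h2 : b = b') (h3 : e = e') (h4 : s = s')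
    (h5 : t = t') : q d a b e s t = q d a' b' e' s' t' := by rw [h1, h2, h3, h4, h5]

/-- cosets counting -/
theorem card_le_mul [Finite G] {ι : Type*} [Finite ι] {T T' : Subgroup G} (I : Set ι) (P : ι → G → Prop)
    (h1 : ∀ g ∈ T, ∃ i ∈ I, P i g) (h2 : ∀ i, ∀ g ∈ T, ∀ g' ∈ T, P i g → P i g' → g⁻¹ * g' ∈ T') :
    Nat.card T ≤ I.ncard * Nat.card ↥(T ⊓ T') := by
  classical
  choose f hf hP using fun g : T => h1 g g.2
  have ex : ∀ i : ι, ∃ g : T, (∃ g' : T, P i g') → P i g := fun i => by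
    by_cases e : ∃ g' : T, P i g'
    · exact ⟨e.choose, fun _ => e.choose_spec⟩
    · exact ⟨1, fun e' => (e e').elim⟩
  choose c hc using ex
  rw [← Nat.card_coe_set_eq, ← Nat.card_prod]
  refine Nat.card_le_card_of_injective (fun g : T => ((⟨f g, hf g⟩ : I), (⟨(c (f g) : G)⁻¹ * g,
    T.mul_mem (T.inv_mem (c _).2) g.2, h2 _ _ (c _).2 _ g.2 (hc _ ⟨g, hP g⟩) (hP g)⟩ : ↥(T ⊓ T')))) fun a b e => ?_
  obtain ⟨e1, e2⟩ := Prod.ext_iff.1 e
  have e3 : f a = f b := Subtype.ext_iff.1 e1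
  have e4 : (c (f a) : G)⁻¹ * a = (c (f b) : G)⁻¹ * b := Subtype.ext_iff.1 e2
  rw [e3] at e4
  exact Subtype.ext (mul_left_cancel e4)

variable {d : GD G} (h : GR d)
include h

theorem q_u (a b e : F4) : q d a b e 0 0 = d.u a b e := by rw [q, h.v0, mul_one]
theorem q_v (s t : F4) : q d 0 0 0 s t = d.v s t := by rw [q, h.hm.one, one_mul]
theorem q_one : q d 0 0 0 0 0 = 1 := by rw [q_u h, h.hm.one]
theorem qA (a b e s t : F4) : q d a b e s t ∈ d.A := mul_mem (h.uA ..) (h.vA ..)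
theorem qD (a b e s t : F4) : q d a b e s t ∈ d.D := mul_mem (h.uD ..) (h.vD ..)

theorem q_mul (a b e s t a' b' e' s' t' : F4) : q d a b e s t * q d a' b' e' s' t' =
    q d (a + a') (b + b') (e + e' + a * b' + t * s') (s + s') (t + t') := by
  have h4 := (h.uv a' b' e' s t).eq
  have h5 := (h.uv 0 0 (t * s') (s + s') (t + t')).eq
  calc _ = d.u a b e * (d.v s t * d.u a' b' e') * d.v s' t' := by simp only [q, mul_assoc]
    _ = d.u a b e * d.u a' b' e' * (d.v s t * d.v s' t') := by rw [← h4]; simp only [mul_assoc]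
    _ = _ := by
      rw [h.vv, ← h5, ← mul_assoc, h.hm.mul, h.hm.mul, q]
      simp only [add_zero, mul_zero]

theorem q_inv (a b e s t : F4) : (q d a b e s t)⁻¹ = q d a b (e + a * b + s * t) s t := by
  rw [inv_eq_iff_mul_eq_one, q_mul h, ← q_one h]
  exact q_cg d (by simp) (by simp) (by linear_combination (e + a * b + s * t) * F4.two_eq) (by simp) (by simp)

theorem q_conj (a b e s t a' b' e' s' t' : F4) : q d a b e s t * q d a' b' e' s' t' * (q d a b e s t)⁻¹ =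
    q d a' b' (e' + a * b' + b * a' + s * t' + t * s') s' t' := by
  rw [q_inv h, q_mul h, q_mul h]
  exact q_cg d (by linear_combination a * F4.two_eq) (by linear_combination b * F4.two_eq)
    (by linear_combination (e + a * b + s * t) * F4.two_eq) (by linear_combination s * F4.two_eq)
    (by linear_combination t * F4.two_eq)

theorem l_q (y a b e s t : F4) : d.l y * q d a b e s t * (d.l y)⁻¹ =
    q d a (b + y ^ 3 * a + y ^ 2 * s + y * t) (e + y * s ^ 2 + y * a * t) (s + y * a) (t + y ^ 2 * a) := by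
  have e1 : d.u a b e = d.u a 0 0 * d.u 0 b (e + a * b) := by
    rw [h.hm.mul]; exact cg _ (by simp) (by simp) (by rw [zero_add, add_assoc, F4.add_self, add_zero])
  rw [q, e1, h.v_dec, ← conj_mul, ← conj_mul, ← conj_mul, h.lu₁, (h.lu₂ ..).eq, mul_inv_cancel_right, h.lv₁,
    h.lv₂, ← q, ← q, ← q, ← q_u h, q_mul h, q_mul h, q_mul h]
  exact q_cg d (by ring) (by ring) (by linear_combination (a * b + a * y ^ 2 * s) * F4.two_eq) (by ring) (by ring)

theorem τ_q (a b e s t : F4) : d.τ * q d a b e s t * d.τ⁻¹ = q d b a (e + a * b + s * t) t s := by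
  rw [q, h.v_dec, ← conj_mul, ← conj_mul, h.τu, h.τv, h.τv', ← q_v h, ← q_v h, ← q_u h, q_mul h, q_mul h]
  exact q_cg d (by simp) (by simp) (by simp) (by simp) (by simp)

theorem x_q (a b e s t : F4) : d.x * q d a b e s t * d.x⁻¹ = q d a b e (F4.v * s) (F4.w * t) := by
  rw [q, ← conj_mul, (h.xu ..).eq, mul_inv_cancel_right, h.xv, q]

theorem h_q (a b e s t : F4) : d.h * q d a b e s t * d.h⁻¹ =
    q d (F4.v * a) (F4.v * b) (F4.w * e) (F4.v * s) (F4.v * t) := by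
  rw [q, ← conj_mul, h.hu, h.hv, q]

theorem xp_q {c : F4} (hc : c ≠ 0) (a b e s t : F4) :
    xp d c * q d a b e s t * (xp d c)⁻¹ = q d a b e (c * s) (c ^ 2 * t) := by
  cases c
  · exact (hc rfl).elim
  · exact (by simp [xp] : _ = q d a b e s t).trans (q_cg d rfl rfl rfl (one_mul _).symm (by revert t; decide))
  · rw [xp, sq, mul_inv_rev, show d.x * d.x * q d a b e s t * (d.x⁻¹ * d.x⁻¹) =
      d.x * (d.x * q d a b e s t * d.x⁻¹) * d.x⁻¹ by group, x_q h, x_q h]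
    exact q_cg d rfl rfl rfl (by revert s; decide) (by revert t; decide)
  · exact (x_q h ..).trans (q_cg d rfl rfl rfl rfl (by revert t; decide))

theorem xp_l {c : F4} (hc : c ≠ 0) (y : F4) : xp d c * d.l y * (xp d c)⁻¹ = d.l (c * y) := by
  cases c
  · exact (hc rfl).elim
  · exact (by simp [xp] : _ = d.l y).trans (congrArg _ (one_mul _).symm)
  · rw [xp, sq, mul_inv_rev, show d.x * d.x * d.l y * (d.x⁻¹ * d.x⁻¹) =
      d.x * (d.x * d.l y * d.x⁻¹) * d.x⁻¹ by group, h.xl, h.xl]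
    exact congrArg _ (by revert y; decide)
  · exact h.xl y

omit h in
theorem xp_pow (c : F4) : ∃ i : ℕ, xp d c = d.x ^ i := by
  cases c
  exacts [⟨0, (pow_zero _).symm⟩, ⟨0, (pow_zero _).symm⟩, ⟨2, rfl⟩, ⟨1, (pow_one _).symm⟩]

theorem xpD (c : F4) : xp d c ∈ d.D := (xp_pow c).elim fun i e => e ▸ pow_mem h.xD i

theorem pow_xp (i : ℕ) : ∃ c, c ≠ 0 ∧ d.x ^ i = xp d c := by
  rw [← Nat.mod_add_div i 3, pow_add, pow_mul, h.x3, one_pow, mul_one]
  have := Nat.mod_lt i (show 0 < 3 by norm_num)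
  interval_cases i % 3
  exacts [⟨1, by decide, pow_zero _⟩, ⟨.v, by decide, pow_one _⟩, ⟨.w, by decide, rfl⟩]

theorem ql_ext {a b e s t y a' b' e' s' t' y' : F4} (k : q d a b e s t * d.l y = q d a' b' e' s' t' * d.l y') :
    a = a' ∧ b = b' ∧ e = e' ∧ s = s' ∧ t = t' ∧ y = y' := by
  have k1 : (q d a' b' e' s' t')⁻¹ * q d a b e s t * d.l (y + y') = 1 := by
    rw [← h.ll, mul_assoc, ← mul_assoc (q ..), k, mul_assoc, h.l_sq, mul_one, inv_mul_cancel]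
  rw [q_inv h, q_mul h] at k1
  obtain ⟨h1, h2, h3, h4, h5, h6⟩ := h.inj _ _ _ _ _ _ k1
  have c : ∀ x y : F4, x + y = 0 → y = x := by decide
  obtain rfl := c _ _ h1; obtain rfl := c _ _ h2; obtain rfl := c _ _ h4; obtain rfl := c _ _ h5
  exact ⟨rfl, rfl, by linear_combination h3 - (e' + a * b + s * t) * F4.two_eq, rfl, rfl, (c _ _ h6).symm⟩

theorem q_ext {a b e s t a' b' e' s' t' : F4} (k : q d a b e s t = q d a' b' e' s' t') :
    a = a' ∧ b = b' ∧ e = e' ∧ s = s' ∧ t = t' := by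
  have := ql_ext h (y := 0) (y' := 0) (congrArg (· * d.l 0) k)
  tauto

theorem ql_mul (a b e s t y a' b' e' s' t' y' : F4) : q d a b e s t * d.l y * (q d a' b' e' s' t' * d.l y') =
    q d (a + a') (b + (b' + y ^ 3 * a' + y ^ 2 * s' + y * t')) (e + (e' + y * s' ^ 2 + y * a' * t') +
      a * (b' + y ^ 3 * a' + y ^ 2 * s' + y * t') + t * (s' + y * a')) (s + (s' + y * a')) (t + (t' + y ^ 2 * a')) *
      d.l (y + y') := by
  rw [← q_mul h, ← l_q h, ← h.ll]; group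

theorem memQ {g : G} : g ∈ d.QA ↔ ∃ a b e s t, q d a b e s t = g := by
  refine ⟨fun hg => ?_, fun hg => subset_closure hg⟩
  induction hg using closure_induction with
  | mem x hx => exact hx
  | one => exact ⟨_, _, _, _, _, q_one h⟩
  | mul x y _ _ hx hy =>
    obtain ⟨a, b, e, s, t, rfl⟩ := hx; obtain ⟨a, b, e, s, t, rfl⟩ := hy
    exact ⟨_, _, _, _, _, (q_mul h ..).symm⟩
  | inv x _ hx => obtain ⟨a, b, e, s, t, rfl⟩ := hx; exact ⟨_, _, _, _, _, (q_inv h ..).symm⟩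

theorem qQ (a b e s t : F4) : q d a b e s t ∈ d.QA := (memQ h).2 ⟨_, _, _, _, _, rfl⟩

theorem memL {g : G} : g ∈ d.L ↔ ∃ y, d.l y = g := by
  refine ⟨fun hg => ?_, fun hg => subset_closure hg⟩
  induction hg using closure_induction with
  | mem x hx => exact hx
  | one => exact ⟨_, h.l0⟩
  | mul x y _ _ hx hy => obtain ⟨a, rfl⟩ := hx; obtain ⟨a, rfl⟩ := hy; exact ⟨_, (h.ll ..).symm⟩
  | inv x _ hx => obtain ⟨a, rfl⟩ := hx; exact ⟨a, eq_inv_of_mul_eq_one_left (h.l_sq a)⟩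

theorem memXU {g : G} : g ∈ d.X ⊔ d.U ↔ ∃ a b e t, q d a b e 0 t = g := by
  refine ⟨fun hg => ?_, ?_⟩
  · rw [GD.X, GD.U, ← Subgroup.closure_union] at hg
    induction hg using closure_induction with
    | mem x hx =>
      rcases hx with ⟨t, rfl⟩ | ⟨a, b, c, rfl⟩
      exacts [⟨_, _, _, _, q_v h ..⟩, ⟨_, _, _, _, q_u h ..⟩]
    | one => exact ⟨_, _, _, _, q_one h⟩
    | mul x y _ _ hx hy =>
      obtain ⟨a, b, e, t, rfl⟩ := hx; obtain ⟨a, b, e, t, rfl⟩ := hy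
      exact ⟨_, _, _, _, by rw [q_mul h, add_zero]⟩
    | inv x _ hx => obtain ⟨a, b, e, t, rfl⟩ := hx; exact ⟨_, _, _, _, (q_inv h ..).symm⟩
  · rintro ⟨a, b, e, t, rfl⟩
    exact mul_mem (mem_sup_right (subset_closure ⟨_, _, _, rfl⟩)) (mem_sup_left (subset_closure ⟨_, rfl⟩))

theorem Q_le : d.QA ≤ d.D := fun g hg => by obtain ⟨a, b, e, s, t, rfl⟩ := (memQ h).1 hg; exact qD h ..
theorem L_le : d.L ≤ d.D := fun g hg => by obtain ⟨a, rfl⟩ := (memL h).1 hg; exact h.lD a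

theorem q_Z {a b e s t : F4} : q d a b e s t ∈ d.Z ↔ a = 0 ∧ b = 0 ∧ s = 0 ∧ t = 0 := by
  rw [h.mem_Z]
  refine ⟨fun ⟨e', k⟩ => ?_, by rintro ⟨rfl, rfl, rfl, rfl⟩; exact ⟨e, (q_u h ..).symm⟩⟩
  have := q_ext h ((q_u h ..).trans k)
  tauto

variable [Finite G]

theorem norQ {g : G} (k : ∀ a b e s t, ∃ a' b' e' s' t', g * q d a b e s t * g⁻¹ = q d a' b' e' s' t') :
    g ∈ nor d.QA := mem_normalizer_of_cj_le (by
  rintro _ ⟨x, hx, rfl⟩
  obtain ⟨a, b, e, s, t, rfl⟩ := (memQ h).1 hx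
  obtain ⟨a, b, e, s, t, k⟩ := k a b e s t
  exact (memQ h).2 ⟨_, _, _, _, _, k.symm⟩)

theorem lN (y : F4) : d.l y ∈ nor d.QA := norQ h fun _ _ _ _ _ => ⟨_, _, _, _, _, l_q h ..⟩

theorem memS {g : G} : g ∈ d.QA ⊔ d.L ↔ ∃ a b e s t y, q d a b e s t * d.l y = g := by
  rw [mem_sup_right_norm fun g hg => by obtain ⟨a, rfl⟩ := (memL h).1 hg; exact lN h a]
  constructor
  · rintro ⟨x, hx, y, hy, rfl⟩
    obtain ⟨a, b, e, s, t, rfl⟩ := (memQ h).1 hx
    obtain ⟨y, rfl⟩ := (memL h).1 hy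
    exact ⟨_, _, _, _, _, _, rfl⟩
  · rintro ⟨a, b, e, s, t, y, rfl⟩
    exact ⟨_, qQ h a b e s t, _, (memL h).2 ⟨y, rfl⟩, rfl⟩

theorem cardQ : Nat.card d.QA = 1024 := by
  refine (Nat.card_eq_of_bijective (fun x : F4 × F4 × F4 × F4 × F4 =>
    (⟨q d x.1 x.2.1 x.2.2.1 x.2.2.2.1 x.2.2.2.2, qQ h _ _ _ _ _⟩ : d.QA)) ⟨fun x y e => ?_, fun g => ?_⟩).symm.trans
    (by simp [F4.card_eq])
  · have := q_ext h (Subtype.ext_iff.1 e)
    ext <;> tauto
  · obtain ⟨a, b, e, s, t, k⟩ := (memQ h).1 g.2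
    exact ⟨(a, b, e, s, t), Subtype.ext k⟩

theorem cardXU : Nat.card ↥(d.X ⊔ d.U) = 256 := by
  refine (Nat.card_eq_of_bijective (fun x : F4 × F4 × F4 × F4 =>
    (⟨q d x.1 x.2.1 x.2.2.1 0 x.2.2.2, (memXU h).2 ⟨_, _, _, _, rfl⟩⟩ : ↥(d.X ⊔ d.U)))
    ⟨fun x y e => ?_, fun g => ?_⟩).symm.trans (by simp [F4.card_eq])
  · have := q_ext h (Subtype.ext_iff.1 e)
    ext <;> tauto
  · obtain ⟨a, b, e, t, k⟩ := (memXU h).1 g.2
    exact ⟨(a, b, e, t), Subtype.ext k⟩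

theorem cardS : Nat.card ↥(d.QA ⊔ d.L) = 4096 := by
  refine (Nat.card_eq_of_bijective (fun x : F4 × F4 × F4 × F4 × F4 × F4 =>
    (⟨q d x.1 x.2.1 x.2.2.1 x.2.2.2.1 x.2.2.2.2.1 * d.l x.2.2.2.2.2, (memS h).2 ⟨_, _, _, _, _, _, rfl⟩⟩ :
      ↥(d.QA ⊔ d.L))) ⟨fun x y e => ?_, fun g => ?_⟩).symm.trans (by simp [F4.card_eq])
  · have := ql_ext h (Subtype.ext_iff.1 e)
    ext <;> tauto
  · obtain ⟨a, b, e, s, t, y, k⟩ := (memS h).1 g.2
    exact ⟨(a, b, e, s, t, y), Subtype.ext k⟩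

end H29.CG1
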