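import Cfsg.Agent.H29.CG1A

/-! CG tower, job G1: the centralizer of a long root element. -/

set_option autoImplicit false
set_option linter.unusedSectionVars false

namespace H29.CG1
open Subgroup _root_.Cfsg H98 H1.Gold H86.L34 H88.AS H88.CG
open H6 (F4)
open H88.TE (sqs mc1)

universe u
variable {G : Type u} [Group G]

theorem cj_mul (a b x : G) : a * b * x * (a * b)⁻¹ = a * (b * x * b⁻¹) * a⁻¹ := by group

theorem sq_mem {X : Subgroup G} {g : G} (hg : g ∈ X) : g * g ∈ sqs X := subset_closure ⟨g, hg, rfl⟩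

theorem comm_sqs {X : Subgroup G} {a b : G} (ha : a ∈ X) (hb : b ∈ X) : a * b * a⁻¹ * b⁻¹ ∈ sqs X := by
  have := mul_mem (mul_mem (sq_mem ha) (sq_mem (X.mul_mem (X.inv_mem ha) hb))) (sq_mem (X.inv_mem hb))
  convert this using 1; group

theorem three_sqs {X : Subgroup G} {a : G} (ha : a ∈ X) (h3 : a ^ 3 = 1) : a ∈ sqs X := by
  have := sq_mem (X.mul_mem ha ha)
  rwa [show a * a * (a * a) = a ^ 3 * a by simp only [pow_succ, pow_zero, one_mul, mul_assoc], h3, one_mul] at this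

variable {d : GD G} (h : GR d)
include h

theorem act1 {c : F4} (hc : c ≠ 0) (a b e s t y a' b' e' s' t' : F4) : ∃ E,
    q d a b e s t * d.l y * xp d c * q d a' b' e' s' t' * (q d a b e s t * d.l y * xp d c)⁻¹ =
      q d a' (b' + y ^ 3 * a' + y ^ 2 * (c * s') + y * (c ^ 2 * t')) E (c * s' + y * a') (c ^ 2 * t' + y ^ 2 * a') :=
  ⟨_, by rw [cj_mul, cj_mul, xp_q h hc, l_q h, q_conj h]⟩

theorem act2 {c : F4} (hc : c ≠ 0) (a b e s t y y' a' b' e' s' t' : F4) : ∃ E,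
    q d a b e s t * d.l y * xp d c * d.τ * d.l y' * q d a' b' e' s' t' *
      (q d a b e s t * d.l y * xp d c * d.τ * d.l y')⁻¹ =
      q d (b' + y' ^ 3 * a' + y' ^ 2 * s' + y' * t') (a' + y ^ 3 * (b' + y' ^ 3 * a' + y' ^ 2 * s' + y' * t') +
        y ^ 2 * (c * (t' + y' ^ 2 * a')) + y * (c ^ 2 * (s' + y' * a'))) E
        (c * (t' + y' ^ 2 * a') + y * (b' + y' ^ 3 * a' + y' ^ 2 * s' + y' * t'))
        (c ^ 2 * (s' + y' * a') + y ^ 2 * (b' + y' ^ 3 * a' + y' ^ 2 * s' + y' * t')) := by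
  rw [cj_mul, cj_mul, l_q h, τ_q h]
  exact act1 h hc ..

theorem zk (hb : GB d) : d.A ⊓ d.K = ⊥ := by
  haveI := hb.simple
  rw [← map_subtype_center]
  rcases (inferInstance : (center d.A).Normal).eq_bot_or_eq_top with e | e
  · rw [e, Subgroup.map_bot]
  · have := mem_center_iff.1 (e ▸ mem_top (⟨_, h.uA 1 0 0⟩ : d.A)) ⟨_, h.uA 0 1 0⟩
    rw [Subtype.ext_iff, coe_mul, coe_mul, h.hm.mul, h.hm.mul] at this
    exact absurd (h.hm.ext this).2.2 (by decide)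

theorem bru' (hb : GB d) {g : G} (hg : g ∈ d.D) : ∃ a b e s t y c, c ≠ 0 ∧
    (g = q d a b e s t * d.l y * xp d c ∨ ∃ y', g = q d a b e s t * d.l y * xp d c * d.τ * d.l y') := by
  obtain ⟨x, hx, y, i, e'⟩ := hb.bru g hg
  obtain ⟨a, b, e, s, t, rfl⟩ := (memQ h).1 hx
  obtain ⟨c, hc, k⟩ := pow_xp h i
  exact ⟨a, b, e, s, t, y, c, hc, k ▸ e'⟩

theorem cen_Z {g : G} : g ∈ cen d.Z ↔ ∀ e, Commute g (d.z e) :=
  ⟨fun k e => (mem_centralizer_iff.1 k _ (h.zZ e)).symm, fun k => mem_centralizer_iff.2 fun x hx => by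
    obtain ⟨e, rfl⟩ := h.mem_Z.1 hx; exact (k e).symm.eq⟩

theorem dZ (hb : GB d) : d.D ≤ cen d.Z := fun g hg => by
  have h1 : ∀ a b e s t, q d a b e s t ∈ cen d.Z := fun a b e s t =>
    (cen_Z h).2 fun e' => (h.zu ..).symm.mul_left (h.uv ..).symm
  have h2 : ∀ y, d.l y ∈ cen d.Z := fun y => (cen_Z h).2 fun e => h.lu₂ ..
  have h3 : d.τ ∈ cen d.Z := (cen_Z h).2 fun e => mul_inv_eq_iff_eq_mul.1 (h.τz e)
  have h4 : ∀ c, xp d c ∈ cen d.Z := fun c => (xp_pow c).elim fun i e =>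
    e ▸ pow_mem ((cen_Z h).2 fun e => h.xu ..) i
  obtain ⟨a, b, e, s, t, y, c, -, rfl | ⟨y', rfl⟩⟩ := bru' h hb hg
  · exact mul_mem (mul_mem (h1 _ _ _ _ _) (h2 _)) (h4 _)
  · exact mul_mem (mul_mem (mul_mem (mul_mem (h1 _ _ _ _ _) (h2 _)) (h4 _)) h3) (h2 _)

theorem z_cj {e : F4} (he : e ≠ 0) : ∃ c ∈ d.A, ∀ e', c * d.z e' * c⁻¹ = d.z (e * e') := by
  cases e
  · exact (he rfl).elim
  · exact ⟨1, one_mem _, fun e' => by rw [one_mul, inv_one, mul_one]; exact congrArg _ (one_mul _).symm⟩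
  · exact ⟨_, h.hA, h.hz⟩
  · exact ⟨_, mul_mem h.hA h.hA, fun e' => by rw [cj_mul, h.hz, h.hz]; exact congrArg _ (by revert e'; decide)⟩

theorem dz (hb : GB d) {e : F4} (he : e ≠ 0) : d.A ⊓ cen1 (d.z e) ≤ d.D := fun g hg => by
  obtain ⟨c, hc, k⟩ := z_cj h he
  have k1 := k 1
  have h1 : c⁻¹ * g * c ∈ d.D := ⟨d.A.mul_mem (d.A.mul_mem (d.A.inv_mem hc) hg.1) hc, mc1.2 (by
    have := (mc1.1 hg.2).eq
    rw [mul_one] at k1
    rw [← k1] at this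
    rw [Commute, SemiconjBy]
    calc _ = c⁻¹ * (g * (c * d.z 1 * c⁻¹)) * c := by group
      _ = _ := by rw [this]; group)⟩
  have h2 := ((cen_Z h).1 (dZ h hb h1) e⁻¹).eq
  refine ⟨hg.1, mc1.2 ?_⟩
  rw [← mul_inv_cancel₀ he, ← k, Commute, SemiconjBy]
  calc _ = c * (c⁻¹ * g * c * d.z e⁻¹) * c⁻¹ := by group
    _ = _ := by rw [h2]; group

theorem dgen {B : Subgroup G} (hb : GB d) (hu : ∀ a, d.u a 0 0 ∈ B) (hl : ∀ t, d.l t ∈ B) (hτ : d.τ ∈ B) :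
    d.D ≤ B := fun g hg => by
  have u2 : ∀ b, d.u 0 b 0 ∈ B := fun b => by
    simpa [h.τu] using mul_mem (mul_mem hτ (hu b)) (inv_mem hτ)
  have u3 : ∀ c, d.u 0 0 c ∈ B := fun c => by
    have := mul_mem (mul_mem (mul_mem (hu 1) (u2 c)) (inv_mem (hu 1))) (inv_mem (u2 c))
    simpa [h.hm.conj, h.hm.inv, h.hm.mul] using this
  have u4 : ∀ a b c, d.u a b c ∈ B := fun a b c => by
    simpa [h.hm.mul, ← add_assoc] using mul_mem (mul_mem (hu a) (u2 b)) (u3 (a * b + c))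
  have v1 : ∀ t a, d.v (t * a) (t ^ 2 * a) ∈ B := fun t a => by
    have := mul_mem (mul_mem (hl t) (hu a)) (inv_mem (hl t))
    rw [h.lu₁] at this
    exact (B.mul_mem_cancel_left (u4 ..)).1 this
  have v2 : ∀ s t, d.v s t ∈ B := fun s t => by
    have := mul_mem (v1 1 (F4.v * s + F4.w * t)) (v1 F4.w (s + t))
    rw [h.vv] at this
    have := (B.mul_mem_cancel_right (u4 ..)).1 this
    convert this using 2 <;> (clear * -; revert s t; decide)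
  have x1 : d.x ∈ B := mul_mem (mul_mem (mul_mem (mul_mem (mul_mem (hl _) hτ) (hl _)) hτ) (hl _)) hτ
  have h4 : ∀ c, xp d c ∈ B := fun c => (xp_pow c).elim fun i e => e ▸ pow_mem x1 i
  obtain ⟨a, b, e, s, t, y, c, -, rfl | ⟨y', rfl⟩⟩ := bru' h hb hg
  · exact mul_mem (mul_mem (mul_mem (u4 ..) (v2 ..)) (hl _)) (h4 _)
  · exact mul_mem (mul_mem (mul_mem (mul_mem (mul_mem (u4 ..) (v2 ..)) (hl _)) (h4 _)) hτ) (hl _)

theorem sqD (hb : GB d) : d.D ≤ sqs d.D := by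
  have hl : ∀ t, d.l t ∈ sqs d.D := fun t => by
    have := comm_sqs h.xD (h.lD (F4.v * t))
    rw [h.xl, inv_eq_of_mul_eq_one_left (h.l_sq _), h.ll] at this
    convert this using 2; clear * -; revert t; decide
  have hτ := (Subgroup.mul_mem_cancel_right _ (hl 1)).1 (three_sqs (mul_mem h.τD (h.lD 1)) h.τl)
  refine dgen h hb (fun a => ?_) hl hτ
  have := comm_sqs (h.lD 1) (h.vD 0 a)
  rw [h.lv₂, mul_inv_cancel_right] at this
  simpa [h.τu] using mul_mem (mul_mem hτ this) (inv_mem hτ)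

theorem sqX : d.U ≤ sqs (d.A ⊓ cen d.X) := by
  have c : ∀ {g}, (∀ t, Commute g (d.v 0 t)) → g ∈ cen d.X := fun k => by
    rw [GD.X, cen, centralizer_closure, mem_centralizer_iff]
    rintro _ ⟨t, rfl⟩; exact (k t).symm.eq
  have hu : ∀ a b e, d.u a b e ∈ d.A ⊓ cen d.X := fun a b e => ⟨h.uA .., c fun t => h.uv ..⟩
  have hx : d.h * d.x ∈ d.A ⊓ cen d.X := ⟨mul_mem h.hA h.xA, c fun t => mul_inv_eq_iff_eq_mul.1 (by
    rw [cj_mul, h.xv, h.hv]; congr 1; revert t; decide)⟩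
  intro g hg
  obtain ⟨a, b, e, rfl⟩ := h.mem_U.1 hg
  have h1 := comm_sqs hx (hu (F4.v * a) (F4.v * b) 0)
  rw [cj_mul, (h.xu ..).eq, mul_inv_cancel_right, h.hu, h.hm.inv, h.hm.mul] at h1
  have h2 := mul_mem h1 (sq_mem (hu 1 (e + F4.v * a * b) 0))
  rw [h.hm.mul, h.hm.mul] at h2
  convert h2 using 2 <;> (clear h1 h2 hg; cases a <;> cases b <;> cases e <;> rfl)

theorem out2 (ha : GA d) {g g' : G} (hg : g ∈ d.N) (hg' : g' ∈ d.N) :
    g ∈ d.K ⊔ d.A ∨ g' ∈ d.K ⊔ d.A ∨ g * g' ∈ d.K ⊔ d.A := by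
  refine (ha.aut g hg).imp_right fun ⟨a, hA, f⟩ => (ha.aut g' hg').imp_right fun ⟨a', hA', f'⟩ => ?_
  have c : ∀ x, a * g * (a' * g') * x * (a * g * (a' * g'))⁻¹ = x → x ∈ cen1 (a * g * (a' * g')) :=
    fun x e => mc1.2 (mul_inv_eq_iff_eq_mul.1 e).symm
  have : d.A ≤ cen1 (a * g * (a' * g')) := h.gen _ ((closure_le _).2 (by
      rintro _ ⟨a, b, e, rfl⟩; exact c _ (by rw [cj_mul, f'.1, f.1, sq_sq, sq_sq, sq_sq])))
    ((closure_le _).2 (by rintro _ ⟨a, rfl⟩; exact c _ (by rw [cj_mul, f'.2.2.1, f.2.2.1, sq_sq])))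
    (mc1.2 (f.2.2.2.1.mul_left f'.2.2.2.1).symm) (mc1.2 (f.2.2.2.2.mul_left f'.2.2.2.2).symm)
  have h1 : a * g * (a' * g') ∈ d.K := mem_centralizer_iff.2 fun x hx => (mc1.1 (this hx)).eq
  have := mul_mem (mem_sup_right (S := d.K) (inv_mem (mul_mem hA (conj_mem_of_mem_normalizer hg hA'))))
    (mem_sup_left (T := d.A) h1)
  convert this using 1; group

omit h in
theorem memKA {B : Subgroup G} (hB : B ≤ d.A) {g : G} : g ∈ d.K ⊔ B ↔ ∃ k ∈ d.K, ∃ a ∈ B, g = k * a :=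
  mem_sup_right_norm (le_normalizer_of_le_centralizer (hB.trans (le_centralizer_centralizer _)))

omit h in
theorem commKA {k a : G} (hk : k ∈ d.K) (ha : a ∈ d.A) : Commute k a := (mem_centralizer_iff.1 hk a ha).symm

theorem cz (hb : GB d) (ha : GA d) : d.N ⊓ cen d.Z ≤ d.K ⊔ d.D := fun g hg => by
  have c := (cen_Z h).1 hg.2
  rcases ha.aut g hg.1 with k | ⟨a, hA, f⟩
  · obtain ⟨k, hk, a, hA, rfl⟩ := (memKA le_rfl).1 k
    refine mul_mem (mem_sup_left hk) (mem_sup_right ⟨hA, mc1.2 ?_⟩)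
    simpa using (commKA hk (h.uA ..)).inv_left.mul_left (c 1)
  · have h1 : ∀ e, a * d.z e * a⁻¹ = d.z (e ^ 2) := fun e => by
      have := f.1 0 0 e
      rwa [cj_mul, (c e).eq, mul_inv_cancel_right, zero_pow two_ne_zero] at this
    have := ((cen_Z h).1 (dZ h hb ⟨hA, mc1.2 (mul_inv_eq_iff_eq_mul.1 (by rw [h1, one_pow]))⟩) F4.w).eq
    exact absurd (h.z_inj ((h1 F4.w).symm.trans (mul_inv_eq_iff_eq_mul.2 this))) (by decide)

theorem xp_one : xp d 1 = 1 := rfl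

theorem cenz₀ (hb : GB d) {g : G} (hg : g ∈ d.A₀) (hz : Commute g (d.z 1)) :
    ∃ (i : ℕ) (a b c : F4), g = d.x ^ i * d.u a b c := by
  have hx := mc1.1 hg.2
  have k : g * q d 0 0 0 0 F4.w * g⁻¹ = d.x * (g * q d 0 0 0 0 1 * g⁻¹) * d.x⁻¹ := by
    rw [← cj_mul, ← hx.eq, cj_mul, x_q h, mul_zero, mul_one]
  obtain ⟨a, b, e, s, t, y, c, hc, rfl | ⟨y', rfl⟩⟩ := bru' h hb ⟨hg.1, mc1.2 hz⟩
  · obtain ⟨E, k1⟩ := act1 h hc a b e s t y 0 0 0 0 F4.w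
    obtain ⟨E', k2⟩ := act1 h hc a b e s t y 0 0 0 0 1
    rw [k1, k2, x_q h] at k
    obtain rfl : y = 0 := by have := (q_ext h k).2.1; clear * - hc this; revert y c; decide
    obtain ⟨i, ei⟩ := xp_pow (d := d) c
    rw [h.l0, mul_one, ei] at hx ⊢
    have h1 : Commute (q d a b e s t) d.x := by simpa using hx.mul_left ((Commute.refl d.x).pow_left i).inv_left
    have h2 := q_ext h ((x_q h a b e s t).symm.trans (mul_inv_eq_iff_eq_mul.2 h1.symm.eq))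
    obtain rfl : s = 0 := by have := h2.2.2.2.1; clear * - this; revert s; decide
    obtain rfl : t = 0 := by have := h2.2.2.2.2; clear * - this; revert t; decide
    exact ⟨i, a, b, e, by rw [(h1.pow_right i).eq, q_u h]⟩
  · obtain ⟨E, k1⟩ := act2 h hc a b e s t y y' 0 0 0 0 F4.w
    obtain ⟨E', k2⟩ := act2 h hc a b e s t y y' 0 0 0 0 1
    rw [k1, k2, x_q h] at k
    obtain ⟨h1, -, -, h2, -⟩ := q_ext h k
    exfalso; clear * - h1 h2 hc; revert y y' c; decide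

theorem cy (hb : GB d) {g : G} {t₀ : F4} (ht : t₀ ≠ 0) (hg : g ∈ d.D) (hy : Commute g (d.v 0 t₀)) : g ∈ d.X ⊔ d.U := by
  have k : g * q d 0 0 0 0 t₀ * g⁻¹ = q d 0 0 0 0 t₀ := by rw [q_v h, hy.eq, mul_inv_cancel_right]
  obtain ⟨a, b, e, s, t, y, c, hc, rfl | ⟨y', rfl⟩⟩ := bru' h hb hg
  · obtain ⟨E, k1⟩ := act1 h hc a b e s t y 0 0 0 0 t₀
    obtain ⟨-, h1, -, -, h2⟩ := q_ext h (k1.symm.trans k)
    obtain ⟨rfl, rfl⟩ : y = 0 ∧ c = 1 := by clear * - h1 h2 hc ht; revert y c t₀; decide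
    rw [h.l0, xp_one h, mul_one, mul_one] at k ⊢
    rw [q_conj h] at k
    obtain rfl : s = 0 := by simpa [ht] using (q_ext h k).2.2.1
    exact (memXU h).2 ⟨_, _, _, _, rfl⟩
  · obtain ⟨E, k1⟩ := act2 h hc a b e s t y y' 0 0 0 0 t₀
    obtain ⟨h1, -, -, h2, -⟩ := q_ext h (k1.symm.trans k)
    exfalso; clear * - h1 h2 hc ht; revert y y' c t₀; decide

theorem dq (hb : GB d) {g : G} (hg : g ∈ d.D) (k : ∀ x ∈ d.QA, g * x * g⁻¹ * x⁻¹ ∈ d.Z) : g ∈ d.QA := by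
  obtain ⟨a, b, e, s, t, y, c, hc, rfl | ⟨y', rfl⟩⟩ := bru' h hb hg
  · obtain ⟨E, k1⟩ := act1 h hc a b e s t y 1 0 0 0 0
    obtain ⟨E', k2⟩ := act1 h hc a b e s t y 0 0 0 1 0
    have h1 := k _ (qQ h 1 0 0 0 0)
    have h2 := k _ (qQ h 0 0 0 1 0)
    rw [k1, q_inv h, q_mul h, q_Z h] at h1
    rw [k2, q_inv h, q_mul h, q_Z h] at h2
    obtain rfl : y = 0 := by simpa using h1.2.2.1
    obtain rfl : c = 1 := by have := h2.2.2.1; clear * - this; revert c; decide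
    rw [h.l0, xp_one h, mul_one, mul_one]; exact qQ h _ _ _ _ _
  · obtain ⟨E, k1⟩ := act2 h hc a b e s t y y' 0 1 0 0 0
    have h1 := k _ (qQ h 0 1 0 0 0)
    rw [k1, q_inv h, q_mul h, q_Z h] at h1
    simp at h1

theorem cQ (hb : GB d) : d.A ⊓ cen d.QA ≤ d.Z := fun g hg => by
  have c : ∀ x ∈ d.QA, g * x * g⁻¹ = x := fun x hx =>
    mul_inv_eq_iff_eq_mul.2 (mem_centralizer_iff.1 hg.2 x hx).symm
  obtain ⟨a, b, e, s, t, rfl⟩ := (memQ h).1 (dq h hb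
    ⟨hg.1, mc1.2 (mul_inv_eq_iff_eq_mul.1 (c _ (q_u h 0 0 1 ▸ qQ h 0 0 1 0 0 :)))⟩ fun x hx => by
      rw [c x hx, mul_inv_cancel]; exact one_mem _)
  have k := fun a' b' s' t' => (q_ext h ((q_conj h ..).symm.trans (c _ (qQ h a' b' 0 s' t')))).2.2.1
  exact (q_Z h).2 ⟨by simpa using k 0 1 0 0, by simpa using k 1 0 0 0, by simpa using k 0 0 0 1,
    by simpa using k 0 0 1 0⟩

theorem c0 (hb : GB d) (ha : GA d) : d.N ⊓ cen d.A₀ ≤ d.K ⊔ zpowers d.x := fun g hg => by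
  have c : ∀ x ∈ d.A₀, Commute g x := fun x hx => (mem_centralizer_iff.1 hg.2 x hx).symm
  have u0 : ∀ a b e, d.u a b e ∈ d.A₀ := fun a b e => ⟨h.uA .., mc1.2 (h.xu ..).symm⟩
  obtain ⟨k, hk, δ, hδ, rfl⟩ := (memKA inf_le_left).1 (cz h hb ha ⟨hg.1, (cen_Z h).2 fun e => c _ (u0 ..)⟩)
  have c' : ∀ x ∈ d.A₀, Commute δ x := fun x hx => by simpa using (commKA hk hx.1).inv_left.mul_left (c x hx)
  obtain ⟨i, a, b, e, rfl⟩ := cenz₀ h hb ⟨hδ.1, mc1.2 (c' _ ⟨h.xA, mc1.2 (Commute.refl _)⟩)⟩ (mc1.1 hδ.2)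
  have c'' : ∀ x ∈ d.A₀, Commute (d.u a b e) x := fun x hx => by
    simpa using ((mc1.1 hx.2).symm.pow_left i).inv_left.mul_left (c' x hx)
  have k := fun a' b' => (h.hm.ext ((h.hm.conj ..).symm.trans (mul_inv_eq_iff_eq_mul.2 (c'' _ (u0 a' b' 0)).eq))).2.2
  obtain rfl : a = 0 := by simpa using k 0 1
  obtain rfl : b = 0 := by simpa using k 1 0
  obtain rfl : e = 0 := (h.hm.ext ((h.nz e).symm.trans
    (mul_inv_eq_iff_eq_mul.2 (c'' _ ⟨h.nA, mc1.2 h.xn.symm⟩).symm.eq))).1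
  rw [h.hm.one, mul_one]
  exact mul_mem (mem_sup_left hk) (mem_sup_right (npow_mem_zpowers _ _))

theorem dQ [Finite G] (hb : GB d) : d.D ≤ nor d.QA := fun g hg => norQ h fun a' b' e' s' t' => by
  obtain ⟨a, b, e, s, t, y, c, hc, rfl | ⟨y', rfl⟩⟩ := bru' h hb hg
  · exact (act1 h hc ..).elim fun E k => ⟨_, _, E, _, _, k⟩
  · exact (act2 h hc ..).elim fun E k => ⟨_, _, E, _, _, k⟩

end H29.CG1
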