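import Cfsg.Agent.H29.CG1B
import Cfsg.Agent.H98.Coprime

/-! CG tower, job G1: Sylow subgroups. -/

set_option autoImplicit false
set_option linter.unusedSectionVars false

namespace H29.CG1
open Subgroup _root_.Cfsg H98 H1.Gold H86.L34 H88.AS H88.CG
open H6 (F4)
open H88.TE (sqs mc1)

universe u
variable {G : Type u} [Group G] [Finite G]

theorem syl_of {p : ℕ} [Fact p.Prime] {T H : Subgroup G} (le : T ≤ H) (hT : IsPGroup p T)
    (k : ¬ p * Nat.card T ∣ Nat.card H) : IsSyl p T H :=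
  isSyl_of_not_dvd_relIndex le hT fun ⟨c, e⟩ => k ⟨c, by
    rw [← (T.subgroupOf H).index_mul_card, Nat.card_congr (subgroupOfEquivOfLe le).toEquiv, mul_right_comm, ← e]
    rfl⟩

/-- the projection to `A` -/
def pr (d : GD G) (T : Subgroup G) : Subgroup G where
  carrier := {a | a ∈ d.A ∧ ∃ k ∈ d.K, k * a ∈ T}
  one_mem' := ⟨one_mem _, 1, one_mem _, by simp⟩
  mul_mem' := by
    rintro a b ⟨ha, k, hk, e⟩ ⟨hb, k', hk', e'⟩
    refine ⟨mul_mem ha hb, _, mul_mem hk hk', ?_⟩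
    have := mul_mem e e'
    rwa [mul_assoc, ← mul_assoc a, ← (commKA hk' ha).eq, mul_assoc, ← mul_assoc] at this
  inv_mem' := by
    rintro a ⟨ha, k, hk, e⟩
    exact ⟨inv_mem ha, _, inv_mem hk, by rw [← mul_inv_rev, ← (commKA hk ha).eq]; exact inv_mem e⟩

variable {d : GD G} (h : GR d) (hb : GB d)
include h hb

theorem pr_two {T : Subgroup G} (hT : IsPGroup 2 T) : IsPGroup 2 (pr d T) := isPGroup_iff_forall.2 (by
  rintro a ⟨ha, k, hk, e⟩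
  obtain ⟨n, hn⟩ := isPGroup_iff_forall.1 hT _ e
  rw [(commKA hk ha).mul_pow, mul_eq_one_iff_inv_eq] at hn
  exact ⟨n, mem_bot.1 (zk h hb ▸ mem_inf.2 ⟨pow_mem ha _, hn ▸ inv_mem (pow_mem hk _)⟩)⟩)

theorem bd (ha : GA d) {T : Subgroup G} (hT : T ≤ d.N) :
    Nat.card T ≤ 2 * Nat.card (pr d T) * Nat.card ↥(T ⊓ d.K) := by
  have h1 := card_le_mul (T := T) (T' := d.K ⊔ d.A) (Set.univ : Set Bool) (fun b g => b = true ↔ g ∈ d.K ⊔ d.A)
    (fun g _ => by by_cases e : g ∈ d.K ⊔ d.A; exacts [⟨true, trivial, by simp [e]⟩, ⟨false, trivial, by simp [e]⟩])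
    fun b g hg g' hg' e e' => by
      cases b
      · exact ((out2 h ha (inv_mem (hT hg)) (hT hg')).resolve_left (by simpa using e)).resolve_left (by simpa using e')
      · exact mul_mem (inv_mem (e.1 rfl)) (e'.1 rfl)
  have h2 := card_le_mul (T := T ⊓ (d.K ⊔ d.A)) (T' := d.K) (pr d T : Set G) (fun a g => g * a⁻¹ ∈ d.K ∧ a ∈ d.A)
    (fun g hg => by
      obtain ⟨k, hk, a, hA, rfl⟩ := (memKA le_rfl).1 hg.2
      exact ⟨a, ⟨hA, k, hk, hg.1⟩, by simpa using hk, hA⟩)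
    fun a g _ g' _ e e' => by
      have := mul_mem (inv_mem e.1) e'.1
      have k := (commKA this e.2).eq
      rwa [show (g * a⁻¹)⁻¹ * (g' * a⁻¹) = g⁻¹ * g' from mul_left_cancel (a := a) (by rw [← k]; group)] at this
  have h3 := card_le_of_le (inf_le_inf_right d.K (inf_le_left : T ⊓ (d.K ⊔ d.A) ≤ T))
  rw [Set.ncard_univ, Nat.card_eq_fintype_card (α := Bool), Fintype.card_bool] at h1
  rw [mul_assoc]
  exact h1.trans (Nat.mul_le_mul_left 2 (h2.trans (Nat.mul_le_mul_left _ h3)))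

omit hb in
theorem S_le : d.QA ⊔ d.L ≤ d.D := sup_le (Q_le h) (L_le h)

omit hb in
theorem S_two : IsPGroup 2 ↥(d.QA ⊔ d.L) := IsPGroup.of_card (n := 12) (cardS h)

theorem sylA : IsSyl 2 (d.QA ⊔ d.L) d.A :=
  syl_of ((S_le h).trans inf_le_left) (S_two h) (by rw [cardS h, hb.card]; norm_num)

theorem sylD : IsSyl 2 (d.QA ⊔ d.L) d.D := (sylA h hb).of_le (S_le h) inf_le_left

theorem bdN (ha : GA d) {T : Subgroup G} (hT : T ≤ d.N) (h2 : IsPGroup 2 T) :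
    Nat.card T ≤ 8192 * Nat.card ↥(T ⊓ d.K) := by
  have := (sylA h hb).card_le (pr_two h hb h2) fun a ha => ha.1
  rw [cardS h] at this
  exact (bd h hb ha hT).trans (Nat.mul_le_mul_right _ (by omega))

theorem o2D {T : Subgroup G} (hT : T ≤ d.K ⊔ d.D) (h2 : IsPGroup 2 T) (hn : d.D ≤ nor T) : T ≤ d.K ⊔ d.QA := by
  have c : ∀ g ∈ d.D, ∀ a ∈ pr d T ⊓ d.D, g * a * g⁻¹ ∈ pr d T ⊓ d.D := by
    rintro g hg a ⟨⟨hA, k, hk, e⟩, ha⟩
    refine ⟨⟨d.A.mul_mem (d.A.mul_mem hg.1 hA) (d.A.inv_mem hg.1), k, hk, ?_⟩,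
      d.D.mul_mem (d.D.mul_mem hg ha) (d.D.inv_mem hg)⟩
    have := conj_mem_of_mem_normalizer (hn hg) e
    rwa [← conj_mul, ← (commKA hk hg.1).eq, mul_inv_cancel_right] at this
  have le := (sylD h hb).le_of_le_normalizer (Q := pr d T ⊓ d.D) (pr_two h hb h2).to_inf_left inf_le_right
    fun g hg => mem_normalizer_of_cj_le (by rintro _ ⟨a, ha, rfl⟩; exact c g (S_le h hg) a ha)
  intro g hg
  obtain ⟨k, hk, δ, hδ, rfl⟩ := (memKA inf_le_left).1 (hT hg)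
  have m : δ ∈ pr d T ⊓ d.D := ⟨⟨hδ.1, k, hk, hg⟩, hδ⟩
  obtain ⟨a, b, e, s, t, y, rfl⟩ := (memS h).1 (le m)
  obtain ⟨a', b', e', s', t', y', k1⟩ := (memS h).1 (le (c _ h.τD _ m))
  have k2 := congrArg (fun x => x * (d.τ * q d 1 0 0 0 0 * d.τ⁻¹) * x⁻¹) k1
  simp only [conj_mul, conj_inv] at k2
  rw [τ_q h, cj_mul, l_q h, q_conj h, cj_mul, l_q h, q_conj h, τ_q h] at k2
  obtain rfl : y = 0 := by simpa using (q_ext h k2).2.2.2.2.symm
  rw [h.l0, mul_one]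
  exact mul_mem (mem_sup_left hk) (mem_sup_right (qQ h _ _ _ _ _))

omit hb in
theorem ord_x : orderOf d.x = 3 := orderOf_eq_prime h.x3 fun e => by
  have := x_q h 0 0 0 1 0
  rw [e, one_mul, inv_one, mul_one] at this
  exact absurd (q_ext h this).2.2.2.1 (by decide)

theorem cardD : ¬ 9 ∣ Nat.card d.D := fun h9 => by
  let f : F4 × F4 × F4 × F4 × F4 × F4 × Fin 3 × Option F4 → G := fun ⟨a, b, e, s, t, y, i, o⟩ =>
    q d a b e s t * d.l y * xp d (![1, F4.w, F4.v] i) * o.elim 1 fun y' => d.τ * d.l y'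
  have h1 : (d.D : Set G) ⊆ f '' Set.univ := fun g hg => by
    obtain ⟨a, b, e, s, t, y, c, hc, k⟩ := bru' h hb hg
    obtain ⟨i, rfl⟩ : ∃ i, ![1, F4.w, F4.v] i = c := by clear * - hc; revert c; decide
    rcases k with rfl | ⟨y', rfl⟩
    · exact ⟨⟨a, b, e, s, t, y, i, none⟩, trivial, mul_one _⟩
    · exact ⟨⟨a, b, e, s, t, y, i, some y'⟩, trivial, (mul_assoc _ _ _).symm⟩
  have h2 : Nat.card d.D ≤ 61440 := ((Set.ncard_le_ncard h1).trans (Set.ncard_image_le)).trans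
    (by simp [F4.card_eq])
  let φ : F4 × F4 × F4 × F4 × F4 → F4 × F4 × F4 × F4 × F4 := fun ⟨a, b, e, s, t⟩ =>
    (b + F4.w ^ 3 * a + F4.w ^ 2 * s + F4.w * t, a, e + F4.w * s ^ 2 + F4.w * a * t +
      a * (b + F4.w ^ 3 * a + F4.w ^ 2 * s + F4.w * t) + (s + F4.w * a) * (t + F4.w ^ 2 * a), t + F4.w ^ 2 * a, s + F4.w * a)
  let Q : F4 × F4 × F4 × F4 × F4 → G := fun x => q d x.1 x.2.1 x.2.2.1 x.2.2.2.1 x.2.2.2.2
  have h3 : ∀ (n : ℕ) x, (d.τ * d.l F4.w) ^ n * Q x * ((d.τ * d.l F4.w) ^ n)⁻¹ = Q (φ^[n] x) := fun n => by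
    induction n with
    | zero => simp
    | succ n ih =>
      intro x
      rw [pow_succ, cj_mul, cj_mul d.τ, l_q h, τ_q h]
      exact ih (φ x)
  have h4 := h3 (Nat.card d.D) (1, 0, 0, 0, 0)
  rw [show (d.τ * d.l F4.w) ^ Nat.card d.D = 1 from
    Subtype.ext_iff.1 (pow_card_eq_one' (x := (⟨_, mul_mem h.τD (h.lD F4.w)⟩ : d.D))), one_mul, inv_one, mul_one] at h4
  have h5 : Function.IsPeriodicPt φ (Nat.card d.D) (1, 0, 0, 0, 0) := by
    have := q_ext h h4.symm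
    refine Prod.ext this.1 (Prod.ext this.2.1 (Prod.ext this.2.2.1 (Prod.ext this.2.2.2.1 this.2.2.2.2)))
  haveI : Fact (Nat.Prime 5) := ⟨by norm_num⟩
  have h6 := h5.minimalPeriod_dvd
  rw [Function.minimalPeriod_eq_prime (p := 5) (show φ^[5] _ = _ by decide) (show ¬ φ _ = _ by decide)] at h6
  have h7 := card_dvd_of_le (S_le h)
  rw [cardS h] at h7
  have := Nat.le_of_dvd Nat.card_pos (Nat.Coprime.mul_dvd_of_dvd_of_dvd (by norm_num)
    (Nat.Coprime.mul_dvd_of_dvd_of_dvd (by norm_num) h9 h6) h7)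
  omega

theorem x3 {g : G} (hg : g ∈ d.D) (h3 : orderOf g = 3) : ∃ c ∈ d.D, c * d.x * c⁻¹ = g := by
  haveI : Fact (Nat.Prime 3) := ⟨by norm_num⟩
  obtain ⟨c, hc, k⟩ := (syl_of (p := 3) (zpowers_le.2 h.xD) (isPGroup_zpowers (k := 1) h.x3) (by
    rw [Nat.card_zpowers, ord_x h]; exact cardD h hb)).exists_le_cj
    (isPGroup_zpowers (k := 1) (x := g) (by rw [pow_one, ← h3, pow_orderOf_eq_one])) (zpowers_le.2 hg)
  obtain ⟨_, hx, rfl⟩ := k (mem_zpowers g)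
  obtain ⟨i, rfl⟩ := mem_powers_iff_mem_zpowers.2 hx
  obtain ⟨e, he, k⟩ := pow_xp h i
  simp only [k, MulEquiv.coe_toMonoidHom, MulAut.conj_apply] at h3 ⊢
  cases e
  · exact (he rfl).elim
  · simp [xp] at h3
  · exact ⟨_, mul_mem hc h.τD, by
      rw [cj_mul, h.τx, xp, inv_eq_of_mul_eq_one_left (show d.x ^ 2 * d.x = 1 by rw [← pow_succ, h.x3])]⟩
  · exact ⟨c, hc, rfl⟩

/-- a `2`-element of `A` normalizing a subgroup whose squares fill `Z` -/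
theorem memD {S T : Subgroup G} (hT : IsPGroup 2 T) (hA : T ≤ d.A) (hU : d.U ≤ S) (hS : ∀ g ∈ S, g * g ∈ d.Z)
    {g : G} (hg : g ∈ T ⊓ nor S) : g ∈ d.D := by
  have hn : zpowers g ≤ nor d.Z := zpowers_le.2 (mem_normalizer_of_cj_le (by
    rintro _ ⟨x, hx, rfl⟩
    obtain ⟨e, rfl⟩ := h.mem_Z.1 hx
    have := hS _ (conj_mem_of_mem_normalizer hg.2 (hU (h.mem_U.2 ⟨1, e, 0, rfl⟩)))
    rw [conj_mul, h.hm.mul] at this
    simpa using this))
  obtain ⟨⟨x, hx⟩, x1⟩ := ne_bot_iff_exists_ne_one.1 (inf_centralizer_ne_bot (p := 2)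
    (IsPGroup.of_card (n := 2) h.card_Z) (hT.to_le (zpowers_le.2 hg.1)) hn (by
      rw [Ne, ← card_eq_one, h.card_Z]; norm_num))
  obtain ⟨e, rfl⟩ := h.mem_Z.1 hx.1
  exact dz h hb (e := e) (fun e0 => x1 (Subtype.ext (by simp [e0, h.hm.one])))
    ⟨hA hg.1, mc1.2 (mem_centralizer_iff.1 hx.2 g (mem_zpowers g))⟩

theorem sy {t : F4} (ht : t ≠ 0) : IsSyl 2 (d.X ⊔ d.U) (d.A ⊓ cen1 (d.v 0 t)) := by
  refine ⟨fun g hg => ?_, IsPGroup.of_card (n := 8) (cardXU h), fun T h2 h1 h3 => ?_⟩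
  · obtain ⟨a, b, e, t', rfl⟩ := (memXU h).1 hg
    refine ⟨qA h .., mc1.2 (mul_inv_eq_iff_eq_mul.1 ?_)⟩
    rw [← q_v h, q_conj h]; simp
  · by_contra ne
    refine (lt_inf_normalizer h2 (h1.lt_of_ne' ne)).not_ge fun g hg => cy h hb ht
      (memD h hb h2 (h3.trans inf_le_left) le_sup_right (fun g hg => ?_) hg) (mc1.1 (h3 hg.1).2)
    obtain ⟨a, b, e, t', rfl⟩ := (memXU h).1 hg
    rw [q_mul h, q_Z h]; simp

theorem syl₀ : IsSyl 2 d.U d.A₀ := by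
  have u4 : ∀ a b c, d.u a b c ^ 2 ^ 2 = 1 := fun a b c => by rw [pow_two 2, pow_mul, h.hm.sq, sq, h.z_sq]
  refine ⟨fun g hg => ?_, isPGroup_iff_forall.2 fun g hg => ?_, fun T h2 h1 h3 => ?_⟩
  · obtain ⟨a, b, e, rfl⟩ := h.mem_U.1 hg
    exact ⟨h.uA .., mc1.2 (h.xu ..).symm⟩
  · obtain ⟨a, b, e, rfl⟩ := h.mem_U.1 hg
    exact ⟨2, u4 ..⟩
  · by_contra ne
    refine (lt_inf_normalizer h2 (h1.lt_of_ne' ne)).not_ge fun g hg => ?_
    obtain ⟨i, a, b, c, rfl⟩ := cenz₀ h hb (h3 hg.1) (mc1.1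
      (memD h hb h2 (h3.trans inf_le_left) le_rfl (fun g hg => by
        obtain ⟨a, b, e, rfl⟩ := h.mem_U.1 hg
        rw [← sq, h.hm.sq]; exact h.zZ _) hg).2)
    have m := h.mem_U.2 ⟨a, b, c, rfl⟩
    obtain ⟨n, hn⟩ := isPGroup_iff_forall.1 h2 _ ((T.mul_mem_cancel_right (h1 m)).1 hg.1)
    rwa [H88.TE.eq_one_of_odd (Odd.of_dvd_nat (by decide : Odd 3) (ord_x h ▸ orderOf_pow_dvd i)) hn, one_mul]

theorem bdy (ha : GA d) {T : Subgroup G} (hT : T ≤ d.N ⊓ cen1 (d.v 0 1)) (h2 : IsPGroup 2 T) :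
    Nat.card T ≤ 512 * Nat.card ↥(T ⊓ d.K) := by
  have := (sy h hb one_ne_zero).card_le (pr_two h hb h2) fun a ⟨ha, k, hk, e⟩ => ⟨ha, mc1.2 (by
    simpa using (commKA hk (h.vA 0 1)).inv_left.mul_left (mc1.1 (hT e).2))⟩
  rw [cardXU h] at this
  exact (bd h hb ha (hT.trans inf_le_left)).trans (Nat.mul_le_mul_right _ (by omega))

end H29.CG1
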