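import Cfsg.Agent.H29.CG1C

/-! CG tower, job G1: involutions. -/

set_option autoImplicit false
set_option linter.unusedSectionVars false

namespace H29.CG1
open Subgroup _root_.Cfsg H98 H1.Gold H86.L34 H88.AS H88.CG
open H6 (F4)
open H88.TE (sqs mc1)

universe u
variable {G : Type u} [Group G] [Finite G]

def Ok (d : GD G) (a : G) : Prop := d.Lg a ∨ ∃ c ∈ d.A, c * d.v 0 1 * c⁻¹ = a

variable {d : GD G}

theorem Ok.of {a b : G} (c : G) (hc : c ∈ d.A) (e : c * a * c⁻¹ = b) (k : Ok d b) : Ok d a := by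
  rcases k with ⟨c', hc', k⟩ | ⟨c', hc', k⟩
  · exact .inl ⟨_, mul_mem (inv_mem hc) hc', by rw [cj_mul, k, ← e]; group⟩
  · exact .inr ⟨_, mul_mem (inv_mem hc) hc', by rw [cj_mul, k, ← e]; group⟩

theorem prod_le (A B : Set F4) (k : ∀ a ∈ A, ∀ b ∈ B, a * b = 0 ∨ a * b = 1) : A.ncard * B.ncard ≤ 4 := by
  have : ∀ A B : Finset F4, (∀ a ∈ A, ∀ b ∈ B, a * b = 0 ∨ a * b = 1) → A.card * B.card ≤ 4 := by decide +kernel
  lift A to Finset F4 using Set.toFinite A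
  lift B to Finset F4 using Set.toFinite B
  simpa using this A B k

theorem two_of (A : Set F4) (k : 2 < A.ncard) : ∃ y ∈ A, ∃ y' ∈ A, y ≠ 0 ∧ y' ≠ 0 ∧ y ≠ y' := by
  have : ∀ A : Finset F4, 2 < A.card → ∃ y ∈ A, ∃ y' ∈ A, y ≠ 0 ∧ y' ≠ 0 ∧ y ≠ y' := by decide +kernel
  lift A to Finset F4 using Set.toFinite A
  simpa using this A (by simpa using k)

theorem sq_cj {T : Subgroup G} {ζ : G} (k : ∀ g ∈ T, g * g = 1 ∨ g * g = ζ) (c : G) :
    ∀ g ∈ cj c T, g * g = 1 ∨ g * g = c * ζ * c⁻¹ := by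
  rintro _ ⟨g, hg, rfl⟩
  rcases k g hg with e | e <;> simp [e]

variable (h : GR d)
include h

theorem ok_z {e : F4} (he : e ≠ 0) : Ok d (q d 0 0 e 0 0) :=
  (z_cj h he).elim fun c k => .inl ⟨c, k.1, by rw [k.2, mul_one, q_u h]⟩

theorem ok_u {a : F4} (ha : a ≠ 0) (e : F4) : Ok d (q d a 0 e 0 0) :=
  .of _ (qA h 0 (e / a) 0 0 0) (q_conj h ..) (.of _ h.nA (by
    rw [q_u h, h.nu, ← q_u h]; exact q_cg d (by simp [ha]) rfl rfl rfl rfl) (ok_z h ha))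

theorem ok_t {t : F4} (ht : t ≠ 0) (e : F4) : Ok d (q d 0 0 e 0 t) :=
  .of _ (qA h 0 0 0 (e / t) 0) (q_conj h ..) (.of _ (xpD h t).1 (xp_q h ht ..) (.inr ⟨1, one_mem _, by
    rw [one_mul, inv_one, mul_one, ← q_v h]
    exact q_cg d rfl rfl (by simp [ht]) (by simp) (by rw [← pow_succ, F4.cube t ht])⟩))

theorem ok_a {a b s t : F4} (ha : a ≠ 0) (k : a * b + s * t = 0) (e : F4) : Ok d (q d a b e s t) := by
  refine .of _ (h.lA (s / a)) ((l_q h ..).trans (q_cg d (b' := 0) (s' := 0) rfl ?_ rfl ?_ rfl)) ?_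
  · clear * - ha k; revert a b s t; decide
  · simp [ha]
  generalize t + (s / a) ^ 2 * a = t'
  generalize e + _ + _ = e'
  by_cases ht : t' = 0
  · exact ht ▸ ok_u h ha _
  refine .of _ h.τA (τ_q h ..) (.of _ (h.lA ((a / t') ^ 2)) ((l_q h ..).trans
    (q_cg d (b' := 0) (s' := t') (t' := 0) rfl ?_ rfl (by simp) (by simp))) (.of _ h.τA (τ_q h ..) (ok_t h ht _)))
  rw [sq_sq]; simp [ht]

theorem ok_q {a b e s t : F4} (k : a * b + s * t = 0) (n : q d a b e s t ≠ 1) : Ok d (q d a b e s t) := by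
  by_cases ha : a = 0
  swap; · exact ok_a h ha k e
  by_cases hb : b = 0
  swap; · exact .of _ h.τA (τ_q h ..) (ok_a h hb (by linear_combination k) _)
  subst ha hb
  by_cases ht : t = 0
  swap; · obtain rfl : s = 0 := by simpa [ht] using k
          exact ok_t h ht e
  subst ht
  by_cases hs : s = 0
  swap; · exact .of _ h.τA (τ_q h ..) (ok_t h hs _)
  subst hs
  exact ok_z h fun e0 => n (e0 ▸ q_one h)

theorem ok_l (b e s : F4) : Ok d (q d 0 b e s s * d.l 1) := by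
  have c : ∀ x y : G, x * (y * d.l 1) * x⁻¹ = x * y * (d.l 1 * x⁻¹ * (d.l 1)⁻¹) * d.l 1 := fun x y => by group
  obtain ⟨E, k⟩ : ∃ E, q d s 0 0 (b + s) 0 * (q d 0 b e s s * d.l 1) * (q d s 0 0 (b + s) 0)⁻¹ =
      q d 0 0 E 0 0 * d.l 1 := ⟨_, by
    rw [c, q_inv h, l_q h, q_mul h, q_mul h]
    exact congrArg (· * _) (q_cg d (by simp) (by clear * -; revert b s; decide) rfl (by clear * -; revert b s; decide)
      (by simp))⟩
  refine .of _ (qA h ..) k (.of _ (qA h 0 0 0 (E ^ 2) (E ^ 2)) (b := d.l 1) ?_ (.of _ h.τA rfl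
    (.inr ⟨_, h.nA, h.nv₂ 1⟩)))
  rw [c, q_inv h, l_q h, q_mul h, q_mul h, mul_eq_right, ← q_one h]
  exact q_cg d (by simp) (by simp) (by clear * -; revert E; decide) (by simp) (by simp)

theorem cls (hb : GB d) {g : G} (hg : g ∈ d.A) (h2 : orderOf g = 2) : Ok d g := by
  have g2 : g * g = 1 := by rw [← sq, ← h2, pow_orderOf_eq_one]
  obtain ⟨c, hc, k⟩ := (sylA h hb).exists_cj_le (isPGroup_zpowers (k := 1) (x := g) (by rw [pow_one, sq, g2]))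
    (zpowers_le.2 hg)
  obtain ⟨a, b, e, s, t, y, k⟩ := (memS h).1 (k (conj_mem_cj (mem_zpowers g)))
  refine .of c hc k.symm ?_
  have k2 : q d a b e s t * d.l y * (q d a b e s t * d.l y) = q d 0 0 0 0 0 * d.l 0 := by
    rw [k, conj_mul, g2, q_one h, h.l0]; simp
  rw [ql_mul h] at k2
  obtain ⟨-, h3, h4, h5, -⟩ := ql_ext h k2
  by_cases hy : y = 0
  · subst hy
    rw [h.l0, mul_one] at k ⊢
    refine ok_q h (by linear_combination h4 - e * F4.two_eq) fun e => ?_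
    rw [e, eq_comm, conj_eq_one_iff] at k
    simp [k] at h2
  · obtain rfl : a = 0 := by clear * - h5 hy; revert a s y; decide
    obtain rfl : t = y * s := by clear * - h3 hy; revert b t s y; decide
    refine .of _ (xpD h y⁻¹).1 ?_ (ok_l h b e (y⁻¹ * s))
    rw [← conj_mul, xp_q h (inv_ne_zero hy), xp_l h (inv_ne_zero hy), inv_mul_cancel₀ hy]
    exact congrArg (· * _) (q_cg d rfl rfl rfl rfl (by field_simp))

theorem irr {Y : Subgroup G} (hY : Y ≤ d.QA) (hD : d.D ≤ nor Y) (hh : d.h ∈ nor Y) (n : ¬ Y ≤ d.Z) :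
    d.u 1 0 0 ∈ Y := by
  have c : ∀ g ∈ d.D, ∀ x ∈ Y, g * x * g⁻¹ * x⁻¹ ∈ Y := fun g hg x hx =>
    mul_mem (conj_mem_of_mem_normalizer (hD hg) hx) (inv_mem hx)
  have s1 : ∀ e, q d 0 1 e 0 0 ∈ Y → d.u 1 0 0 ∈ Y := fun e k => by
    have k1 := mul_mem k (c _ (qD h e 0 0 0 0) _ k)
    rw [q_conj h, q_inv h, q_mul h, q_mul h] at k1
    have := conj_mem_of_mem_normalizer (hD h.τD) k1
    rw [τ_q h] at this
    simpa [q_u h] using this
  have s2 : ∀ b e, b ≠ 0 → q d 0 b e 0 0 ∈ Y → d.u 1 0 0 ∈ Y := fun b e hb k => by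
    have k1 := conj_mem_of_mem_normalizer hh k
    have k2 := conj_mem_of_mem_normalizer hh k1
    simp only [h_q h, mul_zero] at k1 k2
    cases b
    exacts [(hb rfl).elim, s1 _ k, s1 _ k1, s1 _ k2]
  have s3 : ∀ b e s t, ¬ (s = 0 ∧ t = 0) → q d 0 b e s t ∈ Y → d.u 1 0 0 ∈ Y := fun b e s t hb k => by
    obtain ⟨y, hy⟩ : ∃ y : F4, y ^ 2 * s + y * t ≠ 0 := by clear * - hb; revert s t; decide
    have k1 := c _ (h.lD y) _ k
    rw [l_q h, q_inv h, q_mul h] at k1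
    rw [show b + y ^ 3 * 0 + y ^ 2 * s + y * t + b = y ^ 2 * s + y * t by linear_combination b * F4.two_eq] at k1
    simp only [mul_zero, add_zero, F4.add_self] at k1
    exact s2 _ _ hy k1
  obtain ⟨g, hg, n⟩ := SetLike.not_le_iff_exists.1 n
  obtain ⟨a, b, e, s, t, rfl⟩ := (memQ h).1 (hY hg)
  rw [q_Z h] at n
  by_cases ha : a = 0
  · subst ha
    by_cases k : s = 0 ∧ t = 0
    · obtain ⟨rfl, rfl⟩ := k
      exact s2 b e (by simpa using n) hg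
    · exact s3 b e s t k hg
  · have k1 := c _ (h.lD 1) _ hg
    rw [l_q h, q_inv h, q_mul h, F4.add_self] at k1
    exact s3 _ _ _ _ (fun k => ha (by linear_combination k.1 - s * F4.two_eq)) k1

theorem lg (hb : GB d) {a : G} (ha : a ∈ d.A) (h2 : orderOf a = 2) {T : Subgroup G} (hT : T ≤ d.A ⊓ cen1 a)
    (T2 : IsPGroup 2 T) (hc : 256 < Nat.card T) : d.Lg a := by
  refine (cls h hb ha h2).resolve_right ?_
  rintro ⟨c, hA, rfl⟩
  have := (sy h hb one_ne_zero).card_le (isPGroup_cj c⁻¹ T2) (by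
    rintro _ ⟨g, hg, rfl⟩
    refine ⟨d.A.mul_mem (d.A.mul_mem (d.A.inv_mem hA) (hT hg).1) (d.A.inv_mem (d.A.inv_mem hA)), mc1.2 ?_⟩
    simpa [mul_assoc] using (mc1.1 (hT hg).2).map (MulAut.conj c⁻¹))
  rw [card_cj, cardXU h] at this
  omega

theorem into_XU (hb : GB d) {b : G} (hA : b ∈ d.A) (k : Commute b (d.v 0 1)) (h4 : b ^ 4 = 1) :
    ∃ c ∈ d.A ⊓ cen1 (d.v 0 1), ∃ e, b ^ 2 = c * d.z e * c⁻¹ := by
  obtain ⟨c, hc, k⟩ := (sy h hb one_ne_zero).exists_le_cj (isPGroup_zpowers (k := 2) h4)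
    (zpowers_le.2 ⟨hA, mc1.2 k⟩)
  obtain ⟨x, hx, rfl⟩ := k (mem_zpowers b)
  obtain ⟨a, b, e, t, rfl⟩ := (memXU h).1 hx
  refine ⟨c, hc, a * b, ?_⟩
  rw [← map_pow, sq, q_mul h]
  simp [q_u h]

theorem shc (hb : GB d) {a : G} (ha : a ∈ d.A) (h2 : orderOf a = 2) : d.Lg a ∨ ∀ b ∈ d.A, Commute b a → b ^ 4 = 1 →
    ∃ c ∈ d.A, c * a * c⁻¹ = a * b ^ 2 := by
  refine (cls h hb ha h2).imp_right ?_
  rintro ⟨c, hA, rfl⟩ b hb' k h4
  obtain ⟨c', hc', e, k'⟩ := into_XU h hb (b := c⁻¹ * b * c⁻¹⁻¹)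
    (d.A.mul_mem (d.A.mul_mem (d.A.inv_mem hA) hb') (d.A.inv_mem (d.A.inv_mem hA)))
    (by simpa [mul_assoc] using k.map (MulAut.conj c⁻¹)) (by rw [conj_pow, h4]; simp)
  have k1 : q d 0 0 0 e 0 * d.v 0 1 * (q d 0 0 0 e 0)⁻¹ = d.v 0 1 * d.z e := by
    rw [← q_v h 0 1, q_conj h, GD.z, ← q_u h, q_mul h]; simp
  have k2 := (mc1.1 hc'.2).eq
  rw [conj_pow] at k'
  refine ⟨c * c' * q d 0 0 0 e 0 * c'⁻¹ * c⁻¹, mul_mem (mul_mem (mul_mem (mul_mem hA hc'.1) (qA h ..))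
    (inv_mem hc'.1)) (inv_mem hA), ?_⟩
  calc _ = c * c' * (q d 0 0 0 e 0 * (c'⁻¹ * (d.v 0 1 * c')) * (q d 0 0 0 e 0)⁻¹) * c'⁻¹ * c⁻¹ := by group
    _ = c * (c' * d.v 0 1 * c'⁻¹) * (c' * d.z e * c'⁻¹) * c⁻¹ := by rw [← k2, inv_mul_cancel_left, k1]; group
    _ = _ := by rw [← k', k2]; group

/-- coordinate subgroups -/
def Qf (α σ τ β : Prop) : Subgroup G where
  carrier := {g | ∃ a b e s t, q d a b e s t = g ∧ (α → a = 0) ∧ (σ → s = 0) ∧ (τ → t = 0) ∧ (β → b = 0)}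
  one_mem' := ⟨_, _, _, _, _, q_one h, by simp⟩
  mul_mem' := by
    rintro _ _ ⟨a, b, e, s, t, rfl, k⟩ ⟨a', b', e', s', t', rfl, k'⟩
    exact ⟨_, _, _, _, _, (q_mul h ..).symm, by simp +contextual [k, k']⟩
  inv_mem' := by
    rintro _ ⟨a, b, e, s, t, rfl, k⟩
    exact ⟨_, _, _, _, _, (q_inv h ..).symm, k⟩

theorem cnt (T : Subgroup G) : Nat.card ↥(T ⊓ d.QA) ≤ {a | ∃ b e s t, q d a b e s t ∈ T}.ncard *
    ({s | ∃ b e t, q d 0 b e s t ∈ T}.ncard * ({t | ∃ b e, q d 0 b e 0 t ∈ T}.ncard *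
      ({b | ∃ e, q d 0 b e 0 0 ∈ T}.ncard * 4))) := by
  refine (card_le_mul (T' := Qf h True False False False) _ (fun a g => ∃ b e s t, q d a b e s t = g) ?_ ?_).trans
    (Nat.mul_le_mul_left _ ((card_le_mul (T' := Qf h True True False False) _
      (fun s g => ∃ b e t, q d 0 b e s t = g) ?_ ?_).trans (Nat.mul_le_mul_left _
        ((card_le_mul (T' := Qf h True True True False) _ (fun t g => ∃ b e, q d 0 b e 0 t = g) ?_ ?_).trans
          (Nat.mul_le_mul_left _ ((card_le_mul (T' := d.Z) _ (fun b g => ∃ e, q d 0 b e 0 0 = g) ?_ ?_).trans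
            (Nat.mul_le_mul_left _ (h.card_Z ▸ card_le_of_le inf_le_right))))))))
  · intro g hg
    obtain ⟨a, b, e, s, t, rfl⟩ := (memQ h).1 hg.2
    exact ⟨a, ⟨_, _, _, _, hg.1⟩, _, _, _, _, rfl⟩
  · rintro a _ - _ - ⟨b, e, s, t, rfl⟩ ⟨b', e', s', t', rfl⟩
    exact ⟨_, _, _, _, _, by rw [q_inv h, q_mul h], by simp⟩
  · rintro _ ⟨hg, a, b, e, s, t, rfl, k, -⟩
    obtain rfl := k trivial
    exact ⟨s, ⟨_, _, _, hg.1⟩, _, _, _, rfl⟩
  · rintro a _ - _ - ⟨b, e, t, rfl⟩ ⟨b', e', t', rfl⟩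
    exact ⟨_, _, _, _, _, by rw [q_inv h, q_mul h], by simp⟩
  · rintro _ ⟨hg, a, b, e, s, t, rfl, k, k', -⟩
    obtain rfl := k trivial
    obtain rfl := k' trivial
    exact ⟨t, ⟨_, _, hg.1.1⟩, _, _, rfl⟩
  · rintro a _ - _ - ⟨b, e, rfl⟩ ⟨b', e', rfl⟩
    exact ⟨_, _, _, _, _, by rw [q_inv h, q_mul h], by simp⟩
  · rintro _ ⟨hg, a, b, e, s, t, rfl, k, k', k'', -⟩
    obtain rfl := k trivial
    obtain rfl := k' trivial
    obtain rfl := k'' trivial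
    exact ⟨b, ⟨_, hg.1.1.1⟩, _, rfl⟩
  · rintro a _ - _ - ⟨e, rfl⟩ ⟨e', rfl⟩
    rw [q_inv h, q_mul h, q_Z h]; simp

theorem cl2S {T : Subgroup G} (hT : T ≤ d.QA ⊔ d.L) (k : ∀ g ∈ T, g * g = 1 ∨ g * g = d.z 1) :
    Nat.card T ≤ 128 := by
  have k0 : ∀ a b e s t, q d a b e s t ∈ T → a * b + s * t = 0 ∨ a * b + s * t = 1 := fun a b e s t m => by
    have := k _ m
    rw [q_mul h, ← q_one h, GD.z, ← q_u h] at this
    refine this.imp (fun e' => ?_) fun e' => ?_ <;> linear_combination (q_ext h e').2.2.1 - e * F4.two_eq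
  have kz : ∀ g ∈ T, ∃ e, g * g = q d 0 0 e 0 0 := fun g hg =>
    (k g hg).elim (fun e => ⟨0, e.trans (q_one h).symm⟩) fun e => ⟨1, e.trans (q_u h ..).symm⟩
  have h1 := card_le_mul (T := T) (T' := d.QA) {y | ∃ x ∈ d.QA, x * d.l y ∈ T} (fun y g => ∃ x ∈ d.QA, x * d.l y = g)
    (fun g hg => by
      obtain ⟨a, b, e, s, t, y, rfl⟩ := (memS h).1 (hT hg)
      exact ⟨y, ⟨_, qQ h _ _ _ _ _, hg⟩, _, qQ h _ _ _ _ _, rfl⟩) (by
      rintro y _ - _ - ⟨x, hx, rfl⟩ ⟨x', hx', rfl⟩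
      simpa [mul_assoc] using conj_mem_of_mem_normalizer' (lN h y) (mul_mem (inv_mem hx) hx'))
  have h2 := cnt h T
  have h3 := prod_le {a | ∃ b e s t, q d a b e s t ∈ T} {b | ∃ e, q d 0 b e 0 0 ∈ T} (by
    rintro a ⟨b, e, s, t, m⟩ b' ⟨e', m'⟩
    have h1 := k0 _ _ _ _ _ m
    have h2 := k0 _ _ _ _ _ (q_mul h .. ▸ mul_mem m m')
    rw [add_zero, add_zero, add_zero, mul_add, add_right_comm] at h2
    generalize a * b + s * t = x at h1 h2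
    generalize a * b' = y at h2
    clear * - h1 h2; revert x y; decide)
  have h4 := prod_le {s | ∃ b e t, q d 0 b e s t ∈ T} {t | ∃ b e, q d 0 b e 0 t ∈ T} (by
    rintro s ⟨b, e, t, m⟩ t' ⟨b', e', m'⟩
    have h1 := k0 _ _ _ _ _ m
    have h2 := k0 _ _ _ _ _ (q_mul h .. ▸ mul_mem m m')
    simp only [add_zero, zero_mul, zero_add] at h1 h2
    clear * - h1 h2; revert s t t'; decide)
  have h5 : {y | ∃ x ∈ d.QA, x * d.l y ∈ T}.ncard ≤ 4 :=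
    (Set.ncard_le_card _).trans (by simp [F4.card_eq])
  have h6 : ∀ y ∈ {y | ∃ x ∈ d.QA, x * d.l y ∈ T}, ∀ b e s t, q d 0 b e s t ∈ T → y ^ 2 * s + y * t = 0 := by
    rintro y ⟨x, hx, m⟩ b e s t m'
    obtain ⟨a₁, b₁, e₁, s₁, t₁, rfl⟩ := (memQ h).1 hx
    obtain ⟨E, k1⟩ := kz _ m
    obtain ⟨E', k2⟩ := kz _ (mul_mem m m')
    rw [show ∀ g x : G, g * x * (g * x) = g * x * g⁻¹ * (g * g) * x from fun g x => by group, k1, cj_mul, l_q h,
      q_conj h, q_mul h, q_mul h] at k2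
    linear_combination (q_ext h k2).2.1 - b * F4.two_eq
  by_cases c : 2 < {y | ∃ x ∈ d.QA, x * d.l y ∈ T}.ncard
  · obtain ⟨y, hy, y', hy', c⟩ := two_of _ c
    have h7 : ∀ b e s t, q d 0 b e s t ∈ T → s = 0 ∧ t = 0 := fun b e s t m => by
      have h1 := h6 y hy _ _ _ _ m
      have h2 := h6 y' hy' _ _ _ _ m
      clear * - h1 h2 c; revert y y' s t; decide
    have h8 : {s | ∃ b e t, q d 0 b e s t ∈ T}.ncard ≤ 1 := (Set.ncard_le_ncard (t := {0})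
      (by rintro s ⟨b, e, t, m⟩; exact (h7 _ _ _ _ m).1)).trans (by simp)
    have h9 : {t | ∃ b e, q d 0 b e 0 t ∈ T}.ncard ≤ 1 := (Set.ncard_le_ncard (t := {0})
      (by rintro s ⟨b, e, m⟩; exact (h7 _ _ _ _ m).2)).trans (by simp)
    have := Nat.mul_le_mul (Nat.mul_le_mul h5 h3) (Nat.mul_le_mul h8 h9)
    refine h1.trans ((Nat.mul_le_mul_left _ h2).trans ?_)
    linarith
  · have := Nat.mul_le_mul (Nat.mul_le_mul (not_lt.1 c) h3) h4
    refine h1.trans ((Nat.mul_le_mul_left _ h2).trans ?_)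
    linarith

theorem cl2 (hb : GB d) {T : Subgroup G} (hT : T ≤ d.A) {ζ : G} (k : ∀ g ∈ T, g * g = 1 ∨ g * g = ζ) :
    Nat.card T ≤ 128 := by
  by_cases c : ∀ g ∈ T, g * g = 1
  · obtain ⟨x, -, le⟩ := (sylA h hb).exists_cj_le (isPGroup_iff_forall.2 fun g hg => ⟨1, by rw [pow_one, sq, c g hg]⟩) hT
    exact card_cj x T ▸ cl2S h le (by rintro _ ⟨g, hg, rfl⟩; simp [c g hg])
  push Not at c
  obtain ⟨g₀, h₀, n₀⟩ := c
  obtain rfl := (k g₀ h₀).resolve_left n₀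
  have z2 : g₀ * g₀ * (g₀ * g₀) = 1 := (k _ (mul_mem h₀ h₀)).resolve_right (by simpa using n₀)
  have T2 : IsPGroup 2 T := isPGroup_iff_forall.2 fun g hg => ⟨2, by
    rw [pow_two 2, pow_mul, sq g]; rcases k g hg with e | e <;> simp [e, sq, z2]⟩
  rcases cls h hb (hT (mul_mem h₀ h₀)) (H14.orderOf_two_of_mul_self z2 n₀) with ⟨c, hc, e⟩ | ⟨c, hc, e⟩
  · have e' : c⁻¹ * (g₀ * g₀) * c⁻¹⁻¹ = d.z 1 := by rw [← e]; group
    have k1 := sq_cj k c⁻¹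
    rw [e'] at k1
    obtain ⟨x, hx, le⟩ := (sylD h hb).exists_cj_le (isPGroup_cj c⁻¹ T2) fun g hg => ⟨cj_le_of_le_of_mem hT (inv_mem hc) hg,
      mc1.2 (mul_inv_eq_iff_eq_mul.1 (by
        have := k1 _ (mul_mem (mul_mem hg (conj_mem_cj h₀)) (inv_mem hg))
        rw [conj_mul, conj_mul, e', conj_eq_one_iff] at this
        exact this.resolve_left fun e => one_ne_zero (h.hm.inj e).2.2))⟩
    have k2 := sq_cj k1 x
    rw [(mc1.1 hx.2).eq, mul_inv_cancel_right] at k2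
    exact card_cj c⁻¹ T ▸ card_cj x _ ▸ cl2S h le k2
  · have e' : (c⁻¹ * g₀ * c⁻¹⁻¹) ^ 2 = d.v 0 1 := by rw [conj_pow, sq, ← e]; group
    obtain ⟨x, hx, E, k1⟩ := into_XU h hb (b := c⁻¹ * g₀ * c⁻¹⁻¹)
      (d.A.mul_mem (d.A.mul_mem (d.A.inv_mem hc) (hT h₀)) (d.A.inv_mem (d.A.inv_mem hc)))
      (e' ▸ (Commute.refl _).pow_right 2) (by
        rw [conj_pow, show g₀ ^ 4 = g₀ * g₀ * (g₀ * g₀) by simp only [pow_succ, pow_zero, one_mul, mul_assoc], z2]; simp)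
    rw [e', eq_mul_inv_iff_mul_eq, ← (mc1.1 hx.2).eq, mul_right_inj, ← q_v h, GD.z, ← q_u h] at k1
    exact absurd (q_ext h k1).2.2.2.2 one_ne_zero

omit [Finite G] h in
theorem jobG1 : H88.CG.JobG1.{u} := fun _ _ _ _ g =>
  let h := g.toGR
  let hb := g.toGB
  let ha := g.toGA
  ⟨zk h hb, fun _ => memQ h, cardQ h, sylA h hb, fun _ k _ k' => out2 h ha k k', dZ h hb, fun _ k => dz h hb k,
    cz h hb ha, dQ h hb, fun _ => dq h hb, fun _ => dgen h hb, sqD h hb, sqX h, fun _ => x3 h hb,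
    fun _ => cls h hb, fun _ => sy h hb, fun _ k k' _ => lg h hb k k', fun _ => shc h hb, fun _ k _ => cl2 h hb k,
    fun _ => irr h, cQ h hb, fun _ => o2D h hb, fun _ => cenz₀ h hb, syl₀ h hb, c0 h hb ha, fun _ => bdN h hb ha,
    fun _ => bdy h hb ha⟩

end H29.CG1
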