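/- `blueprints/CO2T.md` §6, `JobInv`: the case `W(E₆)`. -/
import Cfsg.Agent.H41.C3Spec

set_option autoImplicit false
set_option maxRecDepth 100000
set_option synthInstance.maxSize 2048

namespace H29.CInv
open _root_.Cfsg Subgroup H14 H98 H44 H56.L3 H42.L3

universe u

/-- the conclusion of `JobInv` -/
def Good {G : Type*} [Group G] (t e x : G) : Prop :=
  IsConj t x ∨ ((∃ y, orderOf y = 3 ∧ Commute y x) ∧ ∃ e', IsConj e e' ∧ x * e' * x⁻¹ = e'⁻¹)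

theorem Good.conj {G : Type*} [Group G] {t e x y : G} (h : Good t e x) (c : IsConj x y) :
    Good t e y := by
  rcases h with h | ⟨⟨w, w3, wc⟩, e', h1, h2⟩
  · exact .inl (h.trans c)
  · obtain ⟨g, rfl⟩ := isConj_iff.1 c
    refine .inr ⟨⟨g * w * g⁻¹, w3 ▸ (MulAut.conj g).orderOf_eq w, wc.map (MulAut.conj g)⟩,
      g * e' * g⁻¹, h1.trans (isConj_iff.2 ⟨g, rfl⟩), ?_⟩
    rw [conj_inv (a := e'), ← h2]; group

theorem Good.map {M G : Type*} [Group M] [Group G] {f : M →* G} (hf : Function.Injective f)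
    {t e x : M} (h : Good t e x) : Good (f t) (f e) (f x) := by
  rcases h with h | ⟨⟨w, w3, wc⟩, e', h1, h2⟩
  · exact .inl (f.map_isConj h)
  · exact .inr ⟨⟨f w, by rw [orderOf_injective f hf, w3], wc.map f⟩, f e', f.map_isConj h1,
      by rw [← map_inv, ← map_inv, ← map_mul, ← map_mul, h2]⟩

theorem good_of {M : Type*} [Group M] {t e x : M} (y g : M) (h1 : y ^ 3 = 1) (h2 : y ≠ 1)
    (h3 : y * x = x * y) (h4 : x * (g * e * g⁻¹) * x⁻¹ = (g * e * g⁻¹)⁻¹) : Good t e x :=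
  haveI : Fact (Nat.Prime 3) := ⟨Nat.prime_three⟩
  .inr ⟨⟨y, orderOf_eq_prime h1 h2, h3⟩, _, isConj_iff.2 ⟨g, rfl⟩, h4⟩

theorem good_d : Good K48.t (vc 0 0 1) K48.d := good_of (vc 0 0 1) K48.s (by decide +kernel)
  (by decide +kernel) (by decide +kernel) (by decide +kernel)
theorem good_r : Good K48.t (vc 0 0 1) K48.r3 := good_of (vc 1 0 0) 1 (by decide +kernel)
  (by decide +kernel) (by decide +kernel) (by decide +kernel)
theorem good_w : Good K48.t (vc 0 0 1) (K48.t * K48.r3) := good_of (vc 1 1 0) 1 (by decide +kernel)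
  (by decide +kernel) (by decide +kernel) (by decide +kernel)
theorem good_i : Good K48.t (vc 0 0 1) K48.i := good_of K48.s 1 (by decide +kernel)
  (by decide +kernel) (by decide +kernel) (by decide +kernel)

variable {G : Type u} [Group G] [Finite G] {φ : SD J3 K48 →* G} {ψ : HS L48 →* G} (h : CtxA φ ψ)
  {x : G}
include h

set_option hygiene false in local notation "τ" => φ K48.t
set_option hygiene false in local notation "δ" => φ K48.d
set_option hygiene false in local notation "𝐑" => PP ψ ⊔ PQ φ ψ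

/-- the involutions of a coset interchanging the two quaternion groups -/
theorem swap_coset {ρ : G} (r2 : ρ * ρ = 1) (hρ : cj ρ (PP ψ) = PQ φ ψ) (hx : ρ⁻¹ * x ∈ 𝐑)
    (e : x * x = 1) : IsConj ρ x ∨ IsConj (τ * ρ) x := by
  obtain ⟨p, hp, q', hq', e'⟩ := h.mem_R hx
  rw [← h.comm hp _ hq', inv_mul_eq_iff_eq_mul] at e'
  rw [← hρ] at hq'
  obtain ⟨q, hq, rfl⟩ : ∃ q ∈ PP ψ, ρ * q * ρ⁻¹ = q' := hq'
  have h1 : p * x * p⁻¹ = p * q * ρ := by
    calc _ = p * (ρ * ρ) * q * ρ⁻¹ := by simp [e', mul_assoc]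
      _ = _ := by rw [r2, mul_one, inv_eq_of_mul_eq_one_right r2]
  have h2 : (p * q)⁻¹ ∈ PQ φ ψ := hρ ▸ ⟨_, mul_mem hp hq, eq_inv_of_mul_eq_one_right (by
    have : p * x * p⁻¹ * (p * x * p⁻¹) = 1 := by rw [conj_mul, e, mul_one, mul_inv_cancel]
    simpa [h1, mul_assoc, inv_eq_of_mul_eq_one_right r2] using this)⟩
  rcases (mem_zp h.t_sq).1 (h.mem_zp_of_cn (mul_mem hp hq)
    (le_centralizer_iff.1 h.comm (inv_mem_iff.1 h2))) with h3 | h3 <;> rw [h3] at h1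
  · exact .inl (isConj_iff.2 ⟨p, h1.trans (one_mul _)⟩).symm
  · exact .inr (isConj_iff.2 ⟨p, h1⟩).symm

omit [Finite G] in
theorem sd16 {p : G} (hp : p ∈ PP ψ) (e : φ K48.i * p * (φ K48.i * p) ∈ zpowers τ) :
    ∃ l ∈ PP ψ, l * (φ K48.i * p) * l⁻¹ = φ K48.i := by
  obtain ⟨k, hk, rfl⟩ := hp
  have hi : φ K48.i = ψ (ιK12 K12.i) := h.eq K12.i (by decide +kernel) rfl
  rw [hi, h.zp_eq, MonoidHom.comp_apply, ← map_mul, ← map_mul] at e
  obtain ⟨l, hl, e'⟩ := (by decide +kernel : ∀ k ∈ Q8, (ιK12 K12.i * gl k * (ιK12 K12.i * gl k) = 1 ∨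
    ιK12 K12.i * gl k * (ιK12 K12.i * gl k) = tH) →
    ∃ l ∈ Q8, gl l * (ιK12 K12.i * gl k) * (gl l)⁻¹ = ιK12 K12.i) k hk (of_zp h.rinj e)
  exact ⟨_, mem_PP hl, by
    rw [hi, MonoidHom.comp_apply, ← map_inv, ← map_mul, ← map_mul, ← map_mul, e']⟩

theorem i_coset (hx : (φ K48.i)⁻¹ * x ∈ 𝐑) (e : x * x = 1) : IsConj (φ K48.i) x := by
  obtain ⟨p, hp, q, hq, e'⟩ := h.mem_R hx
  rw [inv_mul_eq_iff_eq_mul] at e'
  have i2 : φ K48.i * φ K48.i = 1 := by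
    rw [← map_mul, (by decide +kernel : K48.i * K48.i = 1), map_one]
  have ii := inv_eq_of_mul_eq_one_right i2
  have hP : φ K48.i * p * (φ K48.i)⁻¹ ∈ PP ψ :=
    (h.cjP (m := K48.i) (by decide +kernel) (by decide +kernel)).le (conj_mem_cj hp)
  have hQ : φ K48.i * q * (φ K48.i)⁻¹ ∈ PQ φ ψ :=
    (h.cjQ (m := K48.i) (by decide +kernel) (by decide +kernel)).le (conj_mem_cj hq)
  have h1 : φ K48.i * p * (φ K48.i * p) * (φ K48.i * q * (φ K48.i * q)) = 1 := by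
    have h2 := h.comm hp _ hQ
    rw [ii] at h2
    calc _ = φ K48.i * p * φ K48.i * (p * (φ K48.i * q * φ K48.i)) * q := by group
      _ = φ K48.i * p * (φ K48.i * φ K48.i) * q * (φ K48.i * (p * q)) := by rw [← h2]; group
      _ = φ K48.i * (p * q) * (φ K48.i * (p * q)) := by rw [i2]; group
      _ = 1 := by rw [← e', e]
  have hA : φ K48.i * p * (φ K48.i * p) ∈ PP ψ := by
    rw [← mul_assoc]; rw [ii] at hP; exact mul_mem hP hp
  have hB : φ K48.i * q * (φ K48.i * q) ∈ PQ φ ψ := by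
    rw [← mul_assoc]; rw [ii] at hQ; exact mul_mem hQ hq
  have hA' := h.mem_zp_of_cn hA (le_centralizer_iff.1 h.comm (by
    rw [eq_inv_of_mul_eq_one_left h1]; exact inv_mem hB))
  have hB' : φ K48.i * q * (φ K48.i * q) ∈ zpowers τ := by
    rw [eq_inv_of_mul_eq_one_right h1]; exact inv_mem hA'
  obtain ⟨l, hl, el⟩ := sd16 h hp hA'
  obtain ⟨q', hq', rfl⟩ : ∃ q' ∈ PP ψ, δ * q' * δ⁻¹ = q := hq
  have di : δ * φ K48.i * δ⁻¹ = φ K48.i := by
    rw [← map_inv, ← map_mul, ← map_mul]; exact congrArg φ (by decide +kernel)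
  obtain ⟨l', -, el'⟩ := sd16 h hq' (by
    have := conj_mem_of_mem_normalizer' (Ce_le_nr h.d_mem) hB'
    rw [← di] at this
    simpa [mul_assoc] using this)
  refine (isConj_iff.2 ⟨δ * l' * δ⁻¹ * l, ?_⟩).symm
  have h3 : δ * q' * δ⁻¹ * l⁻¹ = l⁻¹ * (δ * q' * δ⁻¹) := h.comm (inv_mem hl) _ ⟨q', hq', rfl⟩
  calc _ = δ * l' * δ⁻¹ * (l * (φ K48.i * p) * (δ * q' * δ⁻¹ * l⁻¹)) * (δ * l' * δ⁻¹)⁻¹ := by
        rw [e']; group
    _ = δ * l' * δ⁻¹ * (l * (φ K48.i * p) * l⁻¹ * (δ * q' * δ⁻¹)) * (δ * l' * δ⁻¹)⁻¹ := by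
        rw [h3]; group
    _ = δ * (l' * (φ K48.i * q') * l'⁻¹) * δ⁻¹ := by
        rw [el]; nth_rw 1 [← di]; group
    _ = _ := by rw [el', di]

theorem caseA (e : x * x = 1) (h1 : x ≠ 1) : Good τ (φ (vc 0 0 1)) x := by
  have gd : ∀ {y : G}, (∃ g, g * y * g⁻¹ = δ ∨ g * y * g⁻¹ = τ) → Good τ (φ (vc 0 0 1)) y := by
    rintro y ⟨g, e | e⟩
    · exact (good_d.map h.inj).conj (isConj_iff.2 ⟨g, e⟩).symm
    · exact .inl (isConj_iff.2 ⟨g, e⟩).symm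
  obtain ⟨T, hT⟩ := exists_isSyl 2 (Ce τ)
  have hT' : IsSyl 2 T ⊤ := isSyl_of_not_dvd_relIndex le_top hT.isPGroup (by
    rw [← relIndex_mul_relIndex T (Ce τ) ⊤ hT.le le_top, relIndex_top_right]
    exact fun e => (Nat.prime_two.dvd_mul.1 e).elim hT.not_dvd_relIndex
      (Nat.two_dvd_ne_zero.2 (Nat.odd_iff.1 h.odd_index)))
  obtain ⟨g, -, hg⟩ := hT'.exists_cj_le (isPGroup_zpowers (x := x) (k := 1) (by
    rw [pow_one, pow_two, e])) le_top
  have hy : g * x * g⁻¹ ∈ Ce τ := hT.le (hg (conj_mem_cj (mem_zpowers x)))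
  have e2 : g * x * g⁻¹ * (g * x * g⁻¹) = 1 := by rw [conj_mul, e]; simp
  have y1 : g * x * g⁻¹ ≠ 1 := fun h => h1 (conj_eq_one_iff.1 h)
  refine Good.conj ?_ (isConj_iff.2 ⟨g, rfl⟩).symm
  generalize g * x * g⁻¹ = y at hy e2 y1
  obtain ⟨_, ⟨hm, m, rfl⟩, r, hr, e'⟩ := (mem_sup_left_norm h.range_nr).1 (h.C_le hy)
  have h3 : φ (m * m) ∈ zpowers τ := h.R_inf (mem_inf.2 ⟨by
    have := mul_mem (conj_mem_of_mem_normalizer' (h.C_nr hm) hr) hr
    rw [← inv_mem_iff, map_mul, ← mul_one (_ * _)⁻¹, ← e2, e']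
    simpa [mul_assoc] using this, _, rfl⟩)
  have t : ∀ n : SD J3 K48, n = 1 ∨ n = K48.t → φ n ∈ 𝐑 := fun n hn => mem_sup_left
    (zpowers_le.2 h.t_mem_P ((mem_zp h.t_sq).2 (hn.imp (fun e => by rw [e, map_one]) (congrArg φ))))
  obtain ⟨n, hn, c, hc, h4⟩ := (by decide +kernel : ∀ m : SD J3 K48, m * K48.t = K48.t * m →
    (m * m = 1 ∨ m * m = K48.t) → ∃ n ∈ [vc 0 0 0, vc 0 0 1, vc 0 0 2, vc 1 1 0, vc 1 1 1, vc 1 1 2,
      vc 2 2 0, vc 2 2 1, vc 2 2 2], ∃ c ∈ [1, K48.d, K48.r3, K48.i],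
      c⁻¹ * (n * m * n⁻¹) = 1 ∨ c⁻¹ * (n * m * n⁻¹) = K48.t) m (h.mem_C.1 hm)
    (((mem_zp h.t_sq).1 h3).imp (fun e => h.inj (e.trans φ.map_one.symm)) fun e => h.inj e)
  have nC : φ n ∈ Ce τ := h.mem_C.2 (by clear h4; revert n; decide +kernel)
  have h5 : (φ c)⁻¹ * (φ n * y * (φ n)⁻¹) ∈ 𝐑 := by
    simpa [e', mul_assoc] using mul_mem (t _ h4) (conj_mem_of_mem_normalizer (h.C_nr nC) hr)
  have e3 : φ n * y * (φ n)⁻¹ * (φ n * y * (φ n)⁻¹) = 1 := by rw [conj_mul, e2]; simp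
  have w1 : φ n * y * (φ n)⁻¹ ≠ 1 := fun h => y1 (conj_eq_one_iff.1 h)
  refine Good.conj ?_ (isConj_iff.2 ⟨φ n, rfl⟩).symm
  generalize φ n * y * (φ n)⁻¹ = w at h5 e3 w1
  simp only [List.mem_cons, List.not_mem_nil, or_false] at hc
  rcases hc with rfl | rfl | rfl | rfl
  · obtain ⟨F, hF⟩ := h.exists_F
    exact gd (h.inv_R hF (by simpa using h5) e3 w1)
  · exact gd (h.inv_coset h5 e3)
  · rcases swap_coset h (by rw [← map_mul, (by decide +kernel : K48.r3 * K48.r3 = 1), map_one])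
      (h.cjP' (m := K48.r3) (by decide +kernel) (by decide +kernel)) h5 e3 with c | c
    · exact (good_r.map h.inj).conj c
    · exact (good_w.map h.inj).conj (by rwa [map_mul])
  · exact (good_i.map h.inj).conj (i_coset h h5 e3)

end H29.CInv
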