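/- `blueprints/CO2T.md` §6, `JobInv`. -/
import Cfsg.Agent.H29.CInvA
import Cfsg.Agent.H39.Sp6D

set_option autoImplicit false
set_option maxRecDepth 100000
set_option synthInstance.maxSize 4096

namespace H29.CInv
open _root_.Cfsg Subgroup H14 H98 H44 H56.L3 H42.L3 Equiv H49 H71 H22.Sp6 H39.Sp6 H39.L3 H69.Std
  H69.Std.Sp6

universe u

theorem good_model {x : UG CS6} (h1 : x * x = 1) (h0 : x ≠ 1) : Good z (τ 3 * τ 6) x := by
  have k : ∀ m ∈ [m0, m1, m2, m3], m * m = 1 → m ≠ 1 → Good z (τ 3 * τ 6) m := fun m hm a b => by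
    have t := exists_three a b
    simp only [List.mem_cons, List.not_mem_nil, or_false] at hm
    rcases hm with rfl | rfl | rfl | rfl
    · exact .inr ⟨t, _, isConj_iff.2 ⟨wd gS [3, 2], rfl⟩, by decide +kernel⟩
    · exact .inl (isConj_iff.2 ⟨wd gS [4, 2, 3, 6, 5, 4, 2, 3, 0, 1], by decide +kernel⟩)
    · exact .inr ⟨t, _, isConj_iff.2 ⟨wd gS [1, 2, 3, 0, 1, 2], rfl⟩, by decide +kernel⟩
    · exact .inr ⟨t, _, isConj_iff.2 ⟨wd gS [1, 2], rfl⟩, by decide +kernel⟩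
  refine forall_of_pairB (a := 9) (n := 2835) sy_card card_M (by decide) SL_all pair_ok
    (P := fun x _ => x * x = 1 → x ≠ 1 → Good z (τ 3 * τ 6) x) (fun h x _ H a b =>
      (H (by rw [conj_mul, a]; simp) fun e => b (conj_eq_one_iff.1 e)).conj
        (isConj_iff.2 ⟨h, rfl⟩).symm) (fun c hc => ?_) h1 h0 (Commute.one_left x) (one_pow 4) h1 h0
  have := k c.m (List.mem_map_of_mem (f := Cl.m) hc)
  exact ⟨fun _ _ => this, fun _ _ => this, fun _ _ => this⟩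

theorem caseB {G : Type u} [Group G] [Finite G] {φ : SD J3 K48 →* G} {ψ : HS L48 →* G}
    {lam : P6 × P3 →* G} (h : Hy φ ψ lam) {x : G} (e1 : x * x = 1) (e0 : x ≠ 1) :
    Good (φ K48.t) (φ (vc 0 0 1)) x := by
  have i0 : ∀ {m}, m ≠ 1 → lam m ≠ 1 := fun hm e => hm (h.B.inj (e.trans lam.map_one.symm))
  obtain ⟨j, hj, e⟩ := exists_hom h.lift (fun z hz => (h.cent_s fun i _ => hz i).resolve_right
    fun e => absurd ((map_mem_Ce h.B.inj).1 (mem_Ce.2 (e ▸ hz 0 :))) (by decide +kernel))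
    (i0 (by decide +kernel))
  obtain ⟨θ, h1, h2⟩ := exists_theta
  obtain ⟨h3, h4⟩ := h.lam_le (H := j.range) (fun i => ⟨_, e i⟩) ⟨θ, (h.cent_s fun i hi =>
    e i ▸ (h2 i hi).map j).resolve_left fun e => h1 (hj (e.trans j.map_one.symm))⟩
  have h5 : j z = φ K48.s * lam (swap 2 4, 1) * φ K48.t * (φ K48.s * lam (swap 2 4, 1))⁻¹ := by
    rw [show z = τ (σ7 6) * τ (σ7 4) * τ (σ7 1) from z_eq, map_mul,
      map_mul, e, e, e, h.s1 (by decide), h.s1 (by decide), h.s1 (by decide), conj_mul, conj_mul,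
      ← map_mul, ← map_mul, h.t_l,
      show f1 6 * f1 4 * f1 1 = (swap 2 4, 1) * (tt, 1) * (swap 2 4, 1)⁻¹ by decide +kernel]
    simp only [map_mul, map_inv, mul_inv_rev, mul_assoc]
  have h6 : Ce (j z) ≤ j.range := by
    rw [h5, ← cj_Ce, cj_le_iff]
    exact (h.Ce_t_le h3 h4).trans (cj_eq_self_of_mem (inv_mem (mul_mem h4 (h3 ⟨_, rfl⟩)))).ge
  have h7 : j (τ 3 * τ 6) = φ (vc 0 0 1) := by
    rw [show τ 3 * τ 6 = τ (σ7 3) * τ (σ7 1) from rfl, map_mul, e, e, h.B.e3]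
    show lam (1, swap 0 1) * lam (1, swap 1 2) = _
    rw [← map_mul]; simp
  obtain ⟨x, rfl⟩ := surj hj (h.se h3 h4) h6 x
  have := (good_model (x := x) (hj (by rw [map_mul, e1, map_one]))
    fun e => e0 (by rw [e, map_one])).map hj
  rw [h7] at this
  exact this.imp (fun c => (isConj_iff.2 ⟨_, h5.symm⟩).trans c) id

theorem jobInv : H41.C3.JobInv.{u} := fun _ _ _ _ _ h hc _ e1 e0 =>
  hc.elim (fun he => caseA ⟨h, he⟩ e1 e0) fun ⟨_, hB⟩ => caseB ⟨h, hB⟩ e1 e0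

end H29.CInv
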