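/- D3 tower: conjugates of `W` are opposite, odd characteristic. -/
import Cfsg.Agent.H90.D3Kit

set_option autoImplicit false
set_option linter.unusedSectionVars false

open Subgroup H90.RF H90.D3

universe v

namespace H29.D3Oa

variable {K : Type*} [Field K] [Finite K] {T : CF K} {p : ℕ}
  {Y0 Y1 Y2 : Subgroup (Equiv.Perm (Co T))} {α γ η : Equiv.Perm (Co T)} {z : Co T}

theorem ia (α : Equiv.Perm (Co T)) (u : Co T) : α⁻¹ (α u) = u := α.symm_apply_apply u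
theorem ai (α : Equiv.Perm (Co T)) (u : Co T) : α (α⁻¹ u) = u := α.apply_symm_apply u

theorem coe2 : ((2 : T.k) : K) = 2 := map_ofNat T.k.subtype 2

theorem line1 (hA : A1 T) {β : Co T → Co T} (a : Au (sQ1 T) β) (hz : z ∈ sW T) (hz' : z ∉ sZ T)
    {w : Co T} (hw : w ∈ sW T) : ∃ l : T.k, EqV (β w) ((β z).sm l) := by
  obtain ⟨ψ, hψ⟩ := hA β a
  have he : z.e ≠ 0 := fun h => hz' ⟨hz.1, hz.2.1, hz.2.2.1, hz.2.2.2, h⟩
  refine ⟨ψ (w.ek / z.ek), EqV.trans (EqV.map a (W_le_Q1 hw) (sm_mem _ _) ?_)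
    (hψ _ z (W_le_Q1 hz))⟩
  refine ⟨?_, ?_, ?_, ?_⟩
  · rw [sm_b, hw.2.1, hz.2.1, mul_zero]
  · rw [sm_c, hw.2.2.1, hz.2.2.1, mul_zero]
  · rw [sm_d, hw.2.2.2, hz.2.2.2, mul_zero]
  · rw [sm_e]; push_cast; rw [Co.coe_ek, Co.coe_ek, div_mul_cancel₀ _ he]

theorem line2 (hA : A1 T) {β : Co T → Co T} (a : Au (sQ1 T) β) (hz : z ∈ sW T) (l : T.k) :
    ∃ w ∈ sW T, EqV (β w) ((β z).sm l) := by
  obtain ⟨ψ, hψ⟩ := hA β a
  refine ⟨z.sm (ψ.symm l), ⟨rfl, ?_, ?_, ?_⟩, ?_⟩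
  · rw [sm_b, hz.2.1, mul_zero]
  · rw [sm_c, hz.2.2.1, mul_zero]
  · rw [sm_d, hz.2.2.2, mul_zero]
  · simpa using hψ (ψ.symm l) z (W_le_Q1 hz)

/-- (S) -/
theorem pr_of_Z3 (hA : A1 T) (h : Tri T p Y0 Y1 Y2) (hγ : γ ∈ Y1) (hz : z ∈ sW T)
    (hz' : z ∉ sZ T) (h3 : γ z ∈ sZ3 T) : Pr γ (sW T) := by
  have a := h.l1.au γ hγ
  obtain ⟨t, ht, ht'⟩ := T.exists_perp (γ z).d
  refine h.ti1 γ hγ (xa T t) ht fun w hw => ?_
  obtain ⟨l, e1, e2, e3, -⟩ := line1 hA a hz hz' hw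
  rw [sm_b, h3.2.1, mul_zero] at e1
  rw [sm_c, h3.2.2, mul_zero] at e2
  rw [sm_d] at e3
  have hq := a.mem w (W_le_Q1 hw)
  have hq' : (xa T t)⁻¹ * γ w * xa T t ∈ sQ1 T := by
    simpa using (nQ1 (T := T)).conj_mem _ hq (xa T t)⁻¹
  obtain ⟨c1, c2, c3, c4⟩ := cj_Q1 (xa T t) hq
  have h4 : (γ w)⁻¹ * ((xa T t)⁻¹ * γ w * xa T t) ∈ sZ T := by
    refine (Q1_mod hq hq').2 ⟨c1, ?_, ?_, ?_⟩
    · rw [c2, e1, mul_zero, add_zero]
    · rw [c3, e1, e2]; simp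
    · have e4 : (xa T t).a = t := rfl
      rw [c4, e1, e2, e3, e4, mul_left_comm, T.tr_k, mul_comm t, ht']; simp
  obtain ⟨ζ, hζ, e5⟩ := a.sur_of (Z_le.trans W_le_Q1) (pr_Z1 a) _ h4
  refine ⟨w * ζ, mul_mem hw (Z_le hζ), ?_⟩
  rw [a.mul w (W_le_Q1 hw) ζ (W_le_Q1 (Z_le hζ)), e5, mul_inv_cancel_left]

theorem exists_u (h : Tri T p Y0 Y1 Y2) (t : K) :
    ∃ u ∈ Y1, ∀ w ∈ sQ1 T, u w = (xa T t)⁻¹ * w * xa T t := by
  obtain ⟨y, hy, e⟩ := h.inn (xa T t)⁻¹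
  obtain ⟨u, hu, e'⟩ := h.res1 y hy
  exact ⟨u, hu, fun w hw => by rw [e' w hw, e, inv_inv]⟩

theorem exists_h (h : Tri T p Y0 Y1 Y2) (h2 : H2 T Y0) (s : T.k) (hs : s ≠ 0) :
    ∃ η ∈ Y1, ∀ w ∈ sQ1 T, (η w).a = 0 ∧ (η w).b = s ^ 2 * w.b ∧ (η w).c = s * w.c ∧
      (η w).d = w.d ∧ (η w).e = (s : K)⁻¹ * w.e ∧ (η w).g = s * w.g := by
  obtain ⟨y, hy, e⟩ := h2 s hs
  obtain ⟨η, hη, e'⟩ := h.res1 y hy
  have hs' : (s : K) ≠ 0 := fun h => hs (Subtype.ext h)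
  refine ⟨η, hη, fun w hw => ?_⟩
  have hw' : w.a = 0 := hw
  rw [e' w hw, e]
  simp only [dg, T.sh_inv, T.nm_inv, T.sh_of_fix (T.σ_k s), T.nm_of_fix (T.σ_k s), hw']
  push_cast
  refine ⟨mul_zero _, rfl, ?_, ?_, ?_, ?_⟩ <;> field_simp

/-- (T) -/
theorem conj_std (h : Tri T p Y0 Y1 Y2) (hS : Std T Y0) (hα : α ∈ Y1) (hη : η ∈ Y1) {n : ℕ}
    (hn : (n : K) ≠ 0) (hZ : ∀ w ∈ sZ T, (η w).g = n * w.g)
    (hW : ∀ w ∈ sW T, EqV (η (α w)) (α w ^ n)) :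
    ∃ (x : K) (φ : RingAut K), (∀ l : T.k, φ l = l) ∧ T.nm x = n ∧
      (∀ u ∈ sQ1 T, (α⁻¹ (η (α u))).b = u.b) ∧ ∀ u ∈ sZ4 T, (α⁻¹ (η (α u))).c = x * φ u.c := by
  have a := h.l1.au α hα
  have a' := h.l1.au α⁻¹ (inv_mem hα)
  have b := h.l1.au η hη
  have hγ : α⁻¹ * η * α ∈ Y1 := mul_mem (mul_mem (inv_mem hα) hη) hα
  have h1 : ∀ w ∈ sW T, EqV (α⁻¹ (η (α w))) (w ^ n) := fun w hw => by
    have hq := W_le_Q1 hw
    have := EqV.map a' (b.mem _ (a.mem w hq)) (pow_mem (a.mem w hq) n) (hW w hw)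
    rwa [← a.pow hq, ia] at this
  have h2 : Pr (α⁻¹ * η * α : Equiv.Perm (Co T)) (sW T) := fun w hw => by
    obtain ⟨e1, e2, e3, -⟩ := h1 w hw
    have h3 := pow_mem hw n
    exact ⟨a'.mem _ (b.mem _ (a.mem w (W_le_Q1 hw))), e1.trans h3.2.1, e2.trans h3.2.2.1,
      e3.trans h3.2.2.2⟩
  obtain ⟨y, hy, e⟩ := h.ext1 _ hγ h2
  obtain ⟨δ, hδ⟩ := hS y hy
  obtain ⟨-, c1, c2, -, c4, c5⟩ := Cg_sd hδ
  have e' : ∀ u ∈ sQ1 T, α⁻¹ (η (α u)) = y u := e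
  have k1 : T.nm δ.x * δ.y = n := by
    have hw : xe T 1 ∈ sW T := ⟨rfl, rfl, rfl, rfl⟩
    have := c4 _ hw
    rw [← e' _ (W_le_Q1 hw), (h1 _ hw).2.2.2, (pow_Q1 rfl n).2.2.2] at this
    simpa [xe] using this.symm
  have k2 : ∀ l : T.k, T.nm δ.x * δ.y ^ 2 * δ.φ l = n * l := fun l => by
    have hw : xg T l ∈ sZ T := ⟨rfl, rfl, rfl, rfl, rfl⟩
    have hq := W_le_Q1 (Z_le hw)
    have h3 := pr_Z1 a _ hw
    have h4 : η (α (xg T l)) = α (xg T l) ^ n :=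
      eq_of_Z (pr_Z1 b _ h3) (pow_mem h3 n) (by rw [hZ _ h3, pow_Z3 (W_le (Z_le h3))])
    have := c5 _ hw
    rw [← e' _ hq, h4, ← a.pow hq, ia, pow_Z3 (W_le (Z_le hw))] at this
    exact this.symm
  have k3 : (δ.y : K) = 1 := by
    have := k2 1
    rw [OneMemClass.coe_one, map_one, mul_one, mul_one, pow_two, ← mul_assoc, k1] at this
    exact (mul_eq_left₀ hn).1 this
  rw [k3, mul_one] at k1
  have k4 : ∀ l : T.k, δ.φ l = l := fun l => by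
    have := k2 l
    rw [k3, one_pow, mul_one, k1] at this
    exact mul_left_cancel₀ hn this
  refine ⟨δ.x, δ.φ, k4, k1, fun u hu => ?_, fun u hu => ?_⟩
  · rw [e' u hu, c1 u hu, k3, one_mul]; exact k4 u.bk
  · rw [e' u (Z4_le hu), c2 u hu, k3, mul_one]

/-- the normalised counterexample -/
structure Cx (T : CF K) (α : Equiv.Perm (Co T)) (z : Co T) : Prop where
  w : z ∈ sW T
  b : (α z).b = 0
  c : (α z).c ≠ 0
  d : (α z).d = 0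

theorem not_Z {β : Co T → Co T} (a : Au (sQ1 T) β) (hc : (β z).c ≠ 0) : z ∉ sZ T :=
  fun h => hc (pr_Z1 a z h).2.2.1

theorem Cx.pow (x : Cx T α z) (hA : A1 T) (a : Au (sQ1 T) α) {n : ℕ} {s : T.k} (hs : (s : K) = n)
    (hη : ∀ w ∈ sQ1 T, (η w).a = 0 ∧ (η w).b = s ^ 2 * w.b ∧ (η w).c = s * w.c ∧
      (η w).d = w.d ∧ (η w).e = (s : K)⁻¹ * w.e ∧ (η w).g = s * w.g)
    (he : (s : K)⁻¹ * (α z).e = s * (α z).e) : ∀ w ∈ sW T, EqV (η (α w)) (α w ^ n) := by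
  intro w hw
  obtain ⟨l, e1, -, e3, e4⟩ := line1 hA a x.w (not_Z a x.c) hw
  rw [sm_b, x.b, mul_zero] at e1
  rw [sm_d, x.d, mul_zero] at e3
  rw [sm_e] at e4
  have hq := a.mem w (W_le_Q1 hw)
  obtain ⟨-, k1, k2, k3, k4, -⟩ := hη _ hq
  obtain ⟨p1, p2, p3, p4⟩ := pow_Q1 hq n
  refine ⟨by rw [k1, p1, e1]; simp, by rw [k2, p2, hs], by rw [k3, p3, e3]; simp, ?_⟩
  rw [k4, p4, e4, mul_left_comm, he, hs, mul_left_comm]

theorem Cx.xd_mem [Fact p.Prime] [CharP K p] (x : Cx T α z) (h2 : (2 : K) ≠ 0) (hA : A1 T)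
    (h : Tri T p Y0 Y1 Y2) (hS : Std T Y0) (hH : H2 T Y0) (hα : α ∈ Y1) {r : K}
    (hr : T.tr ((α z).c * r) = 0) : α⁻¹ (xd T r) ∈ sZ3 T := by
  have a := h.l1.au α hα
  have a' := h.l1.au α⁻¹ (inv_mem hα)
  obtain ⟨η, hη, k⟩ := exists_h h hH (-1) (neg_ne_zero.2 one_ne_zero)
  have hn : ((p - 1 : ℕ) : K) = -1 := by
    rw [Nat.cast_sub (Fact.out : p.Prime).one_le]; simp
  have hs : ((-1 : T.k) : K) = (p - 1 : ℕ) := by rw [hn]; simp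
  obtain ⟨y, φ, k1, k2, k3, k4⟩ := conj_std h hS hα hη (n := p - 1) (by rw [hn]; simp)
    (fun w hw => by rw [(k w (W_le_Q1 (Z_le hw))).2.2.2.2.2, hs]) (x.pow hA a hs k (by simp))
  have hηη : ∀ w ∈ sQ1 T, η (η w) = w := fun w hw => by
    obtain ⟨e0, e1, e2, e3, e4, e5⟩ := k w hw
    obtain ⟨f0, f1, f2, f3, f4, f5⟩ := k (η w) e0
    have hw' : w.a = 0 := hw
    ext <;> simp_all
  have h5 : ∀ c : K, y * φ (y * φ c) = c := fun c => by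
    have hu : xc T c ∈ sZ4 T := ⟨rfl, rfl⟩
    have hq := (h.l1.au η hη).mem _ (a.mem _ (Z4_le hu))
    have hu' : α⁻¹ (η (α (xc T c))) ∈ sZ4 T := ⟨a'.mem _ hq, k3 _ (Z4_le hu)⟩
    have := k4 _ hu'
    rw [ai, hηη _ (a.mem _ (Z4_le hu)), ia,
      k4 _ hu] at this
    exact this.symm
  have h6 : y * φ y = 1 := by simpa using h5 1
  have h7 : ∀ t, φ t = t := T.gal_two φ k1 fun t => by
    have := h5 t
    rwa [map_mul, ← mul_assoc, h6, one_mul] at this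
  rw [h7] at h6
  have h8 : y = -1 := (mul_self_eq_one_iff.1 h6).resolve_left fun e => by
    rw [e, T.nm_one, hn] at k2
    exact h2 (by linear_combination k2)
  have hq : xd T r ∈ sQ1 T := rfl
  have hm := a'.mem _ hq
  have hzq := W_le_Q1 x.w
  have hb : (α⁻¹ (xd T r)).b = 0 := by
    have e1 : cm (xd T r) (α z) = 1 := eq_of_Z (cm_Q1 hq (a.mem _ hzq)) (one_mem _) (by
      rw [cm_g1 hq (a.mem _ hzq), x.b]
      simpa [xd] using hr)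
    have e2 := a'.cm hq (a.mem _ hzq)
    rw [e1, a'.one, ia] at e2
    have e3 := cm_g1 hm hzq
    rw [← e2, x.w.2.1, x.w.2.2.1, x.w.2.2.2] at e3
    have e4 : z.e ≠ 0 := fun h => not_Z a x.c ⟨x.w.1, x.w.2.1, x.w.2.2.1, x.w.2.2.2, h⟩
    simpa [e4] using e3
  refine ⟨hm, hb, ?_⟩
  have e1 : η (xd T r) = xd T r := by
    obtain ⟨e0, e1, e2, e3, e4, e5⟩ := k _ hq
    ext <;> simp_all [xd]
  have e2 := k4 _ ⟨hm, hb⟩
  rw [ai, e1, h7, h8] at e2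
  exact (mul_eq_zero.1 (show 2 * (α⁻¹ (xd T r)).c = 0 by linear_combination e2)).resolve_left h2

/-- (*) -/
theorem Cx.star (x : Cx T α z) (h2 : (2 : K) ≠ 0) (hA : A1 T) (h : Tri T p Y0 Y1 Y2) (hα : α ∈ Y1)
    (hN : ∀ r, T.tr ((α z).c * r) = 0 → α⁻¹ (xd T r) ∈ sZ3 T) (hγ : γ ∈ Y1) {w : Co T}
    (hw : w ∈ sW T) (hb : (γ w).b = 0) (hc : (γ w).c = (α z).c) (hd : (γ w).d = 0) {t : K}
    (ht : T.tr (T.sh (α z).c * t) = 0) (he : (γ w).e + T.tr (T.sh t * (α z).c) = (α z).e) :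
    t = 0 := by
  have a := h.l1.au α hα
  have a' := h.l1.au α⁻¹ (inv_mem hα)
  have b := h.l1.au γ hγ
  obtain ⟨u, hu, e⟩ := exists_u h t
  have hq := b.mem _ (W_le_Q1 hw)
  have hq' := (h.l1.au u hu).mem _ hq
  obtain ⟨c1, c2, c3, c4⟩ := cj_Q1 (xa T t) hq
  have e4 : (xa T t).a = t := rfl
  rw [← e _ hq, hb] at c1 c2 c3 c4
  rw [e4] at c2 c3 c4
  rw [hc] at c2 c3 c4
  rw [hd] at c3 c4
  have hr := hN (T.cr (α z).c t) (by rw [T.tr_cr_self, ht, mul_zero])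
  have hx : xd T (T.cr (α z).c t) ∈ sQ1 T := rfl
  have hzq := a.mem _ (W_le_Q1 x.w)
  have h3 : EqV (u (γ w)) (α z * xd T (T.cr (α z).c t)) := by
    refine ⟨?_, ?_, ?_, ?_⟩
    · rw [c1]; simp [xd, x.b]
    · rw [c2]; simp [xd]
    · rw [c3, T.cr_comm]; simp [xd, x.d]
    · rw [c4]; simpa [xd] using he
  have h4 := EqV.map a' hq' (mul_mem hzq hx) h3
  rw [a'.mul _ hzq _ hx, ia] at h4
  have h5 := mul_mem (W_le x.w) hr
  have h6 := pr_of_Z3 hA h (mul_mem (mul_mem (inv_mem hα) hu) hγ) hw (not_Z b (hc ▸ x.c))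
    ⟨a'.mem _ hq', h4.1.trans h5.2.1, h4.2.1.trans h5.2.2⟩ w hw
  obtain ⟨l, -, -, e3, -⟩ := line1 hA a x.w (not_Z a x.c) h6
  have e5 : α ((α⁻¹ * u * γ) w) = u (γ w) := ai _ _
  rw [e5, c3, sm_d, x.d, T.cr_comm] at e3
  exact (T.cr_eq_zero x.c (by simpa using e3)).1 h2

/-- an anisotropic binary form takes every value -/
theorem exists_val (h2 : (2 : K) ≠ 0) {c : K}
    (h : ∀ t, T.tr (T.sh c * t) = 0 → T.tr (T.sh t * c) = 0 → t = 0) (l : T.k) :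
    ∃ t, T.tr (T.sh c * t) = 0 ∧ T.tr (T.sh t * c) = l := by
  obtain ⟨v, w, hv, hw, hvw⟩ := T.exists_perp2 (T.sh c)
  have hP : ∀ x y : T.k, T.tr (T.sh c * (x * v + y * w)) = 0 := fun x y => by
    rw [mul_add, T.tr_add, mul_left_comm, T.tr_k, mul_left_comm, T.tr_k, hv, hw]; simp
  have hQ : ∀ (v w : K) (x y : T.k), T.tr (T.sh (x * v + y * w) * c) = x ^ 2 * T.tr (T.sh v * c) +
      x * y * T.tr (T.cr v w * c) + y ^ 2 * T.tr (T.sh w * c) := fun v w x y => by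
    simp only [CF.tr, CF.sh, CF.cr, map_add, map_mul, T.cube, CF.σ_k]; ring
  have hv0 : v ≠ 0 := fun e => hvw (by simp [e, CF.wg])
  have hA : T.tr (T.sh v * c) ≠ 0 := fun e => hv0 (h v hv e)
  let A : T.k := T.trk (T.sh v * c)
  let B : T.k := T.trk (T.cr v w * c)
  let C : T.k := T.trk (T.sh w * c)
  have hA' : A ≠ 0 := fun e => hA (congrArg Subtype.val e)
  have h2' : (2 : T.k) ≠ 0 := fun e => h2 (coe2.symm.trans (congrArg Subtype.val e))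
  have hQ' : ∀ x y : T.k, T.tr (T.sh (x * v + y * w) * c) = (x ^ 2 * A + x * y * B + y ^ 2 * C : T.k) :=
    fun x y => by rw [hQ]; simp [A, B, C]
  have hD : C - B ^ 2 / (4 * A) ≠ 0 := fun e => by
    have h4 : (4 : T.k) ≠ 0 := by rw [show (4 : T.k) = 2 * 2 by norm_num]; exact mul_ne_zero h2' h2'
    have e1 := h _ (hP (-B / (2 * A)) 1) (by
      rw [hQ', ZeroMemClass.coe_eq_zero, ← e]; field_simp; ring)
    rw [OneMemClass.coe_one, one_mul, add_eq_zero_iff_eq_neg', ← neg_mul, ← NegMemClass.coe_neg] at e1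
    exact hvw (by rw [e1, T.wg_fix (T.σ_k _), T.wg_self, mul_zero])
  haveI := Fintype.ofFinite T.k
  have hodd : Fintype.card T.k % 2 = 1 :=
    FiniteField.odd_card_of_char_ne_two fun e => h2' (by
      have := ringChar.Nat.cast_ringChar (R := T.k)
      rwa [e] at this)
  obtain ⟨a, b, hab⟩ := FiniteField.exists_root_sum_quadratic
    (f := Polynomial.C A * Polynomial.X ^ 2)
    (g := Polynomial.C (C - B ^ 2 / (4 * A)) * Polynomial.X ^ 2 - Polynomial.C l)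
    (Polynomial.degree_C_mul_X_pow 2 hA')
    (by rw [Polynomial.degree_sub_C (by rw [Polynomial.degree_C_mul_X_pow 2 hD]; norm_num),
      Polynomial.degree_C_mul_X_pow 2 hD]; rfl) hodd
  simp only [Polynomial.eval_mul, Polynomial.eval_C, Polynomial.eval_pow, Polynomial.eval_X,
    Polynomial.eval_sub] at hab
  refine ⟨_, hP (a - B / (2 * A) * b) b, ?_⟩
  have h4 : (4 : T.k) ≠ 0 := by rw [show (4 : T.k) = 2 * 2 by norm_num]; exact mul_ne_zero h2' h2'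
  rw [hQ', Subtype.coe_inj, ← sub_eq_zero, ← hab]
  field_simp
  ring

theorem Cx.false [Fact p.Prime] [CharP K p] (x : Cx T α z) (h2 : (2 : K) ≠ 0) (hA : A1 T)
    (h : Tri T p Y0 Y1 Y2) (hS : Std T Y0) (hH : H2 T Y0) (hα : α ∈ Y1) : False := by
  have a := h.l1.au α hα
  have a' := h.l1.au α⁻¹ (inv_mem hα)
  have hN : ∀ r, T.tr ((α z).c * r) = 0 → α⁻¹ (xd T r) ∈ sZ3 T := fun r hr =>
    x.xd_mem h2 hA h hS hH hα hr
  have an : ∀ t, T.tr (T.sh (α z).c * t) = 0 → T.tr (T.sh t * (α z).c) = 0 → t = 0 :=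
    fun t h1 h3 => x.star h2 hA h hα hN hα x.w x.b rfl x.d h1 (by rw [h3, add_zero])
  have h3 : (3 : K) ≠ 0 := fun h3 => by
    have e : T.tr (T.sh (α z).c * (α z).c) = 0 := by
      rw [mul_comm, T.mul_sh, T.tr_of_fix (T.σ_nm _), h3, zero_mul]
    exact x.c (an _ e e)
  have h2' : (2 : T.k) ≠ 0 := fun e => h2 (coe2.symm.trans (congrArg Subtype.val e))
  have hs : ((2 : T.k) : K) = (2 : ℕ) := by rw [coe2]; simp
  have hs2 : ((2 : T.k) : K) = 2 := coe2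
  obtain ⟨η, hη, k⟩ := exists_h h hH 2 h2'
  have he : (α z).e = 0 := by
    obtain ⟨w, hw, e1, e2, e3, e4⟩ := line2 hA a x.w (2 : T.k)⁻¹
    obtain ⟨-, k1, k2, k3, k4, -⟩ := k _ (a.mem w (W_le_Q1 hw))
    rw [sm_b, x.b, mul_zero] at e1
    rw [sm_d, x.d, mul_zero] at e3
    rw [sm_c] at e2
    rw [sm_e] at e4
    push_cast at e2 e4
    rw [hs2] at e2 e4 k2 k4
    obtain ⟨t, h1, h4⟩ := exists_val h2 an ((α z).ek - 2⁻¹ * 2⁻¹ * (α z).ek)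
    push_cast at h4
    rw [hs2, Co.coe_ek] at h4
    have := x.star h2 hA h hα hN (mul_mem hη hα) hw (t := t)
      (by change (η (α w)).b = 0; rw [k1, e1, mul_zero])
      (by change (η (α w)).c = _; rw [k2, e2]; field_simp)
      (by change (η (α w)).d = 0; rw [k3, e3]) h1
      (by change (η (α w)).e + _ = _; rw [k4, e4, h4]; ring)
    rw [this, T.sh_zero, zero_mul, T.tr_zero] at h4
    field_simp at h4
    exact (mul_eq_zero.1 (show 3 * (α z).e = 0 by linear_combination -h4)).resolve_left h3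
  obtain ⟨y, φ, k1, k2, k3, k4⟩ := conj_std h hS hα hη (n := 2) (by simpa using h2)
    (fun w hw => by rw [(k w (W_le_Q1 (Z_le hw))).2.2.2.2.2, hs])
    (x.pow hA a hs k (by rw [he]; simp))
  have hC : ∀ r, α⁻¹ (xc T r) ∈ sZ3 T := fun r => by
    have hq : xc T r ∈ sQ1 T := rfl
    have hm := a'.mem _ hq
    have e1 : η (xc T r) = xc T r ^ 2 := by
      obtain ⟨e0, e1, e2, e3, e4, e5⟩ := k _ hq
      rw [pow_two, ← xc_add]
      rw [hs2] at e2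
      ext <;> simp_all [xc, two_mul]
    obtain ⟨p1, p2, -⟩ := pow_Q1 hm 2
    have e2 := k3 _ hm
    rw [ai, e1, a'.pow hq, p1] at e2
    have hb : (α⁻¹ (xc T r)).b = 0 := by push_cast at e2; linear_combination e2
    have e3 := congrArg T.nm (k4 _ ⟨hm, hb⟩)
    rw [ai, e1, a'.pow hq, p2, T.nm_mul, T.nm_mul, k2, ← T.map_nm, ← T.coe_nmk (α⁻¹ (xc T r)).c, k1,
      T.nm_of_fix (map_natCast _ 2), T.coe_nmk] at e3
    push_cast at e3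
    refine ⟨hm, hb, T.nm_eq_zero.1 ?_⟩
    exact (mul_eq_zero.1 (show (2 * 3) * T.nm (α⁻¹ (xc T r)).c = 0 by
      linear_combination e3)).resolve_left (mul_ne_zero h2 h3)
  obtain ⟨t, ht, ht'⟩ := T.exists_perp (T.sh (α z).c)
  refine ht ((T.cr_eq_zero x.c (T.tr_nd fun r => ?_)).1 h2)
  have h5 := cm_Z3_Z3 (hN (T.cr (α z).c t) (by rw [T.tr_cr_self, ht', mul_zero])) (hC r)
  have hq : xd T (T.cr (α z).c t) ∈ sQ1 T := rfl
  have hq' : xc T r ∈ sQ1 T := rfl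
  rw [← a'.cm hq hq'] at h5
  have h6 := cm_g1 hq hq'
  rw [a'.inj _ (W_le_Q1 (Z_le (cm_Q1 hq hq'))) h5] at h6
  rw [mul_comm]
  simpa [xc, xd] using h6.symm

theorem jobOa : JobOa.{v} := by
  intro p _ K _ _ _ T h2 hA Y0 Y1 Y2 h hS hH α hα
  by_contra hcon
  rw [not_or] at hcon
  obtain ⟨h1, h3⟩ := hcon
  push Not at h3
  obtain ⟨z, hz, hb, hz'⟩ := h3
  have hq := (h.l1.au α hα).mem z (W_le_Q1 hz)
  have hc : (α z).c ≠ 0 := fun e => h1 (pr_of_Z3 hA h hα hz hz' ⟨hq, hb, e⟩)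
  obtain ⟨t, ht⟩ := T.cr_sur h2 hc (-(α z).d)
  obtain ⟨u, hu, e⟩ := exists_u h t
  obtain ⟨c1, c2, c3, -⟩ := cj_Q1 (xa T t) hq
  have e4 : (xa T t).a = t := rfl
  rw [← e _ hq, hb] at c1 c2 c3
  rw [e4] at c2 c3
  refine Cx.false (α := u * α) (z := z) ⟨hz, c1, ?_, ?_⟩ h2 hA h hS hH (mul_mem hu hα)
  · change (u (α z)).c ≠ 0
    rw [c2]; simpa using hc
  · change (u (α z)).d = 0
    rw [c3, T.cr_comm, ht]; simp

end H29.D3Oa
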