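/- DP0-C (S3275), slot NC. -/
import Cfsg.Agent.H98.DP0CSpec

set_option autoImplicit false

open Subgroup Cfsg H98 H48.DP H57.DPC H48.DP2 H98.DP0C H14

namespace H29.DPN

universe u
variable {X : Type u} [Group X] [Finite X] {A K : Subgroup X} {e : X}

theorem adj (hA : IsElementaryAbelian 3 A) (e3 : e ^ 3 = 1) (c : e ∈ Ce A) (n : e ∉ A) :
    IsElementaryAbelian 3 (A ⊔ zpowers e) ∧ 3 * Nat.card A ≤ Nat.card (A ⊔ zpowers e : Subgroup X) := by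
  have : Fact (Nat.Prime 3) := ⟨Nat.prime_three⟩
  have := hA.1
  have m : ∀ x ∈ A ⊔ zpowers e, ∃ a ∈ A, ∃ k : ℤ, x = a * e ^ k := fun x hx => by
    obtain ⟨a, ha, _, ⟨k, rfl⟩, h⟩ :=
      (mem_sup_right_norm (zpowers_le.2 (centralizer_le_normalizer _ c))).1 hx
    exact ⟨a, ha, k, h⟩
  have cm : ∀ a ∈ A, ∀ k : ℤ, Commute a (e ^ k) := fun a ha k => Commute.zpow_right (c a ha) k
  have p3 : ∀ x ∈ A ⊔ zpowers e, x ^ 3 = 1 := fun x hx => by
    obtain ⟨a, ha, k, rfl⟩ := m x hx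
    rw [(cm a ha k).mul_pow, hA.2 a ha, one_mul, ← zpow_natCast, zpow_comm, zpow_natCast, e3, one_zpow]
  refine ⟨⟨⟨⟨fun x y => Subtype.ext ?_⟩⟩, p3⟩, ?_⟩
  · obtain ⟨a, ha, k, h⟩ := m x x.2
    obtain ⟨b, hb, l, h'⟩ := m y y.2
    rw [coe_mul, coe_mul, h, h']
    exact ((Commute.mul_right (setLike_mul_comm ha hb) (cm a ha l)).mul_left
      ((cm b hb k).symm.mul_right (Commute.zpow_zpow_self e k l))).eq
  have pB : IsPGroup 3 (A ⊔ zpowers e : Subgroup X) := fun x => ⟨1, Subtype.ext (by simpa using p3 x x.2)⟩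
  obtain ⟨i, hi⟩ := (pB.to_le (le_sup_left : A ≤ _)).exists_card_eq
  obtain ⟨j, hj⟩ := pB.exists_card_eq
  have lt : Nat.card A < Nat.card (A ⊔ zpowers e : Subgroup X) := lt_of_not_ge fun h =>
    n ((eq_of_le_of_card_ge le_sup_left h).ge (mem_sup_right (mem_zpowers e)))
  rw [hi, hj] at lt ⊢
  rw [← pow_succ']
  exact Nat.pow_le_pow_right (by norm_num) ((Nat.pow_lt_pow_iff_right (by norm_num)).1 lt)

theorem adj' (hA : IsElementaryAbelian 3 A) (e3 : orderOf e = 3) (s : Sm K) (he : e ∈ K) (le : A ≤ Ce K) :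
    IsElementaryAbelian 3 (A ⊔ zpowers e) ∧ 3 * Nat.card A ≤ Nat.card (A ⊔ zpowers e : Subgroup X) :=
  adj hA (e3 ▸ pow_orderOf_eq_one e) (fun _ ha => (le ha e he).symm) fun h => by
    rw [mem_bot.1 (s.cen.le ⟨he, le h⟩)] at e3
    simp at e3

theorem jobNC : JobNC.{u} := by
  intro hR X _ _ K e s hK e3
  have sm := (s.cm K hK).1.sm
  have p3 : e ^ 3 = 1 := e3 ▸ pow_orderOf_eq_one e
  refine ⟨by_contra fun n => ?_, fun c => (hR X K (s.cm K hK).2).resolve_right fun ⟨A, le, hA, h9⟩ => ?_⟩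
  · obtain ⟨-, -, k, hk, -, -, k3, -⟩ := sm.loc
    have c0 : CP K ⊤ := cp_iff.2 hK
    have c : ∀ g, CP (cj g K) ⊤ := fun g => cj_top g ▸ c0.cj g
    have o : ∀ g, orderOf (g * k * g⁻¹) = 3 := fun g =>
      (MulEquiv.orderOf_eq (MulAut.conj g) k).trans k3
    have cc : ∀ {J L : Subgroup X}, CP J ⊤ → CP L ⊤ → J ≠ L → J ≤ Ce L := fun a b h =>
      commutator_eq_bot_iff_le_centralizer.1 ((a.eq_or_commute b).resolve_left h)
    have n1 : K ≠ cj e K := fun h => n (cj_eq_self_iff.1 h.symm)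
    have n2 : K ≠ cj e⁻¹ K := fun h => n (inv_mem_iff.1 (cj_eq_self_iff.1 h.symm))
    have n3 : cj e K ≠ cj e⁻¹ K := fun h => n (by
      have h2 : e * e ∈ No K := cj_eq_self_iff.1 (by rw [← cj_cj, h, cj_cj_inv])
      have : e = (e * e)⁻¹ := eq_inv_of_mul_eq_one_left (by rw [← p3, pow_three])
      rw [this]; exact inv_mem h2)
    obtain ⟨a1, b1⟩ := adj' (A := ⊥) ⟨inferInstance, fun a ha => by rw [mem_bot.1 ha, one_pow]⟩ k3 sm hk bot_le
    have l1 : ⊥ ⊔ zpowers k ≤ K := sup_le bot_le (zpowers_le.2 hk)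
    obtain ⟨a2, b2⟩ := adj' a1 (o e) (s.cm _ (cp_iff.1 (c e))).1.sm (conj_mem_cj hk) (l1.trans (cc c0 (c e) n1))
    obtain ⟨a3, b3⟩ := adj' a2 (o e⁻¹) (s.cm _ (cp_iff.1 (c e⁻¹))).1.sm (conj_mem_cj hk) (sup_le
      (l1.trans (cc c0 (c _) n2)) ((zpowers_le.2 (conj_mem_cj hk)).trans (cc (c e) (c _) n3)))
    rw [card_bot] at b1
    exact s.rk _ ⟨a3, by omega⟩
  · obtain ⟨a, b⟩ := adj hA p3 (centralizer_le le c) fun h => by
      rw [mem_bot.1 (sm.cen.le ⟨le h, c⟩)] at e3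
      simp at e3
    exact s.rk _ ⟨a, by omega⟩

end H29.DPN
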