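/- Dade's extension theorem (S4759): the configuration, two lemmas, the quotient step -/
import Cfsg.Agent.H72.DadeC

open Cfsg hiding pRank
open Subgroup

namespace H29.Dade
open H46 H28 H72.Dade

universe u
variable {G : Type u} [Group G] {E K S X A B : Subgroup G} {z : G}

/-- the goal: a character of `E ⊔ S` of small degree on which `z` acts as `-1` -/
def R (E S : Subgroup G) (z : G) : Prop :=
  ∃ (χ : G → ℂ) (n : ℕ), Ch (E ⊔ S) χ ∧ 0 < n ∧ χ 1 = n ∧ χ z = -n ∧ 2 * n ^ 2 ≤ Nat.card E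

/-- the configuration -/
structure Cf (E K S : Subgroup G) (z : G) : Prop where
  pE : IsPGroup 2 E
  zE : z ∈ E
  z2 : z * z = 1
  z1 : z ≠ 1
  cm : Cm E z
  cE : E ≤ Cent1 z
  cK : K ≤ Cent1 z
  cS : S ≤ Cent1 z
  oK : Odd (Nat.card K)
  pS : IsPGroup 2 S
  nK : K ≤ Nrm E
  nS : S ≤ Nrm E
  nSK : S ≤ Nrm K
  dj : E ⊓ (K ⊔ S) = ⊥
  fx : E ⊓ Cent K ≤ zpowers z

/-- the induction hypothesis below `n` -/
def IH (n : ℕ) : Prop :=
  ∀ (G : Type u) [Group G] [Finite G] (E K S : Subgroup G) (z : G), Cf E K S z →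
    Nat.card E + Nat.card K + Nat.card S < n → R E S z

theorem Cf.subE (h : Cf E K S z) (hX : X ≤ E) (hz : z ∈ X) (hK : K ≤ Nrm X) (hS : S ≤ Nrm X) :
    Cf X K S z :=
  ⟨h.pE.to_le hX, hz, h.z2, h.z1, h.cm.mono hX, hX.trans h.cE, h.cK, h.cS, h.oK, h.pS, hK, hS, h.nSK,
    eq_bot_iff.2 ((inf_le_inf_right _ hX).trans h.dj.le), (inf_le_inf_right _ hX).trans h.fx⟩

theorem Cf.subK (h : Cf E K S z) (hX : X ≤ K) (hS : S ≤ Nrm X) (hf : E ⊓ Cent X ≤ zpowers z) :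
    Cf E X S z :=
  ⟨h.pE, h.zE, h.z2, h.z1, h.cm, h.cE, hX.trans h.cK, h.cS, h.oK.of_dvd_nat (card_dvd_of_le hX), h.pS,
    hX.trans h.nK, h.nS, hS, eq_bot_iff.2 ((inf_le_inf_left _ (sup_le_sup_right hX _)).trans h.dj.le), hf⟩

theorem Cf.subS (h : Cf E K S z) (hX : X ≤ S) : Cf E K X z :=
  ⟨h.pE, h.zE, h.z2, h.z1, h.cm, h.cE, h.cK, hX.trans h.cS, h.oK, h.pS.to_le hX, h.nK, hX.trans h.nS,
    hX.trans h.nSK, eq_bot_iff.2 ((inf_le_inf_left _ (sup_le_sup_left hX _)).trans h.dj.le), h.fx⟩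

theorem Cf.djS (h : Cf E K S z) : E ⊓ S = ⊥ :=
  eq_bot_iff.2 ((inf_le_inf_left _ le_sup_right).trans h.dj.le)

theorem Cf.cop [Finite G] (h : Cf E K S z) (hA : A ≤ K) (hX : X ≤ E) :
    (Nat.card A).Coprime (Nat.card X) := by
  refine coprime_of_le ?_ hA hX
  obtain ⟨k, hk⟩ := h.pE.exists_card_eq
  rw [hk]
  exact (Nat.coprime_two_right.2 h.oK).pow_right k

theorem Cf.sol [Finite G] (h : Cf E K S z) (A : Subgroup G) (hX : X ≤ E) : SolOr A X := by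
  have := (h.pE.to_le hX).isNilpotent
  exact Or.inr inferInstance

theorem Cf.zpE (h : Cf E K S z) : zpowers z ≤ E := zpowers_le.2 h.zE

theorem nrm_zp (h : A ≤ Cent1 z) : A ≤ Nrm (zpowers z) := h.trans (cent1_le_nrm_zpowers z)

theorem relIndex_cent1 [Finite G] (hc : Cm E z) (hz : z * z = 1) (hE : E ≤ Cent1 z) {x : G} (hx : x ∈ E) :
    (Cent1 x).relIndex E ≤ 2 := by
  refine Nat.le_of_dvd two_pos (relIndex_dvd_two_iff.2 ?_)
  by_cases h : ∀ a ∈ E, a * x * a⁻¹ = x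
  · exact ⟨1, one_mem _, fun b hb => Or.inr (mem_cent1.2 (mul_inv_eq_iff_eq_mul.1 (h b hb)))⟩
  · push Not at h
    obtain ⟨a, ha, hne⟩ := h
    have e1 := (hc x hx a ha).resolve_left hne
    refine ⟨a, ha, fun b hb => ?_⟩
    rcases hc x hx b hb with e | e
    · exact Or.inr (mem_cent1.2 (mul_inv_eq_iff_eq_mul.1 e))
    · refine Or.inl (mem_cent1.2 (mul_inv_eq_iff_eq_mul.1 ?_))
      calc b * a * x * (b * a)⁻¹ = b * (a * x * a⁻¹) * b⁻¹ := by group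
        _ = (b * z) * x * b⁻¹ := by rw [e1]; group
        _ = z * (b * x * b⁻¹) := by rw [mem_cent1.1 (hE hb)]; group
        _ = x := by rw [e, ← mul_assoc, hz, one_mul]

/-- (L1) -/
theorem idx_cent [Finite G] (hc : Cm E z) (hz : z * z = 1) (hz1 : z ≠ 1) (hE : E ≤ Cent1 z) (hX : X ≤ E)
    (hzX : z ∈ X) : 2 * (Cent X).relIndex E ≤ Nat.card X := by
  have h0 : zpowers z ≤ X ∧ 2 * (Cent (zpowers z)).relIndex E ≤ Nat.card (zpowers z) := by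
    refine ⟨zpowers_le.2 hzX, ?_⟩
    rw [cent_zpowers, relIndex_eq_one.2 hE, card_zp hz hz1]
  obtain ⟨Y, -, hY⟩ := Finite.exists_le_maximal
    (p := fun Y : Subgroup G => Y ≤ X ∧ 2 * (Cent Y).relIndex E ≤ Nat.card Y) h0
  by_cases e : X ≤ Y
  · rw [← le_antisymm hY.1.1 e]; exact hY.1.2
  · exfalso
    obtain ⟨x, hx, hxY⟩ := SetLike.not_le_iff_exists.1 e
    have hlt : Y < Y ⊔ zpowers x := left_lt_sup.2 (fun h => hxY (zpowers_le.1 h))
    have h1 : 2 * Nat.card Y ≤ Nat.card ↥(Y ⊔ zpowers x) := by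
      obtain ⟨k, hk⟩ := card_dvd_of_le hlt.le
      have := card_lt_of_lt hlt
      rw [hk] at this ⊢
      rcases k with _ | _ | k
      · omega
      · omega
      · nlinarith
    refine hlt.not_ge (hY.2 ⟨sup_le hY.1.1 (zpowers_le.2 hx), ?_⟩ hlt.le)
    rw [cent_sup, cent_zpowers]
    have h2 := relIndex_inf_le (H := Cent Y) (K := Cent1 x) (L := E)
    have h3 := relIndex_cent1 hc hz hE (hX hx)
    have h4 := hY.1.2
    nlinarith

/-- (L2) -/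
theorem comm_cent1 (hE : E ≤ Cent1 z) (hA : A ≤ Cent1 z) {c : G}
    (hc : A ≤ Cent1 c) (h : ∀ e ∈ E, c * e * c⁻¹ = e ∨ c * e * c⁻¹ = z * e) : ⁅E, A⁆ ≤ Cent1 c := by
  rw [commutator_le]
  intro e he a ha
  have h1 : c * a = a * c := (mem_cent1.1 (hc ha)).symm
  have h2 : z * a = a * z := (mem_cent1.1 (hA ha)).symm
  have h3 : z * e = e * z := (mem_cent1.1 (hE he)).symm
  rw [mem_cent1, commutatorElement_def, eq_comm, ← mul_inv_eq_iff_eq_mul]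
  have e0 : c * (e * a * e⁻¹ * a⁻¹) * c⁻¹ = (c * e * c⁻¹) * a * (c * e * c⁻¹)⁻¹ * a⁻¹ := by
    calc c * (e * a * e⁻¹ * a⁻¹) * c⁻¹ = c * e * (a * e⁻¹) * (c * a)⁻¹ := by group
      _ = c * e * (c⁻¹ * (c * a) * e⁻¹) * (a * c)⁻¹ := by rw [← h1]; group
      _ = _ := by rw [h1]; group
  rw [e0]
  rcases h e he with e1 | e1
  · rw [e1]
  · rw [e1, h3]
    calc e * z * a * (e * z)⁻¹ * a⁻¹ = e * (z * a) * z⁻¹ * e⁻¹ * a⁻¹ := by group
      _ = _ := by rw [h2]; group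

/-- (Q) the quotient step -/
theorem quo_step [Finite G] (h : Cf E K S z) (ih : IH.{u} (Nat.card E + Nat.card K + Nat.card S))
    (hE : E ≤ Nrm B) (hK : K ≤ Nrm B) (hS : S ≤ Nrm B) (hz : z ∉ B) (h1 : B ≠ ⊥) (hB : B ≤ E ∨ B ≤ K) :
    ∃ (χ : G → ℂ) (n : ℕ), Ch (E ⊔ S) χ ∧ 0 < n ∧ χ 1 = n ∧ χ z = -n ∧ 2 * n ^ 2 ≤ Nat.card (E ⧸ₙ B) := by
  have hzN : z ∈ Nrm B := hE h.zE
  have hc : ∀ {Y : Subgroup G}, Y ≤ Cent1 z → Y ⧸ₙ B ≤ Cent1 (qel B z) := fun hY => by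
    rw [← cent_zpowers, ← quo_zpowers hzN]
    exact quo_cent B (by rwa [cent_zpowers])
  have hcf : Cf (E ⧸ₙ B) (K ⧸ₙ B) (S ⧸ₙ B) (qel B z) := by
    refine ⟨isPGroup_quo h.pE B, qel_mem_quo B h.zE, ?_, fun e => hz ((qel_eq_one_iff hzN).1 e), ?_,
      hc h.cE, hc h.cK, hc h.cS, odd_quo h.oK B, isPGroup_quo h.pS B, quo_nrm B h.nK, quo_nrm B h.nS,
      quo_nrm B h.nSK, ?_, ?_⟩
    · rw [← mel_mul _ hzN hzN, h.z2, mel_one]
    · intro x0 hx0 y0 hy0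
      obtain ⟨x, hx, hx', rfl⟩ := mem_quo.1 hx0
      obtain ⟨y, hy, hy', rfl⟩ := mem_quo.1 hy0
      rw [← mel_conj _ hy' hx', ← mel_mul _ hzN hx']
      exact (h.cm x hx y hy).imp (fun e => by rw [e]) (fun e => by rw [e])
    · rw [← quo_sup hK hS]
      rcases hB with hB | hB
      · rw [← quo_inf hB, h.dj, bot_quo]
      · rw [← quo_inf' (hB.trans le_sup_left), h.dj, bot_quo]
    · rw [← coprime_norm_quotient_cent' h.nK hK (h.cop le_rfl le_rfl) (h.sol _ le_rfl), ← quo_zpowers hzN]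
      exact quo_mono B h.fx
  have l1 := Nat.le_of_dvd (card_pos' E) (card_quo_dvd E B)
  have l2 := Nat.le_of_dvd (card_pos' K) (card_quo_dvd K B)
  have l3 := Nat.le_of_dvd (card_pos' S) (card_quo_dvd S B)
  obtain ⟨χ, n, c1, c2, c3, c4, c5⟩ := ih _ _ _ _ _ hcf (by
    rcases hB with hB | hB
    · have := card_quo_lt ⟨hB, hE⟩ h1; omega
    · have := card_quo_lt ⟨hB, hK⟩ h1; omega)
  refine ⟨fun x => χ (qel B x), n, ?_, c2, by simp only [mel_one, c3], c4, c5⟩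
  have hES : E ⊔ S ≤ Nrm B := sup_le hE hS
  rw [← quo_sup hE hS] at c1
  have := c1.comp (((E ⊔ S) ⧸ₙ B).subtype.comp (mres (qmap B) hES)) (fun x => (mres (qmap B) hES x).2)
  simpa only [Ch, MonoidHom.comp_apply, coe_subtype, mres_apply] using this

end H29.Dade
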