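/- Dade's extension theorem (S4759): the reductions to an irreducible configuration -/
import Cfsg.Agent.H29.DadeA

open Cfsg hiding pRank
open Subgroup

namespace H29.Dade
open H46 H28 H72.Dade

universe u
variable {G : Type u} [Group G] {E K S X A B U W : Subgroup G} {z : G}

theorem IH.mono {m n : ℕ} (h : IH.{u} n) (hm : m ≤ n) : IH.{u} m :=
  fun G _ _ E K S z hc hl => h G E K S z hc (hl.trans_le hm)

theorem card_le' [Finite G] (h : A ≤ B) : Nat.card A ≤ Nat.card B := card_le_of_le h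

theorem stepI [Finite G] (h : Cf E K S z) (ih : IH.{u} (Nat.card E + Nat.card K + Nat.card S))
    (hB : B ≤ E) (hK : K ≤ Nrm B) (hS : S ≤ Nrm B) (hz : z ∉ B) (h1 : B ≠ ⊥) : R E S z := by
  have hBz : B ≤ Cent1 z := hB.trans h.cE
  have hBC : B ≤ E ⊓ Cent B := le_inf hB fun x hx => mem_cent.2 fun y hy => by
    rcases h.cm x (hB hx) y (hB hy) with e | e
    · exact mul_inv_eq_iff_eq_mul.1 e
    · refine absurd ?_ hz
      rw [show z = y * x * y⁻¹ * x⁻¹ by rw [e]; group]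
      exact mul_mem (mul_mem (mul_mem hy hx) (inv_mem hy)) (inv_mem hx)
  set C := E ⊓ Cent B with hC
  have hzC : z ∈ C := ⟨h.zE, le_cent1_iff.1 hBz⟩
  have hSC : S ≤ Nrm C := nrm_inf h.nS (nrm_cent hS)
  have hc : Cf C K S z := h.subE inf_le_left hzC (nrm_inf h.nK (nrm_cent hK)) hSC
  have l0 : Nat.card C ≤ Nat.card E := card_le' inf_le_left
  have hCN : C ≤ Nrm B := nrm_of_le_cent inf_le_right
  obtain ⟨χ, n, c1, c2, c3, c4, c5⟩ := quo_step hc (ih.mono (by omega)) hCN hK hS hz h1 (Or.inl hBC)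
  obtain ⟨χ', d1, d2, d3⟩ := c1.induce (L := E ⊔ S) (sup_le_sup_right inf_le_left _) (mem_sup_left hzC)
    (le_cent1_iff.1 (sup_le h.cE h.cS))
  have e1 := card_mul_relIndex (show C ⊔ S ≤ E ⊔ S from sup_le_sup_right inf_le_left _)
  rw [card_sup_of_disjoint hSC hc.djS, card_sup_of_disjoint h.nS h.djS] at e1
  set m := (C ⊔ S).relIndex (E ⊔ S)
  have e2 : Nat.card C * m = Nat.card E :=
    Nat.eq_of_mul_eq_mul_right (card_pos' S) (by rw [← e1]; ring)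
  have e3 := card_mul_card_quo ⟨hBC, hCN⟩
  have e4 : m ≤ Nat.card B := by
    have hn : zpowers z ≤ Nrm B := nrm_of_le_cent (zpowers_le.2 hzC.2)
    have f1 := idx_cent h.cm h.z2 h.z1 h.cE (X := B ⊔ zpowers z) (sup_le hB h.zpE)
      (mem_sup_right (mem_zpowers z))
    have f2 := Nat.le_of_dvd (Nat.mul_pos (card_pos' _) (card_pos' _)) (card_sup_dvd hn)
    rw [card_zp h.z2 h.z1] at f2
    have f3 := card_inf_mul_relIndex (Cent (B ⊔ zpowers z)) E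
    rw [show Cent (B ⊔ zpowers z) ⊓ E = C by
      rw [cent_sup, cent_zpowers, inf_assoc, inf_eq_right.2 h.cE, inf_comm], ← e2] at f3
    have f4 := Nat.eq_of_mul_eq_mul_left (card_pos' C) f3
    omega
  refine ⟨χ', m * n, d1, Nat.mul_pos (relIndex_pos _ _) c2, by rw [d2, c3]; push_cast; rfl,
    by rw [d3, c4]; push_cast; ring, ?_⟩
  calc 2 * (m * n) ^ 2 = m * (m * (2 * n ^ 2)) := by ring
    _ ≤ m * (Nat.card B * Nat.card (C ⧸ₙ B)) := Nat.mul_le_mul_left _ (Nat.mul_le_mul e4 c5)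
    _ = _ := by rw [e3, ← e2, mul_comm]

theorem stepII [Finite G] (h : Cf E K S z) (ih : IH.{u} (Nat.card E + Nat.card K + Nat.card S))
    (h1 : K ⊓ Cent E ≠ ⊥) : R E S z := by
  obtain ⟨χ, n, c1, c2, c3, c4, c5⟩ := quo_step h ih (nrm_of_le_cent (le_cent_symm inf_le_right))
    (nrm_inf le_nrm_self (nrm_cent h.nK)) (nrm_inf h.nSK (nrm_cent h.nS))
    (fun hz => h.z1 (mem_bot.1 (h.dj.le ⟨h.zE, mem_sup_left hz.1⟩))) h1 (Or.inr inf_le_left)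
  exact ⟨χ, n, c1, c2, c3, c4, c5.trans (Nat.le_of_dvd (card_pos' E) (card_quo_dvd E _))⟩

/-- every non-trivial invariant subgroup of `E` contains `z` -/
def NoB (E K S : Subgroup G) (z : G) : Prop :=
  ∀ B ≤ E, K ≤ Nrm B → S ≤ Nrm B → z ∉ B → B = ⊥

theorem Cf.abel [Finite G] (h : Cf E K S z) (hb : NoB E K S z) (hA : A ≤ E) (hc : A ≤ Cent A)
    (hK : K ≤ Nrm A) (hS : S ≤ Nrm A) : A ≤ zpowers z := by
  have hco := h.cop le_rfl hA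
  have e := hb ⁅A, K⁆ ((commutator_le_left' hK).trans hA) (nrm_commutator_right A K)
    (nrm_commutator hS h.nSK) fun hz => h.z1 (mem_bot.1
      ((coprime_abel_cent_TI (comm_iff_le_cent.2 hc) hK hco).le ⟨hz, le_cent1_iff.1 h.cK⟩))
  have := coprime_cent_prod hK hco (h.sol _ hA)
  rw [e, bot_sup_eq] at this
  exact this.ge.trans ((inf_le_inf_right _ hA).trans h.fx)

theorem tens [Finite G] {χ₁ χ₂ : G → ℂ} {n₁ n₂ : ℕ} (hUW : U ≤ Cent W) (hU : S ≤ Nrm U) (hW : S ≤ Nrm W)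
    (hE : U ⊔ W = E) (hd : E ⊓ S = ⊥) (hi : U ⊓ W ≤ zpowers z) (zU : z ∈ U) (zW : z ∈ W) (z2 : z * z = 1)
    (z1 : z ≠ 1) (a1 : Ch (U ⊔ S) χ₁) (a2 : χ₁ 1 = n₁) (a3 : χ₁ z = -n₁) (a4 : 2 * n₁ ^ 2 ≤ Nat.card U)
    (b1 : Ch (W ⊔ S) χ₂) (b2 : χ₂ 1 = n₂) (b3 : χ₂ z = -n₂) (b4 : 2 * n₂ ^ 2 ≤ Nat.card W) :
    ∃ χ : G → ℂ, Ch (E ⊔ S) χ ∧ χ 1 = (n₁ * n₂ : ℕ) ∧ χ z = -(n₁ * n₂ : ℕ) ∧
      2 * (n₁ * n₂) ^ 2 ≤ Nat.card E ∧
      ∀ a ∈ U, ∀ b ∈ W, ∀ h ∈ S, χ (a * b * h) = χ₁ (a * h) * χ₂ (b * h) := by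
  subst hE
  obtain ⟨χ, c1, c2⟩ := tensor hUW hU hW hd a1 b1 (fun a ha => by
    rcases (mem_zp z2).1 (hi ha) with rfl | rfl
    · rw [inv_one]
    · rw [inv_eq_of_mul_eq_one_right z2, a2, a3, b2, b3]; ring)
  refine ⟨χ, c1, ?_, ?_, ?_, c2⟩
  · simpa [a2, b2] using c2 1 (one_mem _) 1 (one_mem _) 1 (one_mem _)
  · simpa [a3, b2] using c2 z zU 1 (one_mem _) 1 (one_mem _)
  · have e := card_sup_mul_card_inf (nrm_of_le_cent (le_cent_symm hUW))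
    rw [le_antisymm hi (zpowers_le.2 ⟨zU, zW⟩), card_zp z2 z1] at e
    have := Nat.mul_le_mul a4 b4
    nlinarith

theorem stepT [Finite G] (h : Cf E K S z) (ih : IH.{u} (Nat.card E + Nat.card K + Nat.card S))
    (hb : NoB E K S z) (hX : X ≤ E) (hz : z ∈ X) (hK : K ≤ Nrm X) (hS : S ≤ Nrm X)
    (h1 : ¬ X ≤ zpowers z) (h2 : X ≠ E) : R E S z := by
  set Y := E ⊓ Cent X with hY
  have hKY : K ≤ Nrm Y := nrm_inf h.nK (nrm_cent hK)
  have hSY : S ≤ Nrm Y := nrm_inf h.nS (nrm_cent hS)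
  have zY : z ∈ Y := ⟨h.zE, le_cent1_iff.1 (hX.trans h.cE)⟩
  have hXY : X ≤ Cent Y := le_cent_symm inf_le_right
  have hi : X ⊓ Y ≤ zpowers z := h.abel hb (inf_le_left.trans hX)
    (le_cent_mono hXY inf_le_left inf_le_right) (nrm_inf hK hKY) (nrm_inf hS hSY)
  have hE : X ⊔ Y = E := by
    have e := card_sup_mul_card_inf (nrm_of_le_cent (le_cent_symm hXY))
    rw [le_antisymm hi (zpowers_le.2 ⟨hz, zY⟩), card_zp h.z2 h.z1] at e
    have f1 := idx_cent h.cm h.z2 h.z1 h.cE hX hz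
    have f2 := card_inf_mul_relIndex (Cent X) E
    rw [inf_comm, ← hY] at f2
    have f3 : X ⊔ Y ≤ E := sup_le hX inf_le_left
    refine eq_of_le_of_card_eq f3 (le_antisymm (card_le' f3) ?_)
    nlinarith [Nat.mul_le_mul_left (Nat.card Y) f1]
  have hYE : Y < E := lt_of_le_of_ne inf_le_left fun e =>
    h1 (h.abel hb hX (le_cent_mono hXY le_rfl (hX.trans e.ge)) hK hS)
  have l1 := card_lt_of_lt (lt_of_le_of_ne hX h2)
  have l2 := card_lt_of_lt hYE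
  obtain ⟨χ₁, n₁, a1, a0, a2, a3, a4⟩ := ih _ _ _ _ _ (h.subE hX hz hK hS) (by omega)
  obtain ⟨χ₂, n₂, b1, b0, b2, b3, b4⟩ := ih _ _ _ _ _ (h.subE hYE.le zY hKY hSY) (by omega)
  obtain ⟨χ, c1, c2, c3, c4, -⟩ := tens hXY hS hSY hE h.djS hi hz zY h.z2 h.z1 a1 a2 a3 a4 b1 b2 b3 b4
  exact ⟨χ, n₁ * n₂, c1, Nat.mul_pos a0 b0, c2, c3, c4⟩

theorem finish [Finite G] (h : Cf E K S z) (hZ : E ⊓ Cent E ≤ zpowers z) (hX : X ≤ S) (hn : S ≤ Nrm X)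
    {t : G} (ht : t ∈ S) (hg : S ≤ X ⊔ zpowers t) {χ : G → ℂ} {n : ℕ} (c1 : Ch (E ⊔ X) χ) (c0 : 0 < n)
    (c2 : χ 1 = n) (c3 : χ z = -n) (c4 : 2 * n ^ 2 ≤ Nat.card E)
    (hi : ∀ x ∈ E ⊔ X, χ (t * x * t⁻¹) = χ x) : R E S z := by
  have i1 := (c1.mono le_sup_left).irr c0 c2 c3 h.zE h.z2 h.cm hZ c4
  obtain ⟨χ', d1, d2⟩ := Ch.cyc_ext (c1.irr_of_le le_sup_left i1) (L := E ⊔ S)
    ⟨sup_le_sup_left hX _, sup_le (nrm_of_le le_sup_left) (nrm_sup h.nS hn)⟩ (mem_sup_right ht)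
    (sup_le (le_sup_left.trans le_sup_left) (hg.trans (sup_le_sup_right le_sup_right _))) hi
  exact ⟨χ', n, d1, c0, (d2 1 (one_mem _)).trans c2, (d2 z (mem_sup_left h.zE)).trans c3, c4⟩

theorem theta_inv [Finite G] {χ : G → ℂ} {n : ℕ} (c1 : Ch E χ) (c0 : 0 < n) (c2 : χ 1 = n) (c3 : χ z = -n)
    (zE : z ∈ E) (hc : Cm E z) (hZ : E ⊓ Cent E ≤ zpowers z) {t : G} (ht : t ∈ Nrm E) (hz : t ∈ Cent1 z)
    {e : G} (he : e ∈ E) : χ (t * e * t⁻¹) = χ e := by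
  by_cases h : e ∈ zpowers z
  · have := mem_cent.1 (show t ∈ Cent (zpowers z) by rwa [cent_zpowers]) e h
    rw [← this, mul_inv_cancel_right]
  · have he' := conj_mem_of_mem_nrm ht he
    rw [c1.vanish c0 c2 c3 zE hc he fun e1 => h (hZ ⟨he, e1⟩), c1.vanish c0 c2 c3 zE hc he' fun e1 => h ?_]
    have := conj_mem_of_mem_nrm' (cent1_le_nrm_zpowers z hz) (hZ ⟨he', e1⟩)
    simpa [mul_assoc] using this

theorem centS [Finite G] (h : Cf E K S z) (hZ : E ⊓ Cent E ≤ zpowers z) (hX : X ≤ S) (hn : S ≤ Nrm X)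
    {t : G} (ht : t ∈ S) (hg : S ≤ X ⊔ zpowers t) (hc : X ≤ Cent E) : R E S z := by
  obtain ⟨θ, n, a1, a0, a2, a3, a4⟩ := exists_theta h.zE h.z2 h.z1 (le_cent1_iff.1 h.cE)
  have hd : ∀ a ∈ E ⊓ X, a = 1 := fun a ha => mem_bot.1 (h.djS.le ⟨ha.1, hX ha.2⟩)
  obtain ⟨χ, c1, c2⟩ := tensor (U := E) (W := X) (S := ⊥) (χ₁ := θ) (χ₂ := fun _ => 1) (le_cent_symm hc)
    bot_le bot_le (inf_bot_eq _) (by rwa [sup_bot_eq]) H28.isCharacter_one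
    (fun a ha => by rw [hd a ha])
  have c3 : ∀ a ∈ E, ∀ b ∈ X, χ (a * b) = θ a := fun a ha b hb => by
    simpa using c2 a ha b hb 1 (one_mem _)
  rw [sup_bot_eq] at c1
  refine finish h hZ hX hn ht hg c1 a0 (by simpa [a2] using c3 1 (one_mem _) 1 (one_mem _))
    (by simpa [a3] using c3 z h.zE 1 (one_mem _)) a4 fun x hx => ?_
  obtain ⟨e, he, s, hs, rfl⟩ := (mem_sup_of_nrm (hX.trans h.nS)).1 hx
  rw [show t * (e * s) * t⁻¹ = (t * e * t⁻¹) * (t * s * t⁻¹) by group,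
    c3 _ (conj_mem_of_mem_nrm (h.nS ht) he) _ (conj_mem_of_mem_nrm (hn ht) hs), c3 e he s hs]
  exact theta_inv a1 a0 a2 a3 h.zE h.cm hZ (h.nS ht) (h.cS ht) he

end H29.Dade
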