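/- Dade's extension theorem (S4759): the imprimitive case -/
import Cfsg.Agent.H29.DadeB
import Cfsg.Agent.H3.FrattiniP

open Cfsg hiding pRank
open Subgroup

namespace H29.Dade
open H46 H28 H72.Dade

universe u
variable {G : Type u} [Group G] {E K S X A B U W : Subgroup G} {z : G}

theorem idx2 [Finite G] (hS : IsPGroup 2 S) (hne : ¬ S ≤ U) :
    ∃ (X : Subgroup G) (t : G), U ⊓ S ≤ X ∧ X ≤ S ∧ S ≤ Nrm X ∧ t ∈ S ∧ t ∉ X ∧ t * t ∈ X ∧
      S ≤ X ⊔ zpowers t := by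
  obtain ⟨V, hV, h1⟩ := (eq_top_or_exists_le_coatom (U.subgroupOf S)).resolve_left
    fun e => hne (subgroupOf_eq_top.mp e)
  have h2 : (V.map S.subtype).relIndex S = 2 := by
    rw [relIndex_map_subtype]; exact H3.index_eq_of_isCoatom_pgroup hS hV
  obtain ⟨t, ht, h3⟩ := relIndex_eq_two_iff.1 h2
  have h4 : t ∉ V.map S.subtype := fun e => by
    rcases h3 1 (one_mem _) with e1 | e1
    · exact e1.2 (one_mem _)
    · exact e1.2 (by rwa [one_mul])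
  refine ⟨V.map S.subtype, t, fun x hx => ⟨⟨x, hx.2⟩, h1 hx.1, rfl⟩, map_subtype_le _,
    (normalIn_iff.2 ⟨map_subtype_le _, normal_of_index_eq_two h2⟩).2, ht, h4, ?_, fun b hb => ?_⟩
  · rcases h3 t ht with e | e
    · exact e.1
    · exact absurd e.1 h4
  · rcases h3 b hb with e | e
    · rw [show b = b * t * t⁻¹ by group]
      exact mul_mem (mem_sup_left e.1) (mem_sup_right (inv_mem (mem_zpowers t)))
    · exact mem_sup_left e.1

theorem Cf.pair [Finite G] (h : Cf E K S z) (hK : K ≤ Cent K) (hA : A ≤ K) (hB : B ≤ K)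
    (hf : E ⊓ Cent (A ⊔ B) ≤ zpowers z) : E ⊓ Cent A ≤ Cent (E ⊓ Cent B) := by
  have hn : B ≤ Nrm (E ⊓ Cent A) := nrm_inf (hB.trans h.nK) (nrm_of_le (le_cent_mono hK hB hA))
  have e := coprime_cent_prod hn (h.cop hB inf_le_left) (h.sol _ inf_le_left)
  refine le_cent_symm fun c hc => le_cent1_iff.1 (e.ge.trans (sup_le ?_ ?_))
  · exact comm_cent1 (inf_le_left.trans h.cE) (hB.trans h.cK) (le_cent1_iff.2 hc.2)
      fun x hx => h.cm x hx.1 c hc.1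
  · rw [inf_assoc, ← cent_sup]
    exact hf.trans (zpowers_le.2 (mem_cent1_comm.1 (h.cE hc.1)))

theorem nrm_cj {t : G} (h : A ≤ Nrm U) (ht : t ∈ Nrm A) : A ≤ Nrm (cj t U) := by
  rw [← cj_nrm]
  exact (cj_of_mem_nrm ht).ge.trans (cj_mono t h)

theorem stepW [Finite G] (h : Cf E K S z) (ih : IH.{u} (Nat.card E + Nat.card K + Nat.card S))
    (hZ : E ⊓ Cent E ≤ zpowers z)
    (hi : ∀ Y ≤ E, z ∈ Y → K ≤ Nrm Y → S ≤ Nrm Y → ¬ Y ≤ zpowers z → Y = E)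
    (hX : X ≤ S) (hn : S ≤ Nrm X) {t : G} (ht : t ∈ S) (htX : t ∉ X) (ht2 : t * t ∈ X)
    (hg : S ≤ X ⊔ zpowers t) (hU : U ≤ E) (zU : z ∈ U) (h1 : ¬ U ≤ zpowers z) (kU : K ≤ Nrm U)
    (xU : X ≤ Nrm U) (hc : U ≤ Cent (cj t U)) : R E S z := by
  set W := cj t U with hW
  have xW : X ≤ Nrm W := nrm_cj xU (hn ht)
  have tW : cj t W = U := by rw [hW, ← cj_mul, cj_of_mem_nrm (xU ht2)]
  have hWE : W ≤ E := (cj_mono t hU).trans (cj_of_mem_nrm (h.nS ht)).le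
  have tz : t⁻¹ * z * t = z := by rw [mul_assoc, ← mem_cent1.1 (h.cS ht), inv_mul_cancel_left]
  have zW : z ∈ W := mem_cj.2 (by rwa [tz])
  have hE : U ⊔ W = E := hi _ (sup_le hU hWE) (mem_sup_left zU) (nrm_sup kU (nrm_cj kU (h.nSK ht)))
    (hg.trans (sup_le (nrm_sup xU xW) (zpowers_le.2 (mem_nrm_iff_cj.2 (by rw [cj_sup, tW, sup_comm])))))
    fun e => h1 (le_sup_left.trans e)
  have hUW : U ⊓ W ≤ zpowers z := by
    refine le_trans (le_inf (inf_le_left.trans hU) ?_) hZ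
    rw [← hE, cent_sup]
    exact le_inf (inf_le_right.trans (le_cent_symm hc)) (inf_le_left.trans hc)
  have l1 := card_lt_of_lt (lt_of_le_of_ne hX fun e => htX (e.ge ht))
  have l2 := card_le' hU
  obtain ⟨χ₁, n, a1, a0, a2, a3, a4⟩ := ih _ _ _ _ _ ((h.subS hX).subE hU zU kU xU) (by omega)
  have hWX : ∀ x ∈ W ⊔ X, t⁻¹ * x * t ∈ U ⊔ X := fun x hx =>
    mem_cj.1 (by rwa [cj_sup, cj_of_mem_nrm (hn ht)])
  have b1 : Ch (W ⊔ X) (fun x => χ₁ (t⁻¹ * x * t)) := by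
    have := a1.comp ((MulAut.conj t⁻¹).toMonoidHom.comp (W ⊔ X).subtype) (fun x => by
      simpa using hWX x x.2)
    simpa [Ch] using this
  obtain ⟨χ, c1, c2, c3, c4, c5⟩ := tens (n₁ := n) (n₂ := n) hc xU xW hE (h.subS hX).djS hUW zU zW h.z2 h.z1
    a1 a2 a3 a4 b1 (by simpa using a2) (by simp only [tz, a3]) (by rwa [hW, card_cj])
  refine finish h hZ hX hn ht hg c1 (Nat.mul_pos a0 a0) c2 c3 c4 fun x hx => ?_
  obtain ⟨e, he, s, hs, rfl⟩ := (mem_sup_of_nrm (hX.trans h.nS)).1 hx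
  rw [← hE] at he
  obtain ⟨a, ha, b, hb, rfl⟩ := (mem_sup_of_nrm (nrm_of_le_cent (le_cent_symm hc))).1 he
  have ha' : t * a * t⁻¹ ∈ W := conj_mem_cj.2 ha
  have hb' : t * b * t⁻¹ ∈ U := tW ▸ conj_mem_cj.2 hb
  rw [show t * (a * b * s) * t⁻¹ = (t * a * t⁻¹) * (t * b * t⁻¹) * (t * s * t⁻¹) by group,
    mem_cent.1 (hc hb') _ ha', c5 _ hb' _ ha' _ (conj_mem_of_mem_nrm (hn ht) hs), c5 a ha b hb s hs,
    mul_comm, ← a1.conj (mem_sup_right ht2) (hWX _ (mul_mem (mem_sup_left hb) (mem_sup_right hs)))]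
  congr 2 <;> group

/-- (I) -/
theorem stepImp [Finite G] (h : Cf E K S z) (ih : IH.{u} (Nat.card E + Nat.card K + Nat.card S))
    (hZ : E ⊓ Cent E ≤ zpowers z)
    (hi : ∀ Y ≤ E, z ∈ Y → K ≤ Nrm Y → S ≤ Nrm Y → ¬ Y ≤ zpowers z → Y = E) (hK : K ≤ Cent K)
    (hA : A ≤ K) (h1 : ¬ E ⊓ Cent A ≤ zpowers z)
    (hm : ∀ Y ≤ K, Nat.card A < Nat.card Y → E ⊓ Cent Y ≤ zpowers z) (hn : ¬ S ≤ Nrm A) : R E S z := by
  obtain ⟨X, t, x1, x2, x3, x4, x5, x6, x7⟩ := idx2 h.pS hn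
  have hAK : ∀ s ∈ S, cj s A ≤ K := fun s hs => (cj_mono s hA).trans (cj_of_mem_nrm (h.nSK hs)).le
  have hV : ∀ g ∈ S, ∀ s, cj g (E ⊓ Cent (cj s A)) = E ⊓ Cent (cj (g * s) A) := fun g hg s => by
    rw [cj_inf, cj_of_mem_nrm (h.nS hg), cj_cent, cj_mul]
  have hl : E ⊓ Cent A ≤ ⨆ s : X, E ⊓ Cent (cj s A) := by
    simpa using le_iSup (fun s : X => E ⊓ Cent (cj s A)) 1
  refine stepW h ih hZ hi x2 x3 x4 x5 x6 x7 (U := ⨆ s : X, E ⊓ Cent (cj s A)) (iSup_le fun s => inf_le_left)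
    (hl ⟨h.zE, le_cent1_iff.1 (hA.trans h.cK)⟩) (fun e => h1 (hl.trans e)) (fun k hk => ?_) (fun g hg => ?_)
    (iSup_le fun s => le_cent_symm ?_)
  · refine mem_nrm_of_cj_le ((Subgroup.map_iSup _ _).le.trans (iSup_mono fun s => (cj_of_mem_nrm ?_).le))
    exact nrm_inf h.nK (nrm_of_le (le_cent_mono hK le_rfl (hAK s (x2 s.2)))) hk
  · refine mem_nrm_of_cj_le ((Subgroup.map_iSup _ _).le.trans (iSup_le fun s => (hV g (x2 hg) s).le.trans ?_))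
    exact le_iSup (fun s : X => E ⊓ Cent (cj s A)) ⟨g * s, mul_mem hg s.2⟩
  · refine (Subgroup.map_iSup _ _).le.trans (iSup_le fun s' => (hV t x4 s').le.trans ?_)
    have m1 := hAK _ (mul_mem x4 (x2 s'.2))
    have m2 := hAK _ (x2 s.2)
    refine h.pair hK m1 m2 (hm _ (sup_le m1 m2) ?_)
    rw [← card_cj (s : G) A]
    refine card_lt_of_lt (right_lt_sup.2 fun e => x5 ?_)
    have e2 := eq_of_le_of_card_eq e (by rw [card_cj, card_cj])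
    have e3 : (s : G)⁻¹ * (t * s') ∈ Nrm A := mem_nrm_iff_cj.2 (by rw [cj_mul, e2, cj_inv_cj])
    have e4 := x1 ⟨e3, S.mul_mem (S.inv_mem (x2 s.2)) (S.mul_mem x4 (x2 s'.2))⟩
    rw [show t = s * ((s : G)⁻¹ * (t * s')) * (s' : G)⁻¹ by group]
    exact mul_mem (mul_mem s.2 e4) (inv_mem s'.2)

end H29.Dade
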