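/- Dade's extension theorem (S4759): the primitive case and the induction -/
import Cfsg.Agent.H29.DadeI
import Cfsg.Agent.H42.OddOrder

open Cfsg hiding pRank
open Subgroup

namespace H29.Dade
open H46 H28 H72.Dade

universe u
variable {G : Type u} [Group G] {E K S X A B U W : Subgroup G} {z : G}

theorem exists_gen [Finite G] (hp : (Nat.card K).Prime) (hS : S ≤ Nrm K) :
    ∃ t ∈ S, S ≤ (S ⊓ Cent K) ⊔ zpowers t := by
  have := cyclic_of_card_prime hp
  have := ZMod.isCyclic_units_prime hp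
  have : IsCyclic (MulAut K) := isCyclic_of_surjective _ (IsCyclic.mulAutMulEquiv K).symm.surjective
  let φ : S →* MulAut K := K.normalizerMonoidHom.comp (inclusion hS)
  obtain ⟨⟨_, t, rfl⟩, ht⟩ := IsCyclic.exists_generator (α := φ.range)
  refine ⟨t, t.2, fun s hs => ?_⟩
  obtain ⟨k, hk⟩ := ht ⟨φ ⟨s, hs⟩, _, rfl⟩
  have e : φ t ^ k = φ ⟨s, hs⟩ := congrArg Subtype.val hk
  have e2 : inclusion hS (⟨s, hs⟩ * (t ^ k)⁻¹) ∈ K.normalizerMonoidHom.ker := by
    show φ _ = 1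
    rw [map_mul, map_inv, map_zpow, e, mul_inv_cancel]
  rw [normalizerMonoidHom_ker] at e2
  rw [show s = s * ((t : G) ^ k)⁻¹ * (t : G) ^ k by group]
  exact mul_mem (mem_sup_left ⟨S.mul_mem hs (S.inv_mem (S.zpow_mem t.2 k)), e2⟩)
    (mem_sup_right (zpow_mem_zpowers _ k))

theorem stepB [Finite G] (h : Cf E K S z) (hZ : E ⊓ Cent E ≤ zpowers z)
    (hi : ∀ Y ≤ E, z ∈ Y → K ≤ Nrm Y → S ≤ Nrm Y → ¬ Y ≤ zpowers z → Y = E)
    (hp : (Nat.card K).Prime) : R E S z := by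
  obtain ⟨t, ht, hg⟩ := exists_gen hp h.nSK
  set X := S ⊓ Cent K with hX
  have hXS : X ≤ S := inf_le_left
  have hn : S ≤ Nrm X := nrm_inf le_nrm_self (nrm_cent h.nSK)
  have hle : ⁅E, X⁆ ≤ E := commutator_le_left' (hXS.trans h.nS)
  have h1 : ⁅E, X⁆ ≤ zpowers z := by
    by_contra hne
    have e := hi (⁅E, X⁆ ⊔ zpowers z) (sup_le hle h.zpE) (mem_sup_right (mem_zpowers z))
      (nrm_sup (nrm_commutator h.nK (nrm_of_le_cent (le_cent_symm inf_le_right))) (nrm_zp h.cK))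
      (nrm_sup (nrm_commutator h.nS hn) (nrm_zp h.cS)) fun e => hne (le_sup_left.trans e)
    have e2 := commutator_sup_cent (A := ⁅E, X⁆) (B := zpowers z) (K := X)
      (h.zpE.trans (nrm_commutator_left E X)) (zpowers_le.2 (le_cent1_iff.1 (hXS.trans h.cS)))
    rw [e] at e2
    refine hne ((nil_eq_bot_of_le_commutator (nil_of_isPGroup Nat.prime_two
      (h.pE.to_sup_of_normal_left' h.pS h.nS)) (hle.trans le_sup_left) (hXS.trans le_sup_right) e2.le).le.trans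
      bot_le)
  refine centS h hZ hXS hn ht hg fun c hc => le_cent1_iff.1 ?_
  refine (coprime_cent_prod h.nK (h.cop le_rfl le_rfl) (h.sol _ le_rfl)).ge.trans (sup_le ?_ ?_)
  · refine comm_cent1 h.cE h.cK (le_cent1_iff.2 hc.2) fun e he => ?_
    rw [commutator_comm] at h1
    rcases (mem_zp h.z2).1 (h1 (commutator_mem_commutator hc he)) with e1 | e1
    · exact Or.inl (mul_inv_eq_one.1 e1)
    · exact Or.inr (mul_inv_eq_iff_eq_mul.1 e1)
  · exact h.fx.trans (zpowers_le.2 (mem_cent1_comm.1 (h.cS hc.1)))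

theorem step [Finite G] (h : Cf E K S z) (ih : IH.{u} (Nat.card E + Nat.card K + Nat.card S)) :
    R E S z := by
  by_contra hR
  have hb : NoB E K S z := fun B hB hK hS hz => by_contra fun h1 => hR (stepI h ih hB hK hS hz h1)
  have hf : K ⊓ Cent E = ⊥ := by_contra fun h1 => hR (stepII h ih h1)
  have hZ : E ⊓ Cent E ≤ zpowers z := h.abel hb inf_le_left (le_cent_mono (le_refl (Cent E)) inf_le_right
    inf_le_left) (nrm_inf h.nK (nrm_cent h.nK)) (nrm_inf h.nS (nrm_cent h.nS))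
  have hi : ∀ Y ≤ E, z ∈ Y → K ≤ Nrm Y → S ≤ Nrm Y → ¬ Y ≤ zpowers z → Y = E :=
    fun Y hY hz hK hS h1 => by_contra fun h2 => hR (stepT h ih hb hY hz hK hS h1 h2)
  have hE : ¬ E ≤ zpowers z := fun e => hR (centS h hZ le_rfl le_nrm_self (one_mem _) le_sup_left
    (h.cS.trans ((cent_zpowers z).ge.trans (cent_anti e))))
  have hk : ∀ Y ≤ K, S ≤ Nrm Y → E ⊓ Cent Y ≤ zpowers z → Y = K := fun Y hY hS hx => by_contra fun e => by
    have := card_lt_of_lt (lt_of_le_of_ne hY e)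
    exact hR (ih _ _ _ _ _ (h.subK hY hS hx) (by omega))
  have hk' : ∀ Y ≤ K, K ≤ Nrm Y → S ≤ Nrm Y → ¬ E ⊓ Cent Y ≤ zpowers z → Y = ⊥ := fun Y hY hK hS hx => by
    have e := hi (E ⊓ Cent Y) inf_le_left ⟨h.zE, le_cent1_iff.1 (hY.trans h.cK)⟩
      (nrm_inf h.nK (nrm_cent hK)) (nrm_inf h.nS (nrm_cent hS)) hx
    exact eq_bot_iff.2 ((le_inf hY (le_cent_symm (inf_eq_left.1 e))).trans hf.le)
  have hK1 : K ≠ ⊥ := fun e => hE (by simpa [e] using h.fx)
  have hab : IsMulCommutative K := der_eq_bot_iff.1 (hk' _ (der_le K) (nrm_der le_nrm_self) (nrm_der h.nSK)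
    fun e => (der_lt_of_sol (H42.odd_order h.oK) hK1).ne (hk _ (der_le K) (nrm_der h.nSK) e))
  obtain ⟨A, ⟨hA, h1⟩, hm⟩ := Set.exists_max_image {Y : Subgroup G | Y ≤ K ∧ ¬ E ⊓ Cent Y ≤ zpowers z}
    (fun Y => Nat.card Y) (Set.toFinite _) ⟨⊥, bot_le, by simpa using hE⟩
  have hm' : ∀ Y ≤ K, Nat.card A < Nat.card Y → E ⊓ Cent Y ≤ zpowers z :=
    fun Y hY hl => by_contra fun e => hl.not_ge (hm Y ⟨hY, e⟩)
  by_cases hn : S ≤ Nrm A
  · rw [hk' A hA (nrm_of_comm hab hA) hn h1, card_bot] at hm'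
    have hc : IsCyclic K := by_contra fun e => hE (coprime_abelian_gen_cent1 hab e h.nK (h.cop le_rfl le_rfl)
      fun a ha h1 => by
        rw [← cent_zpowers]
        exact hm' _ (zpowers_le.2 ha) (one_lt_card.2 (ne_bot_of_mem (mem_zpowers a) h1)))
    obtain ⟨p, hp, hd⟩ := exists_prime_dvd_card hK1
    have e := card_omegaOne_of_cyclic hp hc hd
    rw [hk _ (omegaOne_le p K) (nrm_omegaOne p h.nSK) (hm' _ (omegaOne_le p K) (hp.one_lt.trans_eq e.symm))] at e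
    exact hR (stepB h hZ hi (e ▸ hp))
  · exact hR (stepImp h ih hZ hi (comm_iff_le_cent.1 hab) hA h1 hm' hn)

theorem ih_all (n : ℕ) : IH.{u} n := by
  induction n with
  | zero => exact fun G _ _ E K S z _ hl => absurd hl (Nat.not_lt_zero _)
  | succ n ih => exact fun G _ _ E K S z h hl => step h (ih.mono (Nat.lt_succ_iff.1 hl))

theorem main [Finite G] (h : Cf E K S z) : R E S z := step h (ih_all _)

end H29.Dade
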