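/- Dade's extension theorem (S4759): assembly over the primes -/
import Cfsg.Agent.H29.DadeM
import Cfsg.Agent.H32.Extend
import Cfsg.Agent.H40.CopDeg

open Cfsg hiding pRank
open Subgroup

namespace H29.Dade
open H46 H28 H72.Dade

universe u
variable {G : Type u} [Group G] {E K S H : Subgroup G} {z : G}

theorem irr_z [Finite G] {η : G → ℂ} (h : IsIrrCharacter G η) (hz : z ∈ center G) (z2 : z * z = 1)
    (h1 : η z ≠ η 1) : ∃ n : ℕ, 0 < n ∧ η 1 = n ∧ η z = -n := by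
  obtain ⟨n, hn, e⟩ := H28.Cfsg.IsIrrCharacter.exists_degree_pos h
  have hn' : (n : ℂ) ≠ 0 := by exact_mod_cast hn.ne'
  have e1 := apply_mul_of_mem_charCenter (by rwa [e]) (H28.Cfsg.IsIrrCharacter.center_le_charCenter h hz) z
  rw [z2, e] at e1
  have : (η z - n) * (η z + n) = 0 := by field_simp at e1; linear_combination -e1
  exact ⟨n, hn, e, eq_neg_of_add_eq_zero_left ((mul_eq_zero.1 this).resolve_left
    fun e2 => h1 (by rw [e, sub_eq_zero.1 e2]))⟩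

theorem irr_uniq [Finite G] {χ ψ : G → ℂ} {m n : ℕ} (zE : z ∈ E) (z2 : z * z = 1) (z1 : z ≠ 1) (hc : Cm E z)
    (hZ : E ⊓ Cent E ≤ zpowers z) (a1 : IsIrrCharacter E (fun x => χ x)) (a0 : 0 < m) (a2 : χ 1 = m)
    (a3 : χ z = -m) (b1 : IsIrrCharacter E (fun x => ψ x)) (b0 : 0 < n) (b2 : ψ 1 = n) (b3 : ψ z = -n) :
    ∀ x : E, χ x = ψ x := by
  classical
  have := Fintype.ofFinite E
  have h : Ch E χ := H28.Cfsg.IsIrrCharacter.isCharacter a1
  refine congrFun (H28.Cfsg.IsIrrCharacter.eq_of_classInner_ne_zero a1 b1 ?_)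
  have hs : ∑ g : E, χ g * (starRingEnd ℂ) (ψ g) = 2 * (m : ℂ) * n := by
    rw [← Finset.sum_subset (Finset.subset_univ ({1, ⟨z, zE⟩} : Finset E))]
    · rw [Finset.sum_pair (fun e => z1 (congrArg Subtype.val e).symm)]
      simp [a2, a3, b2, b3]; ring
    · intro x _ hx
      have : χ x = 0 := by
        refine h.vanish a0 a2 a3 zE hc x.2 fun hxc => hx ?_
        rcases (mem_zp z2).1 (hZ ⟨x.2, hxc⟩) with e | e
        · simp [show x = 1 from Subtype.ext e]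
        · simp [show x = ⟨z, zE⟩ from Subtype.ext e]
      simp [this]
  have hm : (m : ℂ) ≠ 0 := by exact_mod_cast a0.ne'
  have hn : (n : ℂ) ≠ 0 := by exact_mod_cast b0.ne'
  rw [classInner, hs]
  simp [hm, hn]

theorem exists_z [Finite G] [hN : E.Normal] (hE : IsExtraspecial 2 E) :
    ∃ z ∈ E, z * z = 1 ∧ z ≠ 1 ∧ Cm E z ∧ E ⊓ Cent E ≤ zpowers z ∧ ∀ g, g ∈ Cent1 z := by
  obtain ⟨⟨⟨z, zE⟩, hz⟩, h1, h2⟩ := (Nat.card_eq_two_iff' (1 : center E)).1 hE.2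
  have z1 : z ≠ 1 := fun e => h1 (Subtype.ext (Subtype.ext e))
  have hc : ∀ x : E, x ∈ center E → (x : G) = 1 ∨ (x : G) = z := fun x hx => by
    by_cases e : (⟨x, hx⟩ : center E) = 1
    · exact Or.inl (congrArg (fun y : center E => ((y : E) : G)) e)
    · exact Or.inr (congrArg (fun y : center E => ((y : E) : G)) (h2 _ e))
  have hc' : ∀ x ∈ E ⊓ Cent E, x = 1 ∨ x = z := fun x hx =>
    hc ⟨x, hx.1⟩ (mem_center_iff.2 fun g => Subtype.ext (mem_cent.1 hx.2 g g.2))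
  have z2 : z * z = 1 := (hc _ (mul_mem hz hz)).resolve_right fun e => z1 (by simpa using e)
  refine ⟨z, zE, z2, z1, fun x hx y hy => ?_, fun x hx => (mem_zp z2).2 (hc' x hx), fun g => ?_⟩
  · rcases hc (⟨y, hy⟩ * ⟨x, hx⟩ * ⟨y, hy⟩⁻¹ * ⟨x, hx⟩⁻¹) (hE.1.2.2.le
      (commutator_mem_commutator (mem_top (⟨y, hy⟩ : E)) (mem_top (⟨x, hx⟩ : E)))) with e | e
    · exact Or.inl (mul_inv_eq_one.1 e)
    · exact Or.inr (mul_inv_eq_iff_eq_mul.1 e)
  · have hg : g ∈ Nrm E := by rw [Nrm, normalizer_eq_top]; exact mem_top g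
    have hzc : z ∈ E ⊓ Cent E :=
      ⟨zE, mem_cent.2 fun y hy => congrArg Subtype.val (mem_center_iff.1 hz ⟨y, hy⟩)⟩
    rcases hc' _ (conj_mem_of_mem_nrm (nrm_zc le_rfl hg) hzc) with e | e
    · exact absurd (by simpa using e) z1
    · exact mem_cent1.2 (mul_inv_eq_iff_eq_mul.1 e)

theorem dade [Finite G] [hN : E.Normal] (hE : IsExtraspecial 2 E) (hEH : E ⊓ H = ⊥) (htop : E ⊔ H = ⊤)
    (hKH : K ≤ H) (hKn : H ≤ Nrm K) (hK : Odd (Nat.card K)) (hEK : ⁅E, K⁆ = E) {θ : E → ℂ}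
    (hθ : IsIrrCharacter E θ) (hf : ∀ e : E, θ e = θ 1 → e = 1) :
    ∃ χ, IsIrrCharacter G χ ∧ ∀ e : E, χ e = θ e := by
  obtain ⟨z, zE, z2, z1, hc, hZ, hz⟩ := exists_z hE
  have hn : ∀ {A : Subgroup G}, A ≤ Nrm E := by
    intro A; rw [Nrm, normalizer_eq_top]; exact le_top
  obtain ⟨n, a0, a2, a3⟩ := irr_z hθ (z := ⟨z, zE⟩) (mem_center_iff.2 fun g => Subtype.ext (mem_cent1.1 (hz g)))
    (Subtype.ext z2) (fun e => z1 (congrArg Subtype.val (hf _ e)))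
  obtain ⟨ψ, a1, hψ⟩ := exists_ch (H28.Cfsg.IsIrrCharacter.isCharacter hθ)
  have hi : IsIrrCharacter E (fun x => ψ x) := by rwa [show (fun x : E => ψ x) = θ from funext hψ]
  rw [← hψ] at a2 a3
  have hinv : ∀ g : G, ∀ e ∈ E, ψ (g * e * g⁻¹) = ψ e := fun g e he =>
    theta_inv a1 a0 a2 a3 zE hc hZ (hn (mem_top g)) (hz g) he
  refine H32.exists_ext_of_forall_prime hθ (fun g e => by rw [← hψ, ← hψ]; exact hinv g e e.2) fun p hp _ => ?_
  obtain ⟨S, hS⟩ := H46.exists_sylow hp H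
  have hSH : S ≤ H := H46.Cfsg.IsPiHallOf.le hS
  have hpS : IsPGroup p S := (H46.Cfsg.IsPiHallOf.isPi hS).isPGroup hp
  have hd : E ⊓ S = ⊥ := eq_bot_iff.2 ((inf_le_inf_left _ hSH).trans hEH.le)
  have hidx : ¬ p ∣ (E ⊔ S).index := by
    have e1 := card_mul_index (E ⊔ S)
    rw [card_sup_of_disjoint hn hd, ← card_top (G := G), ← htop, card_sup_of_disjoint hn hEH,
      ← card_mul_relIndex hSH, ← mul_assoc] at e1
    rw [Nat.eq_of_mul_eq_mul_left (Nat.mul_pos (card_pos' E) (card_pos' S)) e1]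
    exact (pnat_compl_singleton hp).1 (H46.Cfsg.IsPiHallOf.idx hS)
  by_cases h2 : p = 2
  · subst h2
    obtain ⟨χ, m, c1, c0, c2, c3, c4⟩ := main (E := E) (K := K) (S := S) (z := z) ⟨hE.1.1, zE, z2, z1, hc,
      fun g _ => hz g, fun g _ => hz g, fun g _ => hz g, hK, hpS, hn, hn, hSH.trans hKn,
      eq_bot_iff.2 ((inf_le_inf_left _ (sup_le hKH hSH)).trans hEH.le), fun c hcK => hZ ⟨hcK.1,
        le_cent1_iff.1 (hEK.ge.trans (comm_cent1 (fun g _ => hz g) (fun g _ => hz g) (le_cent1_iff.2 hcK.2)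
          fun e he => hc e he c hcK.1))⟩⟩
    refine ⟨E ⊔ S, le_sup_left, fun x => χ x, hidx, c1, fun e => ?_⟩
    rw [← hψ]
    exact irr_uniq zE z2 z1 hc hZ ((c1.mono le_sup_left).irr c0 c2 c3 zE z2 hc hZ c4) c0 c2 c3 hi a0 a2 a3 e
  · have := Fact.mk hp
    obtain ⟨χ, c1, c2, -⟩ := H40.exists_canonical_ext_of_coprime (E.subgroupOf (E ⊔ S)) (by
        obtain ⟨j, hj⟩ := hE.1.1.exists_card_eq
        obtain ⟨k, hk⟩ := hpS.exists_card_eq
        rw [card_subgroupOf le_sup_left, ← relIndex, (isSd_sup hn hd).relIndex_left, hj, hk]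
        exact Nat.Coprime.pow _ _ ((Nat.coprime_primes Nat.prime_two hp).2 (Ne.symm h2)))
      (θ := fun x => ψ ((x : ↥(E ⊔ S)) : G))
      (H28.Cfsg.IsCharacter.irr_of_comp (a1.comp ((E ⊔ S).subtype.comp (E.subgroupOf (E ⊔ S)).subtype)
        (fun x => x.2)) (subgroupOfEquivOfLe le_sup_left).symm.toMonoidHom hi)
      (fun g e => hinv g e e.2)
    exact ⟨E ⊔ S, le_sup_left, χ, hidx, H28.Cfsg.IsIrrCharacter.isCharacter c1,
      fun e => (c2 ⟨⟨e, mem_sup_left e.2⟩, e.2⟩).trans (hψ e)⟩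

end H29.Dade
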