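import Cfsg.Agent.H29.DnFU0a
import Cfsg.Agent.H26.DPUM0

/-! # S3275, chapter alpha: the facts on `U₃(3)` in the matrix model -/

set_option autoImplicit false

open Subgroup Cfsg H98 H48.DP H57.DPC H48.DP2 H92.DPB H26.DPU H93
open H55 (F9)
open scoped commutatorElement

namespace H29.FU

universe u v

def nA : X := su33 !![⟨0, 0⟩, ⟨1, 2⟩, ⟨1, 1⟩; ⟨1, 1⟩, ⟨2, 0⟩, ⟨0, 1⟩; ⟨2, 1⟩, ⟨0, 1⟩, ⟨1, 0⟩]
  (by rw [Matrix.det_fin_three]; decide +kernel) (by decide +kernel)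
def nB : X := su33 !![⟨2, 0⟩, ⟨2, 1⟩, ⟨0, 1⟩; ⟨2, 2⟩, ⟨0, 0⟩, ⟨1, 2⟩; ⟨0, 1⟩, ⟨2, 2⟩, ⟨1, 0⟩]
  (by rw [Matrix.det_fin_three]; decide +kernel) (by decide +kernel)
def nR : X := su33 !![⟨0, 0⟩, ⟨0, 1⟩, ⟨0, 0⟩; ⟨1, 0⟩, ⟨0, 0⟩, ⟨0, 0⟩; ⟨0, 0⟩, ⟨0, 0⟩, ⟨0, 1⟩]
  (by rw [Matrix.det_fin_three]; decide +kernel) (by decide +kernel)
def nI : X := su33 !![⟨0, 0⟩, ⟨0, 1⟩, ⟨0, 0⟩; ⟨0, 1⟩, ⟨0, 0⟩, ⟨0, 0⟩; ⟨0, 0⟩, ⟨0, 0⟩, ⟨1, 0⟩]
  (by rw [Matrix.det_fin_three]; decide +kernel) (by decide +kernel)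
def nJ : X := su33 !![⟨0, 0⟩, ⟨1, 0⟩, ⟨0, 0⟩; ⟨2, 0⟩, ⟨0, 0⟩, ⟨0, 0⟩; ⟨0, 0⟩, ⟨0, 0⟩, ⟨1, 0⟩]
  (by rw [Matrix.det_fin_three]; decide +kernel) (by decide +kernel)

theorem ne1 {g : X} (h : g.1.1 ≠ 1) : g ≠ 1 := fun e => h (by rw [e]; rfl)

theorem r4 : nR ^ 4 = mA ^ 2 * mB ^ 2 :=
  su33_ext (by simp only [pow_succ, pow_zero]; decide +kernel)

theorem j2 : orderOf (mA ^ 2 * mB ^ 2) = 2 :=
  orderOf_eq_prime (su33_ext (by simp only [pow_succ, pow_zero]; decide +kernel))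
    (ne1 (by rw [z_val]; decide +kernel))

theorem bo : Bo nA nB mU nR where
  a3 := su33_ext (by simp only [pow_succ, pow_zero]; decide +kernel)
  b3 := su33_ext (by simp only [pow_succ, pow_zero]; decide +kernel)
  z3 := have : Fact (Nat.Prime 3) := ⟨Nat.prime_three⟩
    orderOf_eq_prime (su33_ext (by simp only [pow_succ, pow_zero]; decide +kernel))
      (ne1 (by decide +kernel))
  ab := by
    rw [commutatorElement_def, mul_inv_eq_iff_eq_mul, mul_inv_eq_iff_eq_mul]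
    exact su33_ext (by decide +kernel)
  az := su33_ext (by decide +kernel)
  bz := su33_ext (by decide +kernel)
  r8 := orderOf_eq_prime_pow (p := 2) (n := 2) (by
      rw [show 2 ^ 2 = 4 from rfl, r4]; exact ne1 (by rw [z_val]; decide +kernel))
    (by
      rw [show 2 ^ (2 + 1) = 4 * 2 from rfl, pow_mul, r4]
      exact orderOf_dvd_iff_pow_eq_one.1 j2.dvd)
  ra := by rw [mul_inv_eq_iff_eq_mul]; exact su33_ext (by decide +kernel)
  rb := by rw [mul_inv_eq_iff_eq_mul]; exact su33_ext (by decide +kernel)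
  rz := by rw [mul_inv_eq_iff_eq_mul, mU_inv]; exact su33_ext (by decide +kernel)
  simple := have := model.simple; topEquiv.symm.isSimpleGroup
  cL := cardX

theorem hk0 : ∀ (k : Fin 8) (e : Fin 3),
    nR.1.1 ^ k.val * (mU.1.1 ^ e.val * nA.1.1) = nA.1.1 * nR.1.1 ^ k.val → k = 0 := by
  decide +kernel

theorem cr0 : ∀ p q : F9, p * p ^ 3 + q * q ^ 3 = 1 → ∀ f : F9, f * f ^ 3 = 1 →
    bm p q f * nR.1.1 = nR.1.1 * bm p q f → bm p q f * bm p q f * bm p q f = 1 → bm p q f = 1 := by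
  decide +kernel

theorem cr {w : X} (h3 : w ^ 3 = 1) (h : Commute w nR) : w = 1 := by
  obtain ⟨⟨u1, u2⟩, e⟩ := form (l := w) (mem_centralizer_singleton_iff.2 (r4 ▸ h.pow_right 4).eq)
  refine su33_ext (e.trans (cr0 _ _ u1 _ u2 ?_ ?_))
  · rw [← e]; exact congrArg (fun g : X => g.1.1) h.eq
  · rw [← e]; exact congrArg (fun g : X => g.1.1) ((pow_three' w).symm.trans h3)

/-- The quaternion group. -/
theorem q8 {L : Type*} [Group L] [Finite L] {i j : L} (i4 : i ^ 4 = 1) (j4 : j ^ 4 = 1)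
    (h : j * i * j⁻¹ = i⁻¹) : IsPGroup 2 ↥(zpowers j ⊔ zpowers i) := by
  have k : ∀ g : L, g ^ 4 = 1 → IsPGroup 2 (zpowers g) := fun g hg => by
    rintro ⟨_, n, rfl⟩
    refine ⟨2, Subtype.ext ?_⟩
    show (g ^ n) ^ 4 = 1
    rw [← zpow_natCast, ← zpow_mul, mul_comm, zpow_mul, zpow_natCast, hg, one_zpow]
  refine (k j j4).to_sup_of_normal_right' (k i i4) (zpowers_le.2 (mem_normalizer_fintype ?_))
  rintro _ ⟨n, rfl⟩
  show j * i ^ n * j⁻¹ ∈ zpowers i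
  rw [← conj_zpow, h]
  exact zpow_mem (inv_mem (mem_zpowers i)) n

theorem ij : ⁅nI, nJ⁆ = mA ^ 2 * mB ^ 2 := by
  rw [commutatorElement_def, mul_inv_eq_iff_eq_mul, mul_inv_eq_iff_eq_mul]
  exact su33_ext (by simp only [pow_succ, pow_zero]; decide +kernel)

theorem fu : Fu ⊤ (Subgroup.closure {nA, nB}) (zpowers nJ ⊔ zpowers nI) mU nR where
  syl := bo.syl
  card := bo.toEx.card
  ex := fun _ => bo.toEx.ex
  z3 := bo.z3
  der := bo.toEx.der
  zc := bo.toEx.zc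
  cP := inf_le_right.trans (bo.cP fun k e h => hk0 k e (congrArg (fun g : X => g.1.1) h))
  rK := trivial
  r2 := bo.r2
  rP := bo.rP
  rz := bo.rz
  cr := fun _ _ => cr
  SK := le_top
  S2 := q8 (su33_ext (by simp only [pow_succ, pow_zero]; decide +kernel))
    (su33_ext (by simp only [pow_succ, pow_zero]; decide +kernel)) (by
      rw [mul_inv_eq_iff_eq_mul, eq_inv_mul_iff_mul_eq]; exact su33_ext (by decide +kernel))
  zS := by
    have e1 : mU * nI * mU⁻¹ = nJ := by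
      rw [mul_inv_eq_iff_eq_mul]; exact su33_ext (by decide +kernel)
    have e2 : mU * nJ * mU⁻¹ = nI * nJ := by
      rw [mul_inv_eq_iff_eq_mul]; exact su33_ext (by decide +kernel)
    have hi : nI ∈ zpowers nJ ⊔ zpowers nI := mem_sup_right (mem_zpowers _)
    have hj : nJ ∈ zpowers nJ ⊔ zpowers nI := mem_sup_left (mem_zpowers _)
    refine mem_normalizer_of_cj_le (map_le_iff_le_comap.2 (sup_le (zpowers_le.2 ?_)
      (zpowers_le.2 ?_)))
    · show mU * nJ * mU⁻¹ ∈ zpowers nJ ⊔ zpowers nI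
      rw [e2]; exact mul_mem hi hj
    · show mU * nI * mU⁻¹ ∈ zpowers nJ ⊔ zpowers nI
      rw [e1]; exact hj
  gen := by
    rw [top_inf_eq, bo.gen (i := nI) (j := nJ) (mem_sup_right (mem_zpowers _))
      (mem_sup_left (mem_zpowers _)) (by rw [ij, j2])]

/-- Transport (helper35's lemma with two universes). -/
theorem fu_map {L : Type u} {Y : Type v} [Group L] [Group Y] {f : L →* Y}
    (hf : Function.Injective f)
    {K P S : Subgroup L} {z r : L} (h : Fu K P S z r) :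
    Fu (K.map f) (P.map f) (S.map f) (f z) (f r) where
  syl := h.syl.map_of_injective hf
  card := by rw [card_map_of_injective hf, h.card]
  ex := by
    rintro _ ⟨p, hp, rfl⟩
    rw [← map_pow, h.ex p hp, map_one]
  z3 := by rw [orderOf_injective f hf, h.z3]
  der := by rw [← map_commutator, h.der, MonoidHom.map_zpowers]
  zc := by
    rintro _ ⟨p, hp, rfl⟩
    refine mem_centralizer_singleton_iff.2 ?_
    rw [← map_mul, ← map_mul, mem_centralizer_singleton_iff.1 (h.zc hp)]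
  cP := by
    rintro _ ⟨⟨a, ha, rfl⟩, hc⟩
    rw [← MonoidHom.map_zpowers]
    refine mem_map_of_mem f (h.cP ⟨ha, mem_centralizer_iff.2 fun p hp => hf ?_⟩)
    rw [map_mul, map_mul]
    exact mem_centralizer_iff.1 hc _ (mem_map_of_mem f hp)
  rK := mem_map_of_mem f h.rK
  r2 := by rw [← MonoidHom.map_zpowers]; exact h.r2.map f
  rP := le_normalizer_map f (mem_map_of_mem f h.rP)
  rz := by rw [← map_inv, ← map_mul, ← map_mul, h.rz, map_inv]
  cr := by
    rintro _ ⟨w, hw, rfl⟩ h3 hc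
    rw [h.cr w hw (hf (by rw [map_pow, h3, map_one])) (hf (by rw [map_mul, map_mul]; exact hc)),
      map_one]
  SK := map_mono h.SK
  S2 := h.S2.map f
  zS := le_normalizer_map f (mem_map_of_mem f h.zS)
  gen := by
    refine (map_mono h.gen).trans ?_
    rw [Subgroup.map_sup]
    refine sup_le_sup_right ?_ _
    rintro _ ⟨a, ha, rfl⟩
    refine ⟨mem_map_of_mem f ha.1, ?_⟩
    rw [← MonoidHom.map_zpowers]
    exact le_normalizer_map f (mem_map_of_mem f ha.2)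

theorem jobFU0 : JFU0.{u} := by
  rintro L _ _ ⟨F, _, _, c, ⟨e⟩⟩
  let φ : X ≃* L := (eq.symm.trans (H55.psuCongr (FiniteField.ringEquivOfCardEq
    (H55.card_F9.trans c.symm)) 3 3)).trans e.symm
  have := fu_map (f := φ.toMonoidHom) φ.injective fu
  rw [map_top_of_surjective _ φ.surjective] at this
  exact ⟨(Nat.card_congr φ.toEquiv).symm.trans cardX, _, _, _, _, this⟩

end H29.FU
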