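import Cfsg.Agent.H48.DNASpec
import Cfsg.Agent.H92.DP0BSpec

/-! # S3275, chapter alpha: the Borel subgroup of `U₃(3)` from generators and relations -/

set_option autoImplicit false

open Subgroup Cfsg H98 H48.DP H57.DPC H48.DP2 H92.DPB
open scoped commutatorElement

namespace H29.FU

universe u

variable {L : Type u} [Group L]

theorem card_sup' [Finite L] {A B : Subgroup L} (hn : A ≤ No B) (hd : A ⊓ B = ⊥) :
    Nat.card ↥(A ⊔ B) = Nat.card A * Nat.card B := by
  rw [← Nat.card_prod]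
  refine (Nat.card_congr (Equiv.ofBijective (fun p : A × B =>
    (⟨p.1 * p.2, mul_mem (mem_sup_left p.1.2) (mem_sup_right p.2.2)⟩ : ↥(A ⊔ B))) ⟨?_, ?_⟩)).symm
  · rintro ⟨a, b⟩ ⟨a', b'⟩ e
    have e' : (a : L) * b = a' * b' := congrArg Subtype.val e
    have h1 : (a' : L)⁻¹ * a = b' * (b : L)⁻¹ := by
      rw [inv_mul_eq_iff_eq_mul, ← mul_assoc, ← e', mul_inv_cancel_right]
    have h2 : (a' : L)⁻¹ * a ∈ A ⊓ B :=
      ⟨A.mul_mem (A.inv_mem a'.2) a.2, h1 ▸ B.mul_mem b'.2 (B.inv_mem b.2)⟩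
    rw [hd, mem_bot, inv_mul_eq_one] at h2
    rw [h2, mul_right_inj] at e'
    exact Prod.ext (Subtype.ext h2.symm) (Subtype.ext e')
  · rintro ⟨g, hg⟩
    obtain ⟨a, ha, b, hb, rfl⟩ := (mem_sup_left_norm hn).1 hg
    exact ⟨(⟨a, ha⟩, ⟨b, hb⟩), rfl⟩

theorem dvd_fact [Finite L] [IsSimpleGroup L] {H : Subgroup L} (h : H ≠ ⊤) :
    Nat.card L ∣ H.index.factorial := by
  have k : (MulAction.toPermHom L (L ⧸ H)).ker = ⊥ := by
    rw [← normalCore_eq_ker]
    exact (normalCore_normal H).eq_bot_or_eq_top.resolve_right fun e =>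
      h (top_unique (e ▸ H.normalCore_le))
  have := card_dvd_of_injective _ ((MonoidHom.ker_eq_bot_iff _).1 k)
  rwa [Nat.card_perm] at this

/-- The relations of `3^{1+2}`. -/
structure Ex (a b z : L) : Prop where
  a3 : a ^ 3 = 1
  b3 : b ^ 3 = 1
  z3 : orderOf z = 3
  ab : ⁅a, b⁆ = z
  az : Commute a z
  bz : Commute b z

variable {a b z r : L}

theorem Ex.zP (h : Ex a b z) : z ∈ closure ({a, b} : Set L) := by
  have ha : a ∈ closure ({a, b} : Set L) := subset_closure (by simp)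
  have hb : b ∈ closure ({a, b} : Set L) := subset_closure (by simp)
  rw [← h.ab]
  exact mul_mem (mul_mem (mul_mem ha hb) (inv_mem ha)) (inv_mem hb)

theorem Ex.zc (h : Ex a b z) : closure ({a, b} : Set L) ≤ C1 z := by
  rw [closure_le]
  rintro x (rfl | rfl)
  · exact mem_centralizer_singleton_iff.2 h.az.eq
  · exact mem_centralizer_singleton_iff.2 h.bz.eq

theorem Ex.cz (h : Ex a b z) {x c : L} (hx : x ∈ closure ({a, b} : Set L)) (hc : c ∈ zpowers z) :
    Commute x c := by
  obtain ⟨i, rfl⟩ := hc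
  exact (show Commute x z from mem_centralizer_singleton_iff.1 (h.zc hx)).zpow_right i

theorem Ex.cm (h : Ex a b z) {x y : L} (hx : x ∈ closure ({a, b} : Set L))
    (hy : y ∈ closure ({a, b} : Set L)) : ⁅x, y⁆ ∈ zpowers z := by
  have n : ∀ x ∈ closure ({a, b} : Set L), ∀ c ∈ zpowers z, x * c * x⁻¹ ∈ zpowers z :=
    fun x hx c hc => by rwa [(h.cz hx hc).eq, mul_inv_cancel_right]
  induction hx, hy using closure_induction₂ with
  | mem x y hx hy =>
    rcases hx with rfl | rfl <;> rcases hy with rfl | rfl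
    · simp
    · exact h.ab ▸ mem_zpowers z
    · rw [← commutatorElement_inv, h.ab]; exact inv_mem (mem_zpowers z)
    · simp
  | one_left => simp
  | one_right => simp
  | mul_left x y s hx _ _ h1 h2 =>
    rw [show ⁅x * y, s⁆ = x * ⁅y, s⁆ * x⁻¹ * ⁅x, s⁆ by simp only [commutatorElement_def]; group]
    exact mul_mem (n x hx _ h2) h1
  | mul_right x y s hx _ _ h1 h2 =>
    rw [show ⁅s, x * y⁆ = ⁅s, x⁆ * (x * ⁅s, y⁆ * x⁻¹) by simp only [commutatorElement_def]; group]
    exact mul_mem h1 (n x hx _ h2)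
  | inv_left x s hx _ h1 =>
    rw [show ⁅x⁻¹, s⁆ = x⁻¹ * ⁅x, s⁆⁻¹ * x⁻¹⁻¹ by simp only [commutatorElement_def]; group]
    exact n _ (inv_mem hx) _ (inv_mem h1)
  | inv_right s x _ hx h1 =>
    rw [show ⁅s, x⁻¹⁆ = x⁻¹ * ⁅s, x⁆⁻¹ * x⁻¹⁻¹ by simp only [commutatorElement_def]; group]
    exact n _ (inv_mem hx) _ (inv_mem h1)

theorem Ex.der (h : Ex a b z) :
    ⁅closure ({a, b} : Set L), closure ({a, b} : Set L)⁆ = zpowers z :=
  le_antisymm (commutator_le.2 fun _ hx _ hy => h.cm hx hy) (zpowers_le.2 (h.ab ▸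
    commutator_mem_commutator (subset_closure (by simp)) (subset_closure (by simp))))

theorem Ex.ex (h : Ex a b z) {x : L} (hx : x ∈ closure ({a, b} : Set L)) : x ^ 3 = 1 := by
  induction hx using closure_induction with
  | mem x hx => rcases hx with rfl | rfl; exacts [h.a3, h.b3]
  | one => simp
  | inv x _ h1 => rw [inv_pow, h1, inv_one]
  | mul x y hx hy h1 h2 =>
    have hc := h.cm hy hx
    have c3 : ⁅y, x⁆ ^ 3 = 1 := (el_zp (h.z3 ▸ pow_orderOf_eq_one z)).2 _ hc
    have e : y * x = ⁅y, x⁆ * (x * y) := by simp only [commutatorElement_def]; group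
    have c1 := (h.cz hx hc).eq
    have c2 := (h.cz hy hc).eq
    generalize ⁅y, x⁆ = c at *
    have e' : ∀ t, y * (x * t) = c * (x * (y * t)) := fun t => by
      rw [← mul_assoc, e]; simp only [mul_assoc]
    have d1 : ∀ t, x * (c * t) = c * (x * t) := fun t => by rw [← mul_assoc, c1, mul_assoc]
    have d2 : ∀ t, y * (c * t) = c * (y * t) := fun t => by rw [← mul_assoc, c2, mul_assoc]
    have : (x * y) ^ 3 = c ^ 3 * x ^ 3 * y ^ 3 := by
      simp only [pow_succ, pow_zero, one_mul, mul_assoc, e', d1, d2]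
    rw [this, c3, h1, h2, one_mul, one_mul]

theorem Ex.nc (h : Ex a b z) : ¬ Commute a b := fun e => by
  have := h.z3
  rw [← h.ab, commutatorElement_eq_one_iff_commute.2 e, orderOf_one] at this
  omega

theorem Ex.no [Finite L] (h : Ex a b z) {S : Subgroup L} (h1 : zpowers z ≤ S)
    (h2 : S ≤ closure ({a, b} : Set L)) : closure ({a, b} : Set L) ≤ No S := fun x hx =>
  mem_normalizer_fintype fun n hn => by
    rw [show x * n * x⁻¹ = ⁅x, n⁆ * n by simp only [commutatorElement_def]; group]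
    exact S.mul_mem (h1 (h.cm hx (h2 hn))) hn

theorem Ex.card [Finite L] (h : Ex a b z) : Nat.card (closure ({a, b} : Set L)) = 27 := by
  have : Fact (Nat.Prime 3) := ⟨Nat.prime_three⟩
  have ha : a ∈ closure ({a, b} : Set L) := subset_closure (by simp)
  have hb : b ∈ closure ({a, b} : Set L) := subset_closure (by simp)
  have an : a ∉ zpowers z := fun e => h.nc (h.cz hb e).symm
  have ao : orderOf a = 3 := orderOf_eq_prime h.a3 fun e => an (e ▸ one_mem _)
  obtain ⟨e1, e2⟩ := e9 ao h.z3 h.az an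
  have bn : b ∉ zpowers a ⊔ zpowers z := fun e => h.nc (el_comm e1 (mem_sup_left (mem_zpowers a)) e)
  have bo : orderOf b = 3 := orderOf_eq_prime h.b3 fun e => bn (e ▸ one_mem _)
  have l : zpowers a ⊔ zpowers z ≤ closure ({a, b} : Set L) :=
    sup_le (zpowers_le.2 ha) (zpowers_le.2 h.zP)
  have hd : zpowers b ⊓ (zpowers a ⊔ zpowers z) = ⊥ := by
    have : Fact (Nat.card (zpowers b)).Prime := ⟨by rw [Nat.card_zpowers, bo]; norm_num⟩
    rcases ((zpowers a ⊔ zpowers z).subgroupOf (zpowers b)).eq_bot_or_eq_top_of_prime_card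
      with e | e
    · rw [subgroupOf_eq_bot, disjoint_iff, inf_comm] at e; exact e
    · exact absurd (subgroupOf_eq_top.1 e (mem_zpowers b)) bn
  have e : closure ({a, b} : Set L) = zpowers b ⊔ (zpowers a ⊔ zpowers z) := by
    refine le_antisymm ((closure_le _).2 ?_) (sup_le (zpowers_le.2 hb) l)
    rintro x (rfl | rfl)
    · exact mem_sup_right (mem_sup_left (mem_zpowers _))
    · exact mem_sup_left (mem_zpowers _)
  rw [e, card_sup' ((zpowers_le.2 hb).trans (h.no le_sup_right l)) hd, e2, Nat.card_zpowers, bo]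

theorem Ex.cen [Finite L] (h : Ex a b z) {c : L} (hc : c ∈ closure ({a, b} : Set L))
    (h1 : Commute c a) (h2 : Commute c b) : c ∈ zpowers z := by
  have : Fact (Nat.Prime 3) := ⟨Nat.prime_three⟩
  by_contra n
  have ha : a ∈ closure ({a, b} : Set L) := subset_closure (by simp)
  have hb : b ∈ closure ({a, b} : Set L) := subset_closure (by simp)
  have co : orderOf c = 3 := orderOf_eq_prime (h.ex hc) fun e => n (e ▸ one_mem _)
  obtain ⟨e1, e2⟩ := e9 co h.z3 (h.cz hc (mem_zpowers z)) n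
  have k : ∀ s : L, Commute c s → Commute z s → ∀ w ∈ zpowers c ⊔ zpowers z, Commute w s :=
    fun s p q w hw => mem_centralizer_singleton_iff.1 ((sup_le (zpowers_le.2
      (mem_centralizer_singleton_iff.2 p.eq)) (zpowers_le.2
      (mem_centralizer_singleton_iff.2 q.eq)) : _ ≤ C1 s) hw)
  have an : a ∉ zpowers c ⊔ zpowers z := fun e => h.nc (k b h2 h.bz.symm a e)
  obtain ⟨f1, f2⟩ := e27_sup e1 e2.ge h.a3 (k a h1 h.az.symm) an
  have e : zpowers c ⊔ zpowers z ⊔ zpowers a = closure ({a, b} : Set L) :=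
    eq_of_le_of_card_ge (sup_le (sup_le (zpowers_le.2 hc) (zpowers_le.2 h.zP)) (zpowers_le.2 ha))
      (by rw [h.card]; exact f2)
  rw [e] at f1
  exact h.nc (el_comm f1 ha hb)

/-- The Borel subgroup. -/
structure Bo (a b z r : L) : Prop extends Ex a b z where
  r8 : orderOf r = 8
  ra : r * a * r⁻¹ = b
  rb : r * b * r⁻¹ = a * b * z
  rz : r * z * r⁻¹ = z⁻¹
  simple : IsSimpleGroup L
  cL : Nat.card L = 6048

theorem Bo.rP [Finite L] (h : Bo a b z r) : r ∈ No (closure ({a, b} : Set L)) := by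
  have ha : a ∈ closure ({a, b} : Set L) := subset_closure (by simp)
  have hb : b ∈ closure ({a, b} : Set L) := subset_closure (by simp)
  refine mem_normalizer_of_cj_le (map_le_iff_le_comap.2 ((closure_le _).2 ?_))
  rintro x (rfl | rfl)
  · show r * x * r⁻¹ ∈ Subgroup.closure _
    rw [h.ra]; exact hb
  · show r * x * r⁻¹ ∈ Subgroup.closure _
    rw [h.rb]; exact mul_mem (mul_mem ha hb) h.toEx.zP

theorem Bo.r2 (h : Bo a b z r) : IsPGroup 2 (zpowers r) :=
  IsPGroup.of_card (n := 3) (by rw [Nat.card_zpowers, h.r8]; rfl)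

theorem Bo.p3 [Finite L] (h : Bo a b z r) : IsPGroup 3 (closure ({a, b} : Set L)) :=
  IsPGroup.of_card (n := 3) h.toEx.card

theorem Bo.cB [Finite L] (h : Bo a b z r) :
    Nat.card ↥(zpowers r ⊔ closure ({a, b} : Set L)) = 216 := by
  have : Fact (Nat.Prime 3) := ⟨Nat.prime_three⟩
  rw [card_sup' (zpowers_le.2 h.rP) (disjoint_iff.1
    (IsPGroup.disjoint_of_ne 2 3 (by norm_num) _ _ h.r2 h.p3)), Nat.card_zpowers, h.r8, h.toEx.card]

theorem Bo.syl [Finite L] (h : Bo a b z r) : IsSyl 3 (closure ({a, b} : Set L)) ⊤ := by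
  have : Fact (Nat.Prime 3) := ⟨Nat.prime_three⟩
  refine isSyl_of_not_dvd_relIndex le_top h.p3 ?_
  have := (closure ({a, b} : Set L)).card_mul_index
  rw [h.toEx.card, h.cL] at this
  rw [relIndex_top_right]
  omega

theorem Bo.idx [Finite L] (h : Bo a b z r) {H : Subgroup L} (h1 : H ≠ ⊤)
    (h2 : zpowers r ⊔ closure ({a, b} : Set L) ≤ H) : H.index = 14 ∨ H.index = 28 := by
  have := h.simple
  have k := dvd_fact h1
  have i := (zpowers r ⊔ closure ({a, b} : Set L)).card_mul_index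
  rw [h.cB, h.cL] at i
  have d := index_dvd_of_le h2
  rw [show (zpowers r ⊔ closure ({a, b} : Set L)).index = 28 by omega] at d
  rw [h.cL] at k
  have := Nat.le_of_dvd (by norm_num) d
  generalize H.index = m at *
  interval_cases m <;> simp_all (config := { decide := true })

theorem Bo.eq28 [Finite L] (h : Bo a b z r) {H : Subgroup L}
    (h2 : zpowers r ⊔ closure ({a, b} : Set L) ≤ H) (i : H.index = 28) :
    H = zpowers r ⊔ closure ({a, b} : Set L) := by
  have c := H.card_mul_index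
  rw [i, h.cL] at c
  exact (eq_of_le_of_card_ge h2 (by rw [h.cB]; omega)).symm

theorem Bo.nP [Finite L] (h : Bo a b z r) :
    No (closure ({a, b} : Set L)) = zpowers r ⊔ closure ({a, b} : Set L) := by
  have : Fact (Nat.Prime 3) := ⟨Nat.prime_three⟩
  have := h.simple
  have l : zpowers r ⊔ closure ({a, b} : Set L) ≤ No (closure ({a, b} : Set L)) :=
    sup_le (zpowers_le.2 h.rP) le_normalizer
  have n : No (closure ({a, b} : Set L)) ≠ ⊤ := fun e => by
    have c := h.toEx.card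
    rcases (normalizer_eq_top_iff.1 e).eq_bot_or_eq_top with e1 | e1 <;> rw [e1] at c
    · simp at c
    · rw [card_top, h.cL] at c; omega
  refine h.eq28 l ((h.idx n l).resolve_left fun e => ?_)
  have k := card_sylow_modEq_one 3 L
  rw [Sylow.card_eq_index_normalizer h.syl.toSylowTop] at k
  erw [e] at k
  exact absurd k (by decide)

theorem Bo.max [Finite L] (h : Bo a b z r) {H : Subgroup L} (h1 : H ≠ ⊤)
    (h2 : zpowers r ⊔ closure ({a, b} : Set L) ≤ H) : H = zpowers r ⊔ closure ({a, b} : Set L) := by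
  have : Fact (Nat.Prime 3) := ⟨Nat.prime_three⟩
  refine (h.idx h1 h2).elim (fun e => ?_) (h.eq28 h2)
  have i := (zpowers r ⊔ closure ({a, b} : Set L)).card_mul_index
  rw [h.cB, h.cL] at i
  have j := relIndex_mul_index h2
  rw [e] at j
  have n : ((zpowers r ⊔ closure ({a, b} : Set L)).subgroupOf H).Normal :=
    normal_of_index_eq_two (by change relIndex _ _ = 2; omega)
  have f := (h.syl.of_le (le_sup_right (a := zpowers r)) le_top).frattini h2
    ((normal_subgroupOf_iff_le_normalizer h2).1 n)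
  refine le_antisymm (f ▸ sup_le (inf_le_right.trans h.nP.le) le_rfl) h2

theorem Bo.nz [Finite L] (h : Bo a b z r) :
    No (zpowers z) = zpowers r ⊔ closure ({a, b} : Set L) := by
  have := h.simple
  refine h.max (fun e => ?_) (sup_le (zpowers_le.2 ?_) (h.toEx.no le_rfl (zpowers_le.2 h.toEx.zP)))
  · have c := (Nat.card_zpowers z).trans h.z3
    rcases (normalizer_eq_top_iff.1 e).eq_bot_or_eq_top with e1 | e1 <;> rw [e1] at c
    · simp at c
    · rw [card_top, h.cL] at c; omega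
  · refine mem_normalizer_fintype ?_
    rintro _ ⟨i, rfl⟩
    show r * z ^ i * r⁻¹ ∈ zpowers z
    rw [← conj_zpow, h.rz]
    exact zpow_mem (inv_mem (mem_zpowers z)) i

/-- An involution that is a commutator of elements of `B` does not exist. -/
theorem Bo.gen [Finite L] (h : Bo a b z r) {S : Subgroup L} {i j : L} (hi : i ∈ S) (hj : j ∈ S)
    (h2 : orderOf ⁅i, j⁆ = 2) : No (zpowers z) ⊔ S = ⊤ := by
  by_contra n
  have e := h.max n (h.nz ▸ le_sup_left)
  have m : ∀ s ∈ S, ∃ k : ℤ, ∃ p ∈ closure ({a, b} : Set L), s = r ^ k * p := fun s hs => by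
    obtain ⟨_, ⟨k, rfl⟩, p, hp, e1⟩ :=
      (mem_sup_left_norm (zpowers_le.2 h.rP)).1 (e ▸ mem_sup_right hs)
    exact ⟨k, p, hp, e1⟩
  obtain ⟨k, p, hp, rfl⟩ := m i hi
  obtain ⟨l, q, hq, rfl⟩ := m j hj
  have c : ∀ (n : ℤ) (x : L), x ∈ closure ({a, b} : Set L) →
      r ^ n * x * (r ^ n)⁻¹ ∈ closure ({a, b} : Set L) := fun n x hx =>
    (mem_normalizer_iff.1 (zpow_mem h.rP n) x).1 hx
  have : ⁅r ^ k * p, r ^ l * q⁆ ∈ closure ({a, b} : Set L) := by
    rw [show ⁅r ^ k * p, r ^ l * q⁆ = (r ^ k * p * (r ^ k)⁻¹) *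
      (r ^ (k + l) * (q * p⁻¹) * (r ^ (k + l))⁻¹) * (r ^ l * q⁻¹ * (r ^ l)⁻¹) by
        simp only [commutatorElement_def]; group]
    exact mul_mem (mul_mem (c k p hp) (c _ _ (mul_mem hq (inv_mem hp)))) (c l _ (inv_mem hq))
  have := orderOf_dvd_of_pow_eq_one (h.toEx.ex this)
  rw [h2] at this
  omega

theorem Bo.cP [Finite L] (h : Bo a b z r)
    (hk : ∀ (k : Fin 8) (e : Fin 3), r ^ k.val * (z ^ e.val * a) = a * r ^ k.val → k = 0) :
    Ce (closure ({a, b} : Set L)) ≤ zpowers z := fun c hc => by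
  classical
  have ha : a ∈ closure ({a, b} : Set L) := subset_closure (by simp)
  have hb : b ∈ closure ({a, b} : Set L) := subset_closure (by simp)
  obtain ⟨s, hs, p, hp, rfl⟩ := (mem_sup_left_norm (zpowers_le.2 h.rP)).1
    (h.nP.le (centralizer_le_normalizer _ hc))
  obtain ⟨k, hk1, rfl⟩ := Finset.mem_image.1 (mem_zpowers_iff_mem_range_orderOf.1 hs)
  obtain ⟨e, he, e1⟩ := Finset.mem_image.1 (mem_zpowers_iff_mem_range_orderOf.1 (h.toEx.cm hp ha))
  rw [Finset.mem_range, h.r8] at hk1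
  rw [Finset.mem_range, h.z3] at he
  have := hk ⟨k, hk1⟩ ⟨e, he⟩ (by
    have := hc a ha
    simp only [e1, commutatorElement_def]
    calc r ^ k * (p * a * p⁻¹ * a⁻¹ * a) = (r ^ k * p * a) * p⁻¹ := by group
      _ = a * r ^ k := by rw [← this]; group)
  obtain rfl : k = 0 := congrArg Fin.val this
  rw [pow_zero, one_mul] at hc ⊢
  exact h.toEx.cen hp (hc a ha).symm (hc b hb).symm

end H29.FU
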