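/- `blueprints/FUS3.md`: `JobR1`. -/
import Cfsg.Agent.H87.F3L

set_option autoImplicit false
set_option linter.unusedSectionVars false

namespace H29.F3
open _root_.Cfsg H92 H93 Subgroup H92.Es H92.P5 H87.F3
open scoped commutatorElement

universe u

variable {Ω : Type u} [Group Ω] {D E E₁ E₂ L L₁ L₂ M N S X : Subgroup Ω} {g y : Ω} {p : ℕ}
  [hp : Fact p.Prime] [Finite Ω]

theorem nY (h : Loc p E N L) (n : ¬ L ≤ Ct (OZ p N)) : ¬ N ≤ Ct (OZ p E) := fun r => by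
  have e : OZ p E = OZ p N := le_antisymm
    (le_OZ ((OZ_le p E).trans h.sp.le) r (el_OZ p E).pw) h.OZ_le
  exact n (h.ct_of_nm_OZ fun a ha => e ▸ nm_OZ (h.nm ha))

theorem core (h : Loc p E N L) (hs : SR p 3 N) (sM : Sp p E M) (hy : y ∈ N) (hy' : y ∉ E)
    (hc : y ∈ Ct M) (n : ¬ N ≤ Ct (OZ p E)) : ∃ D ≤ M, E = OZ p E ⊔ D ∧ E ≤ Ct E := by
  obtain ⟨a, ha, ho⟩ := h.exists_opp
  have aE := cj_eq_of_Nm (h.nm ha)
  have sM' : Sp p E (cj a M) := by have := sM.cj a; rwa [aE] at this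
  have t1 : y ∈ Tv E M := sM.tv h.pg h.sp.le hy (h.sp.nm hy) (Ct_le_Nm _ hc)
  have t2 : a * y * a⁻¹ ∈ Tv E (cj a M) := by have := conj_mem_Tv a t1; rwa [aE] at this
  have c2 := conj_mem_Ct_cj a hc
  have ne : M ≠ cj a M := fun e => ho _ y y (pMod_Tv_Ct (h.pgE.to_le sM.le)) hy hy' hy hy'
    ⟨t1, hc⟩ ⟨e ▸ t2, e ▸ c2⟩
  obtain ⟨s1, s2, el, -⟩ := two_max sM sM' ne
  have n1 : ¬ OZ p E ≤ M := fun r => n (h.sp.le_of (le_Ct_OZ p E) hy hy' (Ct_anti r hc))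
  have n2 : ¬ OZ p E ≤ cj a M := by
    rw [← cj_eq_of_Nm (nm_OZ (h.nm ha)), cj_le_cj]; exact n1
  set D := M ⊓ cj a M with hD
  have lD : D ≤ E := el.le
  have e : E = OZ p E ⊔ D := by
    by_contra r
    have hF : OZ p E ⊔ D ≤ E := sup_le (OZ_le p E) lD
    obtain ⟨-, s3⟩ := sp_mid' h.pgE (Sp.two sM s1) (K := OZ p E ⊔ D)
      (right_lt_sup.2 fun r => n1 (r.trans inf_le_left)) (lt_of_le_of_ne hF (Ne.symm r))
    have key : ∀ (S M₀ : Subgroup Ω) (z : Ω), IsPGroup p S → E ≤ S → z ∈ S → z ∈ Nm E →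
        Sp p E M₀ → D ≤ M₀ → z ∈ Ct M₀ → ¬ OZ p E ≤ M₀ → z ∈ Tv E D ⊓ Ct D := by
      intro S M₀ z hS hE hz nz s l c m
      have cD := Ct_anti l c
      have e2 : M₀ ⊔ (OZ p E ⊔ D) = E := s.eq_of le_sup_left (sup_le s.le hF) fun r =>
        m (le_sup_left.trans (le_sup_right.trans r))
      have nD : E ≤ Nm D := el.ab.trans (Tv_le_Nm _ _)
      refine ⟨e2 ▸ mem_Tv_sup (mem_Tv_of_Ct c (Ct_le_Nm _ cD)) (s3.tv hS (hF.trans hE) hz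
        (mem_Nm_sup (nm_OZ nz) (Ct_le_Nm _ cD)) (Ct_le_Nm _ cD)) (s.le.trans nD) (hF.trans nD), cD⟩
    refine ho _ y y (pMod_Tv_Ct (h.pgE.to_le lD)) hy hy' hy hy'
      (key N M y h.pg h.sp.le hy (h.sp.nm hy) sM inf_le_left hc n1)
      (key (cj a N) (cj a M) _ (isPGroup_cj a h.pg) (aE ▸ cj_mono a h.sp.le) (conj_mem_cj a hy)
        (aE ▸ conj_mem_Nm_cj a (h.sp.nm hy)) sM' inf_le_right c2 n2)
  have pD := h.pgE.to_le lD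
  have cY : OZ p E ≤ Ct E := le_Ct_comm.1 (le_Ct_OZ p E)
  have cD : OZ p E ≤ Ct D := cY.trans (Ct_anti lD)
  have f := el_phi pD
  have nY : OZ p E ≤ Nm (H9.phi D) := fun z hz => Ct_le_Nm _ (Ct_anti f.le (cD hz))
  have nD : D ≤ Nm (H9.phi D) := f.ab.trans (Tv_le_Nm _ _)
  have el2 : El p E (H9.phi D) := ⟨f.le.trans lD, by
    nth_rw 1 [e]
    refine sup_le (fun z hz => mem_Tv_of_Ct (cY hz) (nY hz)) fun d hd => ?_
    rw [e]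
    exact mem_Tv_sup (mem_Tv_of_Ct (le_Ct_comm.1 cD hd) (nD hd)) (f.ab hd) nY nD, fun z hz => by
    rw [e] at hz
    obtain ⟨a, ha, d, hd, rfl⟩ := (mem_sup_of_le_Nm (cD.trans (Ct_le_Nm _))).1 hz
    rw [Commute.mul_pow (show Commute a d from (mem_Ct'.1 (cD ha) d hd).symm), ha.2.2, one_mul]
    exact f.pw d hd⟩
  have h1 := hs E _ h.sp.le el2
  rw [Sp.two sM s1, pow_succ p 2, mul_assoc] at h1
  have h2 := ab_of_phi pD (Nat.le_of_mul_le_mul_left h1 (pow_pos hp.out.pos 2))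
  refine ⟨D, inf_le_left, e, ?_⟩
  nth_rw 1 [e]
  refine sup_le cY ?_
  rw [e, Ct_sup]
  exact le_inf (le_Ct_comm.1 cD) h2

/-- the subgroup generated by the `p`-th powers -/
def Pw (p : ℕ) (X : Subgroup Ω) : Subgroup Ω := closure ((· ^ p) '' X)

theorem nm_Pw (h : g ∈ Nm X) : g ∈ Nm (Pw p X) := mem_Nm_of_le (by
  rw [Pw, cj_closure, closure_le]
  rintro _ ⟨_, ⟨x, hx, rfl⟩, rfl⟩
  exact subset_closure ⟨_, conj_mem_of_Nm h hx, conj_pow⟩)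

theorem caseA {𝓔 : Set (Subgroup Ω)} {L : Subgroup Ω → Subgroup Ω} (F : Fam p N 𝓔 L)
    (C : Cr N 𝓔 L ⊥) (m1 : E₁ ∈ 𝓔) (m2 : E₂ ∈ 𝓔) (ne : E₁ ≠ E₂) (n1 : ¬ L E₁ ≤ Ct (OZ p N))
    (n2 : ¬ L E₂ ≤ Ct (OZ p N)) (r : ¬ OZ p E₁ ≤ E₂) : Alpha p N 𝓔 ⊥ := by
  have h1 := F.loc _ m1
  have h2 := F.loc _ m2
  obtain ⟨s1, s2, -, e⟩ := two_max h1.sp h2.sp ne
  obtain ⟨y, hy, hy'⟩ := SetLike.not_le_iff_exists.1 r
  obtain ⟨D, lD, eD, a2⟩ := core h2 F.sr s2 (h1.sp.le hy.1) hy' (Ct_anti inf_le_left hy.2.1)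
    (nY h2 n2)
  obtain ⟨z, hz, hz'⟩ := SetLike.not_le_iff_exists.1 (show ¬ OZ p E₂ ≤ E₁ from fun r =>
    s2.not_le (eD.le.trans (sup_le (le_inf r (OZ_le p _)) lD)))
  obtain ⟨-, -, -, a1⟩ := core h1 F.sr s1 (h2.sp.le hz.1) hz' (Ct_anti inf_le_right hz.2.1)
    (nY h1 n1)
  have lM : ∀ E ∈ 𝓔, N ⊓ Ct N ≤ E := fun E hE x hx =>
    (F.loc E hE).cent hx.1 (Ct_anti (F.loc E hE).sp.le hx.2)
  have eM : N ⊓ Ct N = E₁ ⊓ E₂ := le_antisymm (le_inf (lM _ m1) (lM _ m2))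
    (le_inf (inf_le_left.trans h1.sp.le) (by
      rw [e, Ct_sup]; exact inf_le_inf a1 a2))
  have cN := Sp.two h1.sp s1
  rw [← eM] at cN
  refine ⟨by rw [Tv_bot]; exact cN, ?_⟩
  obtain ⟨i, hi⟩ := card_pow h1.pg (inf_le_left : N ⊓ Ct N ≤ N)
  obtain ⟨d1, d2⟩ := der_card h1.pg (i := i) (by rw [cN, hi]; ring) hi
  have cD : N ≤ Ct ⁅N, N⁆ := le_Ct_comm.1 (d2.trans inf_le_right)
  have d3 : ⁅N, N⁆ ≤ OZ p N := le_OZ (d2.trans inf_le_left) cD fun x hx => d1.pow hx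
  have key : ∀ E ∈ 𝓔, ∃ D ≤ N ⊓ Ct N, E = OZ p E ⊔ D ∧ E ≤ Ct E := fun E hE => by
    have h := F.loc E hE
    obtain ⟨x, hx, hx'⟩ := h.sp.ex
    refine core h F.sr ⟨lM E hE, h.pgE, Nat.eq_of_mul_eq_mul_left hp.out.pos (by
      rw [← h.sp.card, cN]; ring)⟩ hx hx' (le_Ct_comm.1 inf_le_right hx) (nY h fun r => hx' ?_)
    have c : L E ≤ Ct ⁅N, N⁆ := r.trans (Ct_anti d3)
    exact h.rad (pMod_Tv_Ct d1.pg) (fun a ha => mem_Nm_inf (mem_Nm_Tv (h.nm ha)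
      (Ct_le_Nm _ (c ha))) (mem_Nm_Ct (Ct_le_Nm _ (c ha)))) hx
      ⟨tv_of_com (Ct_le_Nm _ (cD hx)) fun w hw => commutator_mem_commutator hx (h.sp.le hw), cD hx⟩
  have eP : ∀ E ∈ 𝓔, Pw p E = Pw p (N ⊓ Ct N) := fun E hE => by
    refine le_antisymm ((closure_le _).2 ?_) (closure_mono (Set.image_mono (lM E hE)))
    rintro _ ⟨x, hx, rfl⟩
    obtain ⟨D, lD, eD, -⟩ := key E hE
    have cD : OZ p E ≤ Ct D := (le_Ct_comm.1 (le_Ct_OZ p E)).trans (Ct_anti (lD.trans (lM E hE)))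
    rw [eD] at hx
    obtain ⟨a, ha, d, hd, rfl⟩ := (mem_sup_of_le_Nm (cD.trans (Ct_le_Nm _))).1 hx
    show (a * d) ^ p ∈ _
    rw [Commute.mul_pow (show Commute a d from (mem_Ct'.1 (cD ha) d hd).symm), ha.2.2, one_mul]
    exact subset_closure ⟨d, lD hd, rfl⟩
  have b := C.max (Pw p (N ⊓ Ct N)) ((closure_le _).2 (by
    rintro _ ⟨x, hx, rfl⟩; exact pow_mem hx.1 p)) fun E hE a ha =>
      eP E hE ▸ nm_Pw ((F.loc E hE).nm ha)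
  intro E hE
  obtain ⟨-, -, -, a⟩ := key E hE
  exact el_bot a fun x hx => mem_bot.1 (b (eP E hE ▸ subset_closure ⟨x, hx, rfl⟩))

theorem big (h : Loc p E N L) (n : ¬ L ≤ Ct (OZ p N)) : p < Nat.card (OZ p E) := by
  have nA : L ≤ Nm (OZ p E) := fun a ha => nm_OZ (h.nm ha)
  simpa using h.lt_of_not bot_le (OZ_le p E) nA (fun a _ => nm_bot a) fun r =>
    n (h.ct_of_nm_OZ (h.nm_of_pMod_ct (OZ_le p E) nA (Tv_bot (OZ p E) ▸ r) h.OZ_le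
      fun a ha => nm_OZ (le_Nm N ha)))

theorem caseB (hs : SR p 3 N) (h1 : Loc p E₁ N L₁) (h2 : Loc p E₂ N L₂) (ne : E₁ ≠ E₂)
    (n1 : ¬ L₁ ≤ Ct (OZ p N)) (n2 : ¬ L₂ ≤ Ct (OZ p N)) (r1 : OZ p E₁ ≤ E₂)
    (r2 : OZ p E₂ ≤ E₁) : False := by
  obtain ⟨-, -, -, e⟩ := two_max h1.sp h2.sp ne
  have lA : OZ p E₁ ⊔ OZ p E₂ ≤ E₁ := sup_le (OZ_le p _) r2
  have hA : El p (OZ p E₁ ⊔ OZ p E₂) ⊥ :=
    (el_OZ p E₁).sup (el_OZ p E₂) (le_tv_bot (r1.trans (le_Ct_OZ p E₂)))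
  have m1 : ¬ OZ p E₁ ≤ OZ p E₂ := fun r => nY h1 n1
    (e.le.trans (sup_le (le_Ct_OZ p _) ((le_Ct_OZ p _).trans (Ct_anti r))))
  have m2 : ¬ OZ p E₂ ≤ OZ p E₁ := fun r => nY h2 n2
    (e.le.trans (sup_le ((le_Ct_OZ p _).trans (Ct_anti r)) (le_Ct_OZ p _)))
  have eZ : OZ p E₁ ⊓ OZ p E₂ = OZ p N := le_antisymm (le_OZ (inf_le_left.trans
    ((OZ_le p _).trans h1.sp.le)) (e.le.trans (sup_le ((le_Ct_OZ p _).trans (Ct_anti inf_le_left))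
      ((le_Ct_OZ p _).trans (Ct_anti inf_le_right)))) fun _ hy => hy.1.2.2)
    (le_inf h1.OZ_le h2.OZ_le)
  obtain ⟨a, ha⟩ := card_pow h1.pgE lA
  obtain ⟨i, hi⟩ := card_pow h1.pgE (OZ_le p E₁)
  obtain ⟨j, hj⟩ := card_pow h2.pgE (OZ_le p E₂)
  obtain ⟨k, hk⟩ := card_pow h1.pg (OZ_le p N)
  have p1 := hp.out.one_lt
  have a3 : a ≤ 3 := (Nat.pow_le_pow_iff_right p1).1 (ha ▸ hs.el (lA.trans h1.sp.le) hA)
  have i1 : 1 < i := (Nat.pow_lt_pow_iff_right p1).1 (by rw [pow_one, ← hi]; exact big h1 n1)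
  have j1 : 1 < j := (Nat.pow_lt_pow_iff_right p1).1 (by rw [pow_one, ← hj]; exact big h2 n2)
  have i2 := pow_lt_of_lt (left_lt_sup.2 m2) hi ha
  have j2 := pow_lt_of_lt (right_lt_sup.2 m1) hj ha
  have k1 := pow_lt_of_lt (eZ ▸ inf_lt_left.2 m1) hk hi
  have k0 : k ≠ 0 := by
    rintro rfl
    refine inf_OZ_ne_bot h1.pg le_rfl (le_Nm N) (fun r => h1.sp.not_le (r ▸ bot_le)) ?_
    rw [card_eq_one.1 hk, inf_bot_eq]
  obtain rfl : a = 3 := by omega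
  obtain rfl : i = 2 := by omega
  obtain rfl : j = 2 := by omega
  obtain rfl : k = 1 := by omega
  have nZ : N ≤ Nm (OZ p N) := fun a ha => nm_OZ (le_Nm N ha)
  have t : ∀ {E L}, Loc p E N L → Nat.card (OZ p E) = p ^ 2 → N ≤ Tv (OZ p E) (OZ p N) :=
    fun h c => tv_small h.pg ((OZ_le p _).trans h.sp.le) h.OZ_le
      (fun a ha => nm_OZ (h.sp.nm ha)) nZ (by rw [c, hk]; exact le_of_eq (by ring))
  refine n1 (h1.ct_of_nm_OZ (h1.trick hs (sp_bot (h1.pg.to_le (OZ_le p N)) (by simpa using hk)) hA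
    lA ha (fun g hg => mem_Tv_sup (t h1 hi (h1.sp.le hg)) (t h2 hj (h1.sp.le hg))
      (((OZ_le p _).trans h1.sp.le).trans nZ) (((OZ_le p _).trans h2.sp.le).trans nZ)) fun r => ?_))
  exact nY h2 n2 (e.le.trans (sup_le (r.trans (Ct_anti le_sup_right)) (le_Ct_OZ p _)))

theorem jobR1 : JobR1.{u} := by
  intro Ω _ _ p _ N 𝓔 L F C E₁ m1 E₂ m2 ne n1 n2
  by_cases r1 : OZ p E₁ ≤ E₂
  · by_cases r2 : OZ p E₂ ≤ E₁
    · exact (caseB F.sr (F.loc _ m1) (F.loc _ m2) ne n1 n2 r1 r2).elim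
    · exact caseA F C m2 m1 ne.symm n2 n1 r2
  · exact caseA F C m1 m2 ne n1 n2 r1

end H29.F3
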