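/- FE (S1308), slot Min. -/
import Cfsg.Agent.H14.FESpec

set_option autoImplicit false

open Cfsg Subgroup MulAction H14 H98 H1.Gold H31.S2 H14.GC H14.FE

namespace H29.FEM

universe u
variable {G : Type u} [Group G] {A I H B : Subgroup G} {C D D' : Set (Subgroup G)} {β : Subgroup G → Prop}
  {g : G}

/-- The conjugate of a set of subgroups. -/
def im (g : G) (C : Set (Subgroup G)) : Set (Subgroup G) := {B | cj g⁻¹ B ∈ C}

theorem im_one : im (1 : G) C = C := Set.ext fun B => by simp [im]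

theorem im_im (g h : G) : im g (im h C) = im (g * h) C := Set.ext fun B => by
  simp only [im, Set.mem_ofPred_eq, cj_cj, mul_inv_rev]

theorem cj_mem (h : B ∈ C) : cj g B ∈ im g C := by rwa [im, Set.mem_ofPred_eq, cj_inv_cj]

/-- The stabiliser of a set of subgroups. -/
def St (C : Set (Subgroup G)) : Subgroup G where
  carrier := {g | im g C = C}
  one_mem' := im_one
  mul_mem' := fun {a b} (ha : im a C = C) (hb : im b C = C) => show im (a * b) C = C by rw [← im_im, hb, ha]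
  inv_mem' := fun {a} (ha : im a C = C) => show im a⁻¹ C = C by
    conv_lhs => rw [← ha, im_im, inv_mul_cancel, im_one]

theorem mem_St (h : ∀ B ∈ C, g ∈ nor B) : g ∈ St C := Set.ext fun B =>
  ⟨fun k => by
    have e := cj_eq_self (h _ k)
    rw [cj_cj_inv] at e
    exact e ▸ k, fun k => show cj g⁻¹ B ∈ C by rwa [cj_eq_self (inv_mem (h B k))]⟩

theorem St_cj (h : g ∈ St C) (k : B ∈ C) : cj g B ∈ C := (show im g C = C from h) ▸ cj_mem k

theorem vx_cj (g : G) (h : Vx A B) : Vx A (cj g B) := let ⟨k, e⟩ := h; ⟨g * k, by rw [e, cj_cj]⟩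

theorem nor_cj {B' : Subgroup G} : cj g B ≤ nor (cj g B') ↔ B ≤ nor B' := by
  rw [nor, ← cj_normalizer, cj_le_cj_iff]

theorem mclq_im (g : G) (h : MClq A C) : MClq A (im g C) :=
  ⟨⟨fun B k => cj_cj_inv g B ▸ vx_cj g (h.1.1 _ k), fun _ k _ k' => nor_cj.1 (h.1.2 _ k _ k')⟩,
    fun B v k => h.2 _ (vx_cj _ v) fun B' k' => by
      rw [← cj_inv_cj g B']; exact nor_cj.2 (k _ (cj_mem k'))⟩

theorem big_mono {H' : Subgroup G} (h : Big β H) (le : H ≤ H') : Big β H' :=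
  let ⟨U, a, b⟩ := h; ⟨U, a.trans le, b⟩

theorem big_cj (t : Bt β) (g : G) (h : Big β H) : Big β (cj g H) :=
  let ⟨U, a, b, c⟩ := h; ⟨_, cj_mono g a, isPGroup_cj g b, t.cj U g c⟩

/-- `I` is minimal for the maximal clique `D`. -/
structure Mi (A : Subgroup G) (β : Subgroup G → Prop) (I : Subgroup G) (D : Set (Subgroup G)) : Prop where
  cl : MClq A D
  big : ∀ B ∈ D, Big β (I ⊓ B)
  mv : ¬ I ≤ St D
  min : ∀ H ≤ I, (∀ B ∈ D, Big β (H ⊓ B)) → H = I ∨ H ≤ St D

theorem st_im (h : cj g⁻¹ H ≤ St C) : H ≤ St (im g C) := fun x hx => show im x (im g C) = im g C by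
  have e : im (g⁻¹ * x * g⁻¹⁻¹) C = C := h (conj_mem_cj hx)
  conv_rhs => rw [← e]
  rw [im_im, im_im]; congr 1; group

theorem Mi.im (t : Bt β) (m : Mi A β I D) (hg : g ∈ I) : Mi A β I (im g D) where
  cl := mclq_im g m.cl
  big := fun B k => by
    have := big_cj t g (m.big _ k)
    rwa [cj_inf, cj_cj_inv, cj_eq_self_of_mem hg] at this
  mv := fun h => m.mv (by
    have := st_im (g := g⁻¹) (H := I) (C := FEM.im g D) (by rwa [inv_inv, cj_eq_self_of_mem hg])
    rwa [im_im, inv_mul_cancel, im_one] at this)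
  min := fun H le k => by
    refine (m.min (cj g⁻¹ H) (cj_le_of_le_of_mem le (inv_mem hg)) fun B h => ?_).imp (fun e => ?_) st_im
    · have := big_cj t g⁻¹ (k _ (cj_mem h))
      rwa [cj_inf, cj_inv_cj] at this
    · rw [← cj_cj_inv g H, e, cj_eq_self_of_mem hg]

theorem Mi.uniq (t : Bt β) (x : MX A) (m : Mi A β I D) (m' : Mi A β I D') (h : B ∈ D) (h' : B ∈ D')
    (n : ¬ I ≤ nor B) : D = D' := by
  have le := (m.min (I ⊓ nor B) inf_le_left fun B' k => big_mono (m.big B' k)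
    (le_inf (inf_le_inf_left _ (m.cl.1.2 _ k _ h)) inf_le_right)).resolve_left fun e => n (inf_eq_left.1 e)
  have sub : D' ⊆ D := fun B' k => by
    obtain ⟨U, a, -, c⟩ := m'.big B' k
    obtain ⟨d, d1, -, -, d2, -⟩ := t.four U c
    exact x D m.cl B' (m'.cl.1.1 _ k) d (a d1).2 d2 fun _ =>
      St_cj (le ⟨(a d1).1, m'.cl.1.2 _ k _ h' (a d1).2⟩)
  exact Set.Subset.antisymm (fun B' k => m'.cl.2 _ (m.cl.1.1 _ k) fun _ k' => m.cl.1.2 _ k _ (sub k')) sub

theorem ex_mi [Finite G] [IsSimpleGroup G] (n : A ≠ ⊤) (c : MC A) (t : Bt β) (b : Big β A) (h : MClq A C) :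
    ∃ I, Mi A β I C := by
  have top : ¬ ⊤ ≤ St C := fun le => by
    obtain ⟨B, hB⟩ : ∃ B, B ∈ C := by_contra fun e =>
      e ⟨A, h.2 A ⟨1, (cj_one A).symm⟩ fun B' k => (e ⟨B', k⟩).elim⟩
    obtain ⟨s, s1, -, -, s2, -⟩ := c.four B (h.1.1 B hB)
    have nb : ∀ Y : Subgroup G, B ≤ Y → Y.Normal → Y = ⊤ := fun Y k hY =>
      hY.eq_bot_or_eq_top.resolve_left fun e => s2.1 (mem_bot.1 (e ▸ k s1))
    have e := nb (sSup C) (le_sSup hB) (normal_of_top_le_normalizer fun g _ => mem_normalizer_of_cj_le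
      (cj_le_iff.2 (sSup_le fun B' k => cj_le_iff.1 (le_sSup (St_cj (le (mem_top g)) k)))))
    have e' := nb B le_rfl (normal_of_top_le_normalizer (e ▸ sSup_le fun B' k => h.1.2 _ k _ hB))
    obtain ⟨g, rfl⟩ := h.1.1 B hB
    exact n (by rw [← cj_inv_cj g A, e', cj_top])
  obtain ⟨I, -, hI⟩ := Finite.exists_le_minimal
    (p := fun I : Subgroup G => (∀ B ∈ C, Big β (I ⊓ B)) ∧ ¬ I ≤ St C) (a := ⊤) ⟨fun B k => by
      obtain ⟨g, rfl⟩ := h.1.1 B k
      rw [top_inf_eq]; exact big_cj t g b, top⟩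
  exact ⟨I, h, hI.1.1, hI.1.2, fun H le k => or_iff_not_imp_right.2 fun e => le_antisymm le (hI.2 ⟨k, e⟩ le)⟩

/-- The points. -/
def Om (I : Subgroup G) (C : Set (Subgroup G)) : Type u := {D : Set (Subgroup G) // ∃ x ∈ I, D = im x C}

instance : MulAction I (Om I C) where
  smul x D := ⟨im x D.1, let ⟨y, a, e⟩ := D.2; ⟨x * y, mul_mem x.2 a, by rw [e, im_im]⟩⟩
  one_smul _ := Subtype.ext im_one
  mul_smul x y _ := Subtype.ext (im_im x.1 y.1).symm

theorem le_nor_cj (hg : g ∈ I) (h : I ≤ nor (cj g B)) : I ≤ nor B := by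
  rwa [nor, ← cj_normalizer, le_cj_iff, cj_eq_self_of_mem (inv_mem hg)] at h

/-- The moved vertices. -/
def Jx (I : Subgroup G) (C : Set (Subgroup G)) : Type u :=
  {p : Subgroup G × Om I C // p.1 ∈ p.2.1 ∧ ¬ I ≤ nor p.1}

instance : MulAction I (Jx I C) where
  smul x p := ⟨(cj x p.1.1, x • p.1.2), cj_mem p.2.1, fun h => p.2.2 (le_nor_cj x.2 h)⟩
  one_smul _ := Subtype.ext (Prod.ext (cj_one _) (one_smul _ _))
  mul_smul x y _ := Subtype.ext (Prod.ext (cj_cj x.1 y.1 _).symm (mul_smul _ _ _))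

theorem Mi.pt (t : Bt β) (m : Mi A β I C) (D : Om I C) : Mi A β I D.1 :=
  let ⟨_, a, e⟩ := D.2; e ▸ m.im t a

theorem trans (a b : Om I C) : ∃ g : I, g • a = b := by
  obtain ⟨_, x, hx, rfl⟩ := a
  obtain ⟨_, y, hy, rfl⟩ := b
  exact ⟨⟨y * x⁻¹, mul_mem hy (inv_mem hx)⟩, Subtype.ext (show im (y * x⁻¹) (im x C) = im y C by
    rw [im_im, inv_mul_cancel_right])⟩

theorem le_St (t : Bt β) (m : Mi A β I C) (a b : Om I C) (h : B ∈ a.1) (k : I ≤ nor B) : B ≤ St b.1 := by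
  obtain ⟨g, rfl⟩ := trans a b
  exact fun x hx => mem_St fun B' k' => (m.pt t (g • a)).cl.1.2 B
    (cj_eq_self (k g.2) ▸ cj_mem (g := g.1) h) B' k' hx

theorem big_up {H : Subgroup I} (h : Big (fun U => β (U.map I.subtype)) (H ⊓ B.subgroupOf I)) :
    Big β (H.map I.subtype ⊓ B) :=
  let ⟨_, a, b, c⟩ := h
  ⟨_, le_inf (map_mono (a.trans inf_le_left)) (map_le_iff_le_comap.2 (a.trans inf_le_right)), b.map _, c⟩

theorem bt_down (t : Bt β) : Bt fun U : Subgroup I => β (U.map I.subtype) where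
  cj := fun U g h => by rw [map_cj]; exact t.cj _ _ h
  ne := fun U h e => t.ne _ h (by
    rintro _ ⟨a, k, rfl⟩
    exact congrArg Subtype.val (e a k))
  four := fun U h => by
    obtain ⟨_, ⟨s, s1, rfl⟩, _, ⟨r, r1, rfl⟩, a, b, c, d⟩ := t.four _ h
    exact ⟨s, s1, r, r1, ⟨fun e => a.1 (congrArg Subtype.val e), Subtype.ext a.2⟩,
      ⟨fun e => b.1 (congrArg Subtype.val e), Subtype.ext b.2⟩, fun e => c (congrArg Subtype.val e),
      Subtype.ext d⟩

theorem pg (c : MC A) (t : Bt β) (x : MX A) (m : Mi A β I C) :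
    PG (fun j : Jx I C => j.1.2) (fun j => j.1.1.subgroupOf I) fun U => β (U.map I.subtype) where
  pt_smul := fun _ _ => rfl
  B_smul := fun g j => Subgroup.ext fun y => by
    rw [mem_cj]; exact mem_cj (g := g.1) (x := y.1)
  trans := trans
  two := by
    obtain ⟨g, a, b⟩ := SetLike.not_le_iff_exists.1 m.mv
    exact ⟨⟨_, g, a, rfl⟩, ⟨C, 1, one_mem I, im_one.symm⟩, fun e => b (congrArg Subtype.val e)⟩
  surj := fun a => by_contra fun n => (m.pt t a).mv fun g hg => mem_St fun B k =>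
    (by_contra fun e => n ⟨⟨(B, a), k, e⟩, rfl⟩ : I ≤ nor B) hg
  ti := fun i j n d hd k => c.ti _ _ ((m.pt t _).cl.1.1 _ i.2.1) ((m.pt t _).cl.1.1 _ j.2.1)
    (fun e => n (Subtype.ext (Prod.ext e (Subtype.ext
      ((m.pt t _).uniq t x (m.pt t _) i.2.1 (e ▸ j.2.1) i.2.2))))) d hd
    ⟨fun e => k.1 (Subtype.ext e), congrArg Subtype.val k.2⟩
  mn := fun i j e b hb => by
    have k : ∀ B ∈ j.1.2.1, b.1 ∈ nor B := fun B h =>
      (m.pt t _).cl.1.2 _ ((show i.1.2 = j.1.2 from e) ▸ i.2.1) B h hb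
    exact Subtype.ext (Prod.ext (cj_eq_self (k _ j.2.1)) (Subtype.ext (mem_St k)))
  fix := fun j d hd k a e => Subtype.ext ((m.pt t _).uniq t x (m.pt t _)
    (x _ (m.pt t a).cl _ ((m.pt t _).cl.1.1 _ j.2.1) d hd
      ⟨fun e => k.1 (Subtype.ext e), congrArg Subtype.val k.2⟩ fun _ => St_cj (congrArg Subtype.val e))
    j.2.1 j.2.2)
  bt := bt_down t
  big := fun j => by
    obtain ⟨U, a, b, c⟩ := (m.pt t _).big _ j.2.1
    exact ⟨U.subgroupOf I, comap_mono (a.trans inf_le_right), b.comap_subtype,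
      by simpa only [map_subgroupOf_eq_of_le (a.trans inf_le_left)] using c⟩
  home := fun H a le h => by
    refine ((m.pt t a).min (H.map I.subtype) (map_subtype_le H) fun B k => ?_).imp (fun e => ?_)
      fun e g hg => Subtype.ext (e (mem_map_of_mem _ hg))
    · by_cases n : I ≤ nor B
      · refine big_mono ((m.pt t a).big B k) (le_inf (fun g hg => ⟨⟨g, hg.1⟩, le ?_, rfl⟩) inf_le_right)
        exact Equiv.ext fun b => Subtype.ext (le_St t m a b k n hg.2)
      · exact big_up (h ⟨(B, a), k, n⟩ rfl)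
    · exact map_injective (subtype_injective I) (by rw [e, ← MonoidHom.range_eq_map, range_subtype])

theorem jobMin : JobMin.{u} := by
  intro hX G _ _ A s n c β t b C h
  obtain ⟨I, m⟩ := ex_mi n c t b h
  have f : Finite (Om I C) := Subtype.finite
  let a : Om I C := ⟨C, 1, one_mem I, im_one.symm⟩
  refine ⟨I, Jx I C, Om I C, Subtype.finite, f, inferInstance, inferInstance, _, fun j => j.1.1, a,
    ⨅ b : Om I C, St b.1, pg c t (hX G A c) m, fun j => (m.pt t _).cl.1.1 _ j.2.1,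
    fun j e => (congrArg Subtype.val e : j.1.2.1 = C).subset j.2.1, fun B k => ?_,
    fun y hy b => Subtype.ext (mem_iInf.1 hy b)⟩
  by_cases e : I ≤ nor B
  · exact .inr (le_iInf fun b => le_St t m a b k e)
  · exact .inl ⟨⟨(B, a), k, e⟩, rfl, rfl⟩

end H29.FEM
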