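/- FE (S1308), slot NAB. -/
import Cfsg.Agent.H14.FESpec
import Cfsg.Agent.S2775
import Cfsg.Agent.H2.PrimeCore

set_option autoImplicit false

open Cfsg Subgroup H14 H98 H1.Gold H14.FE

namespace H29.FEN

universe u
variable {X : Type u} [Group X] [Finite X] {M T : Subgroup X}

omit [Finite X] in
theorem se (h : IsStronglyEmbedded M) (hT : IsPGroup 2 T) {u g : X} (hu : u ∈ T) (n : u ≠ 1) (a : u ∈ M)
    (b : g * u * g⁻¹ ∈ M) : g ∈ M := by
  by_contra k
  obtain ⟨j, hj⟩ := IsPGroup.iff_orderOf.1 hT ⟨u, hu⟩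
  have h1 : orderOf (g * u * g⁻¹) ∣ _ := orderOf_dvd_natCard (M ⊓ cj g M) ⟨b, conj_mem_cj a⟩
  rw [show g * u * g⁻¹ = MulAut.conj g u from rfl, MulEquiv.orderOf_eq, ← orderOf_mk u hu, hj] at h1
  exact n (congrArg Subtype.val (orderOf_eq_one_iff.1 (hj.trans
    (((Nat.coprime_two_left.2 (h.2.2 g k)).pow_left j).eq_one_of_dvd h1))))

theorem jobNAB : JobNAB.{u} := by
  intro X _ _ M h o U le hU ab nm
  rcases eq_or_ne U ⊥ with rfl | n
  · intro a ha; rw [mem_bot.1 ha, mul_one]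
  obtain ⟨⟨u, hu⟩, u1⟩ := ne_bot_iff_exists_ne_one.1 n
  replace u1 : u ≠ 1 := fun e => u1 (Subtype.ext e)
  obtain ⟨T, UT⟩ := hU.exists_le_sylow
  have TM : (T : Subgroup X) ≤ M := fun t ht => by
    have : Nontrivial T := ⟨⟨⟨u, UT hu⟩, 1, fun e => u1 (congrArg Subtype.val e)⟩⟩
    obtain ⟨⟨z, hz⟩, z1⟩ := ne_bot_iff_exists_ne_one.1 T.isPGroup'.bot_lt_center.ne'
    have c : ∀ x ∈ (T : Subgroup X), x * z = z * x := fun x hx =>
      congrArg Subtype.val (mem_center_iff.1 hz ⟨x, hx⟩)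
    have zM : z.1 ∈ M := se h hU hu u1 (le hu) (by rw [← c u (UT hu), mul_inv_cancel_right]; exact le hu)
    exact se h T.isPGroup' z.2 (fun e => z1 (Subtype.ext (Subtype.ext e))) zM
      (by rw [c t ht, mul_inv_cancel_right]; exact zM)
  have h1 : pPrimeCore 2 (normalClosure (U : Set X)) = ⊥ := by
    have := H2.pPrimeCore_characteristic 2 (normalClosure (U : Set X))
    rw [← map_eq_bot_iff_of_injective _ (subtype_injective (normalClosure (U : Set X)))]
    exact H2.pPrimeCore_eq_bot_iff.1 o _ inferInstance (H2.coprime_card_map_pPrimeCore_subtype _)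
  have h2 : pCore 2 (normalClosure (U : Set X)) = ⊥ := by
    refine pCoreOf_eq_bot_iff.1 (le_bot_iff.1 ((pCoreOf_le_pCoreOf_of_normal le_top
      le_normalizer_of_normal).trans (pCoreOf_top.trans ?_).le))
    refine eq_bot_iff.2 fun y hy => by_contra fun y1 => h.1 (eq_top_iff.2 fun g _ => ?_)
    have k : pCore 2 X ≤ T := (H98.isPGroup_pCore 2 X).le_sylow_of_normal T
    exact se h T.isPGroup' (k hy) y1 (TM (k hy)) (TM (k (Normal.conj_mem inferInstance y hy g)))
  obtain ⟨-, -, ⟨S, -, r⟩, -⟩ := Cfsg.Agent.S2775.result T U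
    ⟨⟨fun a b => Subtype.ext (ab a a.2 b b.2)⟩⟩ ⟨UT, fun x hx g hg => by
      by_cases x1 : x = 1
      · simp [x1]
      exact conj_mem_of_mem_normalizer (nm (se h hU hx x1 (le hx) (TM hg))) hx⟩
    _ rfl _ (MonoidHom.id _) Function.surjective_id (by rw [h1, MonoidHom.ker_id])
  rw [h2, bot_sup_eq, map_id] at r
  intro a ha
  have key : ∀ x ∈ omegaOne 2 (S : Subgroup (normalClosure (U : Set X))), (x : X) * x = 1 := fun x hx => by
    induction hx using closure_induction with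
    | mem x hx => exact (pow_two (x : X)).symm.trans (congrArg Subtype.val hx.2)
    | one => simp
    | mul x y hx hy a b =>
      have := ab x (r.ge hx) y (r.ge hy)
      rw [coe_mul, mul_assoc, ← mul_assoc (y : X), ← this, mul_assoc, b, mul_one, a]
    | inv x _ a => rw [coe_inv, ← mul_inv_rev, a, inv_one]
  exact key ⟨a, le_normalClosure ha⟩ (r.le ha)

end H29.FEN
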