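import Cfsg.Agent.H98.FlSpec
import Cfsg.Agent.H98.Sylow
import Cfsg.Agent.H7.ALMod
import Cfsg.Agent.H7.Stable
import Cfsg.Agent.H16.KCrit
import Cfsg.Agent.H49.ElemAbRep
import Cfsg.Agent.H1.Cocycle
import Cfsg.Agent.H10.CharP

/-! Coprime operator groups inside a group of characteristic `p`; chief factors as linear modules. -/

set_option autoImplicit false
set_option linter.unusedSectionVars false

namespace H29.Fl

open _root_.Cfsg Subgroup
open H98 hiding stab
open scoped commutatorElement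

universe u

variable {p : ℕ} [hp : Fact p.Prime]

theorem le_of_index {Γ : Type*} [Group Γ] [Finite Γ] {G Q : Subgroup Γ} [G.Normal] (h : ¬ p ∣ G.index)
    (hQ : IsPGroup p Q) : Q ≤ G := fun x hx => by
  obtain ⟨k, hk⟩ := isPGroup_iff_forall.1 hQ x hx
  rw [← QuotientGroup.eq_one_iff, ← orderOf_eq_one_iff]
  exact Nat.eq_one_of_dvd_coprimes (Nat.Coprime.pow_left k ((Nat.Prime.coprime_iff_not_dvd hp.out).2 h))
    (orderOf_dvd_of_pow_eq_one (by rw [← QuotientGroup.mk_pow, hk, QuotientGroup.mk_one])) (orderOf_dvd_natCard _)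

theorem charP_of {Γ : Type*} [Group Γ] [Finite Γ] {G : Subgroup Γ} [G.Normal] (h : ¬ p ∣ G.index)
    (hO : pPrimeCore p Γ = ⊥) (hc : IsPConstrained p G) : H10.IsCharP p Γ := by
  have h1 : H10.IsCharP p G := (H10.isPConstrained_iff_isCharP (by
    have := H2.map_pPrimeCore_subtype_le (p := p) G
    rwa [hO, le_bot_iff, map_eq_bot_iff_of_injective _ G.subtype_injective] at this)).1 hc
  refine H10.isCharP_of_forall fun x hx hco => ?_
  have h2 : x ∈ centralizer (G : Set Γ) := H16.mem_Ce_of_selfCent (H2.isPGroup_map_pCore_subtype G)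
    le_normalizer_of_normal ((H10.isCharP_subgroup_iff G).1 h1) hco (le_normalizer_of_normal (mem_top x))
    (centralizer_anti (H2.map_pCore_subtype_le G) hx)
  obtain ⟨P⟩ : Nonempty (Sylow p (centralizer (G : Set Γ))) := inferInstance
  have h3 : normalizer ((P : Subgroup (centralizer (G : Set Γ))) : Set (centralizer (G : Set Γ))) ≤
      centralizer ((P : Subgroup (centralizer (G : Set Γ))) : Set (centralizer (G : Set Γ))) := fun c _ y hy =>
    Subtype.ext (mem_centralizer_iff.1 c.2 y (le_of_index h (P.2.map (Subgroup.subtype _)) (mem_map_of_mem _ hy)))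
  have h4 := (map_mono (H2.le_pPrimeCore_of_not_dvd (MonoidHom.not_dvd_card_ker_transferSylow P h3))).trans
    (H2.map_pPrimeCore_subtype_le (p := p) (centralizer (G : Set Γ)))
  rw [hO, le_bot_iff, map_eq_bot_iff_of_injective _ (Subgroup.subtype_injective _)] at h4
  have h5 := MonoidHom.ker_transferSylow_isComplement' P h3
  rw [h4, isComplement'_bot_left] at h5
  exact H10.eq_one_of_mem_isPGroup_of_coprime (P.2.map (Subgroup.subtype _))
    (mem_map_of_mem _ (x := ⟨x, h2⟩) (h5 ▸ mem_top _)) hco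

variable {G : Type u} [Group G] [Finite G] {A : Type u} [Group A] [Finite A] (φ : A →* MulAut G)

theorem amb (hc : IsPConstrained p G) (hA : ¬ p ∣ Nat.card A) :
    ∃ (Γ : Type u) (_ : Group Γ) (_ : Finite Γ) (g : G →* Γ) (j : A →* Γ), (Nat.card g.ker).Coprime p ∧
      g.range.Normal ∧ (∀ a x, j a * g x * (j a)⁻¹ = g (φ a x)) ∧ ¬ p ∣ g.range.index ∧ H10.IsCharP p Γ := by
  have : Finite (G ⋊[φ] A) := Finite.of_equiv _ SemidirectProduct.equivProd.symm
  set f := QuotientGroup.mk' (pPrimeCore p (G ⋊[φ] A))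
  have hf := QuotientGroup.mk'_surjective (pPrimeCore p (G ⋊[φ] A))
  have hn : (SemidirectProduct.inl : G →* G ⋊[φ] A).range.Normal := by
    rw [SemidirectProduct.range_inl_eq_ker_rightHom]; infer_instance
  have hk : (Nat.card (f.comp SemidirectProduct.inl).ker).Coprime p := by
    refine Nat.Coprime.coprime_dvd_left ?_ (H10.coprime_card_ker_mk'_pPrimeCore p (G ⋊[φ] A))
    rw [← MonoidHom.comap_ker]
    exact card_comap_dvd_of_injective _ _ SemidirectProduct.inl_injective
  have hn' : (f.comp SemidirectProduct.inl).range.Normal := by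
    rw [MonoidHom.range_comp]; exact hn.map f hf
  have hi : ¬ p ∣ (f.comp SemidirectProduct.inl).range.index := fun h => hA (by
    rw [MonoidHom.range_comp] at h
    have := h.trans (index_map_dvd _ hf)
    rwa [SemidirectProduct.range_inl_eq_ker_rightHom, index_ker,
      MonoidHom.range_eq_top.2 SemidirectProduct.rightHom_surjective, card_top] at this)
  refine ⟨_, inferInstance, inferInstance, f.comp SemidirectProduct.inl, f.comp SemidirectProduct.inr, hk, hn',
    fun a x => ?_, hi, charP_of hi (H2.pPrimeCore_quotient_pPrimeCore p _) ?_⟩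
  · simp only [MonoidHom.comp_apply]
    rw [SemidirectProduct.inl_aut, map_mul, map_mul, map_inv, map_inv]
  · exact (H10.isPConstrained_iff_of_coprime_ker _ (MonoidHom.rangeRestrict_surjective _)
      (by rwa [MonoidHom.ker_rangeRestrict])).1 hc

theorem fix_lift {Y : Type*} [Group Y] {g : G →* Y} {j : A →* Y} (h : ∀ a x, j a * g x * (j a)⁻¹ = g (φ a x))
    (cop : (Nat.card A).Coprime (Nat.card G)) (hs : Group.IsSolvable A ∨ Group.IsSolvable G) {y : Y}
    (hy : y ∈ g.range ⊓ centralizer (j.range : Set Y)) : ∃ x, (∀ a, φ a x = x) ∧ g x = y := by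
  obtain ⟨⟨k, rfl⟩, hk⟩ := hy
  obtain ⟨n, hn, e⟩ := H1.exists_fixed_mem_coset φ g.ker (fun a x hx => by
    rw [MonoidHom.mem_ker, ← h, hx, mul_one, mul_inv_cancel]) (cop.coprime_dvd_right (card_subgroup_dvd_card _))
    (hs.imp_right fun h => by haveI := h; infer_instance) k fun a => by
      rw [MonoidHom.mem_ker, map_mul, ← h, hk _ ⟨a, rfl⟩, map_inv]; group
  exact ⟨_, e, by rw [map_mul, hn, mul_one]⟩

/-- A chief factor as a linear module. -/
theorem lin {Γ : Type u} [Group Γ] [Finite Γ] {U V : Subgroup Γ} (h : IsChiefFactor U V) (hU : IsPGroup p U) :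
    ∃ (W : Type u) (_ : AddCommGroup W) (_ : Module (ZMod p) W) (_ : Finite W)
      (π : Γ →* LinearMap.GeneralLinearGroup (ZMod p) W),
      (∀ N : Subgroup Γ, N.Normal → ∀ Q ≤ N.map π, N.map π ≤ normalizer (Q : Set _) → IsPGroup p Q → Q = ⊥) ∧
      (∀ x, π x = 1 ↔ ⁅U, zpowers x⁆ ≤ V) ∧ ∀ x, ⁅⁅U, zpowers x⁆, zpowers x⁆ ≤ V →
        ((π x : Module.End (ZMod p) W) - 1) * ((π x : Module.End (ZMod p) W) - 1) = 0 := by
  obtain ⟨E, _, _, ρ, c1, -, -, c4, c5⟩ := H7.AL.exists_mod_of_chief hp.out h hU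
  have e : H49.IsEA p E := ⟨mul_comm, c1⟩
  have k : ∀ x, (e.rep ρ).toHomUnits x = 1 ↔ ⁅U, zpowers x⁆ ≤ V := fun x => by
    rw [← c4, ← e.rep_eq_one_iff, Units.ext_iff]; rfl
  refine ⟨e.V, inferInstance, inferInstance, inferInstance, (e.rep ρ).toHomUnits, fun N n Q h1 h2 h3 => ?_, k,
    fun x hx => LinearMap.ext fun v => ?_⟩
  · set π := (e.rep ρ).toHomUnits
    haveI : Finite (N.map π) := Finite.of_surjective _ (π.subgroupMap_surjective N)
    haveI : (((pCore p (N.map π)).map (N.map π).subtype).comap π).Normal := ⟨fun x hx y => by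
      rw [mem_comap, map_mul, map_mul, map_inv]
      exact conj_mem_of_mem_normalizer (normalizer_le_normalizer_map_subtype _ (map_le_normalizer_map π
        (le_normalizer_of_normal (K := ⊤) (H := N)) (mem_map_of_mem π (mem_top y)))) hx⟩
    have h4 := H16.chief_comm_le_of_coprime (D := ((pCore p (N.map π)).map (N.map π).subtype).comap π) h hU
      fun x hx hc => (k x).1 (H10.eq_one_of_mem_isPGroup_of_coprime ((H2.pCore_isPGroup p _).map _) hx
        (Nat.Coprime.coprime_dvd_left (orderOf_map_dvd π x) hc))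
    refine eq_bot_iff.2 fun q hq => ?_
    obtain ⟨x, hx, rfl⟩ := h1 hq
    haveI := (normal_subgroupOf_iff_le_normalizer h1).2 h2
    refine (k x).2 (le_trans (commutator_mono le_rfl (zpowers_le.2 ?_)) h4)
    exact ⟨⟨π x, h1 hq⟩, H2.le_pCore (isPGroup_subgroupOf h3 _) hq, rfl⟩
  · obtain ⟨w, rfl⟩ := e.of.surjective v
    change (e.rep ρ x - 1) ((e.rep ρ x - 1) (e.of w)) = 0
    rw [e.rep_sub_one_of, e.rep_sub_one_of, c5 x hx, mul_inv_cancel, e.of_one]

end H29.Fl
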