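import Cfsg.Agent.H29.FlavA
import Cfsg.Agent.H1.InvSylow
import Cfsg.Agent.H14.FStar
import Cfsg.Agent.H13.ZJ2
import Cfsg.Agent.H13.ZJ3
import Cfsg.Agent.H94.Involves
import Cfsg.Agent.H55.Basic
import Cfsg.Agent.H42.OddOrder

/-! The rows S1930 and S3260 from the linear theorems `H98.Fl.LB`, `H98.Fl.M1`. -/

set_option autoImplicit false
set_option linter.unusedSectionVars false

namespace H29.Fl

open _root_.Cfsg Subgroup
open H98 hiding stab
open scoped commutatorElement

universe u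

variable {p : ℕ} [hp : Fact p.Prime] {G : Type u} [Group G] [Finite G] {A : Type u} [Group A] [Finite A]
  (φ : A →* MulAut G)

theorem nrm_map {Y : Type*} [Group Y] {g : G →* Y} {j : A →* Y} (h : ∀ a x, j a * g x * (j a)⁻¹ = g (φ a x))
    {P : Subgroup G} (hP : ∀ a, ∀ x ∈ P, φ a x ∈ P) : j.range ≤ normalizer (P.map g : Set Y) :=
  H1.le_normalizer_of_conj_mem (by
    rintro _ ⟨a, rfl⟩ _ ⟨x, hx, rfl⟩
    exact ⟨_, hP a x hx, (h a x).symm⟩)

theorem comp_rel {Y Z : Type*} [Group Y] [Group Z] {g : G →* Y} {j : A →* Y}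
    (h : ∀ a x, j a * g x * (j a)⁻¹ = g (φ a x)) (π : Y →* Z) (a : A) (x : G) :
    π.comp j a * π.comp g x * (π.comp j a)⁻¹ = π.comp g (φ a x) := by
  simp only [MonoidHom.comp_apply]
  rw [← h, map_mul, map_mul, map_inv]

theorem core1930 (h : H98.Fl.LB.{u} p) (hc : H10.IsCharP p G) (cop : (Nat.card A).Coprime (Nat.card G))
    (hA : ¬ p ∣ Nat.card A) (hs : Group.IsSolvable A) {P : Subgroup G} (hP : IsPGroup p P) (hO : pCore p G ≤ P)
    (invA : ∀ a, ∀ x ∈ P, φ a x ∈ P) (invC : ∀ c, (∀ a, φ a c = c) → c ∈ normalizer (P : Set G)) :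
    (H16.kL P).Normal := by
  obtain ⟨Γ, _, _, g, j, hk, hn, rel, hi, hΓ⟩ := amb φ hc.isPConstrained hA
  have gi : Function.Injective g := g.ker_eq_bot_iff.1 (le_bot_iff.1 (hc.pPrimeCore_eq_bot ▸ H2.le_pPrimeCore hk))
  by_contra n
  obtain ⟨_, ⟨y, hy, rfl⟩, -, -, -, k⟩ := H16.kInf_not_normal (hP.map g) (fun x hx => by
    obtain ⟨y, rfl⟩ := le_of_index hi (H2.pCore_isPGroup p Γ) hx
    exact mem_map_of_mem g (hO (H2.le_pCore ((H2.pCore_isPGroup p Γ).comap_of_injective g gi) hx)))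
    (.inl fun e => n (by rw [← H16.map_kL gi] at e; exact e.of_map_injective gi))
  obtain ⟨U, V, b1, b2, b3, b4⟩ := k hΓ
  obtain ⟨W, _, _, _, π, c1, c2, c3⟩ := lin b1 ((H2.pCore_isPGroup p Γ).to_le b2)
  have rel' := comp_rel φ rel π
  obtain ⟨Q, q1, q2, q3, q4⟩ := h W (π.comp g).range (π.comp j).range (P.map (π.comp g))
    ⟨(cop.coprime_dvd_left (card_range_dvd _)).coprime_dvd_right (card_range_dvd _),
      Group.isSolvable_of_surjective (MonoidHom.rangeRestrict_surjective _),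
      by rw [MonoidHom.range_eq_map (π.comp g)]; exact nrm_map φ rel' fun _ _ _ => trivial,
      map_le_range _ _, hP.map _, nrm_map φ rel' invA, fun z hz => by
        obtain ⟨x, hx, rfl⟩ := fix_lift φ rel' cop (.inl hs) hz
        exact le_normalizer_map _ (mem_map_of_mem _ (invC x hx))⟩ _ (mem_map_of_mem _ hy) (c3 _ b3)
  rw [MonoidHom.range_comp] at q1 q2
  rw [c1 _ hn Q q1 q2 q3] at q4
  exact b4 ((c2 _).1 q4)

theorem wrap1930 (h : ∀ p [Fact p.Prime], 5 ≤ p → H98.Fl.LB.{u} p) {X : Type u} [Group X] [Finite X] (G R : Subgroup X) (r : ℕ) [Fact r.Prime] (hR : IsPGroup r ↥R) (hcop : (Nat.card ↥G).Coprime r) (hnorm : R ≤ Subgroup.normalizer (G : Set X)) (hG : G ≠ ⊥) (p : ℕ) [Fact p.Prime] (hp : 3 < p) (hF : Cfsg.generalizedFittingSubgroup ↥G = Cfsg.pCore p ↥G) (P : Subgroup X) (hP : P = ⨅ S : {S : Sylow p ↥G // ∀ a ∈ R, ((S : Subgroup ↥G).map G.subtype).map (MulAut.conj a).toMonoidHom = (S : Subgroup ↥G).map G.subtype}, ((S : Sylow p ↥G) : Subgroup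 ↥G).map G.subtype) : ∃ C : Subgroup ↥P, C.Characteristic ∧ C ≠ ⊥ ∧ G ≤ Subgroup.normalizer ((C.map P.subtype : Subgroup X) : Set X) := by
  have hc : H10.IsCharP p G := by
    have := H14.centralizer_fstar_le (G := G)
    rwa [hF] at this
  haveI := (nontrivial_iff_ne_bot G).2 hG
  have cop : (Nat.card R).Coprime (Nat.card G) := by
    obtain ⟨k, hk⟩ := hR.exists_card_eq
    rw [hk]; exact hcop.symm.pow_left k
  have hs : Group.IsSolvable R := by haveI := hR.isNilpotent; infer_instance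
  have pG : p ∣ Nat.card G := by
    obtain ⟨k, hk⟩ := (H2.pCore_isPGroup p G).exists_card_eq
    refine (dvd_pow_self p fun e => hc.pCore_ne_bot ?_).trans (hk ▸ card_subgroup_dvd_card _)
    rwa [e, pow_zero, card_eq_one] at hk
  have mem : ∀ x, x ∈ P ↔ ∀ T, IsSyl p T G → (∀ a ∈ R, cj a T = T) → x ∈ T := fun x => by
    rw [hP, mem_iInf]
    refine ⟨fun k T hT hi => ?_, fun k S => k _ (isSyl_map_subtype _) S.2⟩
    obtain ⟨S, rfl⟩ := hT.exists_sylow_map
    exact k ⟨S, hi⟩
  obtain ⟨S, hS⟩ := H1.exists_invariant_sylow_subgroup R G hnorm cop (.inl hs) p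
  have le : P ≤ (S : Subgroup G).map G.subtype := fun x hx =>
    (mem x).1 hx _ (isSyl_map_subtype _) fun a ha => cj_eq_self (hS ha)
  have PG : P ≤ G := le.trans (map_subtype_le _)
  have hO : pCore p G ≤ P.subgroupOf G := fun x hx => (mem x).2 fun T hT _ => by
    obtain ⟨S, rfl⟩ := hT.exists_sylow_map
    exact mem_map_of_mem _ ((H2.pCore_isPGroup p G).le_sylow_of_normal S hx)
  have pP : IsPGroup p P := (S.2.map _).to_le le
  have n := core1930 (G.normalizerMonoidHom.comp (inclusion hnorm)) (h p (by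
    have := (Fact.out : p.Prime).eq_two_or_odd; omega)) hc cop
    (fun e => (Fact.out : p.Prime).one_lt.ne' (Nat.eq_one_of_dvd_coprimes cop e pG)) hs
    (isPGroup_subgroupOf pP G) hO (fun a x hx => (mem _).2 fun T hT hi => by
      rw [← hi a a.2]; exact conj_mem_cj ((mem _).1 hx T hT hi)) fun c hc => mem_normalizer_fintype fun x hx =>
        (mem _).2 fun T hT hi => by
          have := (mem _).1 hx _ (hT.cj_of_mem (G.inv_mem c.2)) fun a ha => by
            have e : a * c * a⁻¹ = c := congrArg Subtype.val (hc ⟨a, ha⟩)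
            rw [cj_cj, (Commute.inv_right (show Commute a c from mul_inv_eq_iff_eq_mul.1 e)).eq, ← cj_cj, hi a ha]
          rwa [mem_cj, inv_inv] at this
  have e : (H16.kL (⊤ : Subgroup P)).map P.subtype = H16.kL P := by
    rw [H16.map_kL P.subtype_injective, ← MonoidHom.range_eq_map, range_subtype]
  refine ⟨H16.kL ⊤, characteristic_iff_map_eq.2 fun f => ?_, fun k => ?_, ?_⟩
  · rw [H16.map_kL f.injective, map_top_of_surjective _ f.surjective]
  · haveI : Nontrivial P := (nontrivial_iff_ne_bot P).2 fun j => hc.pCore_ne_bot (by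
      rw [j, bot_subgroupOf, le_bot_iff] at hO; exact hO)
    have := H16.Zc_le_kL (⊤ : Subgroup P)
    rw [k, le_bot_iff, H16.Zc, top_inf_eq] at this
    exact (nontrivial_iff_ne_bot _).1 pP.center_nontrivial (centralizer_top'.symm.trans this)
  · have := le_normalizer_map_subtype (H16.kL (P.subgroupOf G))
    rwa [H16.map_kL G.subtype_injective, map_subgroupOf_eq_of_le PG, ← e] at this

theorem wrap3260 (h : ∀ p [Fact p.Prime], 5 ≤ p → H98.Fl.M1.{u} p) {G : Type u} [Group G] [Finite G] (p : ℕ) [hp : Fact p.Prime] (hp5 : 5 ≤ p)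
    (hG : Cfsg.IsPConstrained p G) (S : Sylow p G) (A : Subgroup (MulAut G)) (hA : (Nat.card ↥A).Coprime (Nat.card G))
    (C : Subgroup G) (hC : ∀ g : G, g ∈ C ↔ ∀ a ∈ A, a g = g)
    {F : Type*} [Field F] [Fintype F] (hF : Fintype.card F = p)
    (hfix : ¬ Cfsg.Involves (Matrix.ProjectiveSpecialLinearGroup (Fin 2) F) ↥C) :
    Cfsg.pPrimeCore p G ⊔ Subgroup.normalizer (Cfsg.centerThompsonAOf (S : Subgroup G) : Set G) = ⊤ := by
  by_cases pG : ¬ p ∣ Nat.card G
  · rw [H2.pPrimeCore_eq_top_of_coprime (hp.out.coprime_iff_not_dvd.2 pG).symm, top_sup_eq]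
  have hs : Group.IsSolvable A ∨ Group.IsSolvable G := by
    rcases Nat.even_or_odd (Nat.card G) with e | e
    · exact .inl (H42.odd_order (Nat.coprime_two_right.1 (hA.coprime_dvd_right e.two_dvd)))
    · exact .inr (H42.odd_order e)
  obtain ⟨Γ, _, _, g, j, hk, hn, rel, hi, hΓ⟩ := amb A.subtype hG
    fun e => hp.out.one_lt.ne' (Nat.eq_one_of_dvd_coprimes hA e (not_not.1 pG))
  have hT : IsSyl p ((S : Subgroup G).map g) ⊤ := by
    have := (isSyl_sylow S).map g
    rw [← MonoidHom.range_eq_map] at this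
    exact ⟨le_top, this.isPGroup, fun Q hQ h1 _ => this.eq_of_le hQ h1 (le_of_index hi hQ)⟩
  have n := H13.zj_normal' (by omega) 0 hT.toSylowTop hΓ fun V hV pV B hB _ q b hb => by
    refine H13.comap_pCore_le_normalCore _ _ (H7.mk_mem_pCore_of_forall_coprime (p := p) _ (normalClosure {b})
      (fun x hx hc => H16.mem_Ce_of_chief pV bot_le hc (by simp) fun U W c _ hU => ?_)
      (subset_normalClosure rfl))
    haveI := c.2.1
    haveI := c.2.2.1
    refine H16.mem_sectionKernel_iff'.1 (normalClosure_le_normal (Set.singleton_subset_iff.2 ?_) hx)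
    obtain ⟨M, _, _, _, π, c1, c2, c3⟩ := lin c (pV.to_le hU)
    refine H16.mem_sectionKernel_iff'.2 ((c2 b).1 (by_contra fun b1 => hfix ?_))
    have rel' := comp_rel A.subtype rel π
    obtain ⟨y, -, rfl⟩ := hB hb
    have k := h p hp5 M (π.comp g).range (π.comp j).range
      ((hA.coprime_dvd_left (card_range_dvd _)).coprime_dvd_right (card_range_dvd _))
      (by rw [MonoidHom.range_eq_map (π.comp g)]; exact nrm_map _ rel' fun _ _ _ => trivial)
      (by rw [MonoidHom.range_comp]; exact c1 _ hn) _ ⟨y, rfl⟩ b1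
      (c3 _ ((commutator_mono (commutator_mono hU (zpowers_le.2 hb)) (zpowers_le.2 hb)).trans (q.le.trans bot_le)))
    refine (H94.involves_congr_left (H55.pslCongr (ZMod.ringEquivOfPrime F hp.out hF))).1
      (H94.involves_trans k (H94.involves_of_surjective (((π.comp g).comp C.subtype).codRestrict _ fun x =>
        ⟨⟨x, rfl⟩, ?_⟩) fun z => ?_))
    · rintro _ ⟨a, rfl⟩
      rw [← mul_inv_eq_iff_eq_mul]
      exact (rel' a x).trans (congrArg _ ((hC x).1 x.2 a a.2))
    · obtain ⟨x, hx, e⟩ := fix_lift _ rel' hA hs z.2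
      exact ⟨⟨x, (hC x).2 fun a ha => hx ⟨a, ha⟩⟩, Subtype.ext e⟩
  rw [IsSyl.coe_toSylowTop, H13.zj_map (fun x hx y hy e => H10.injOn_of_isPGroup g hk S.2 hx hy e)] at n
  have := H13.ker_sup_normalizer_eq_top g.rangeRestrict g.rangeRestrict_surjective
    (by rwa [MonoidHom.ker_rangeRestrict]) (S.2.to_le (H13.zj_le 0 (S : Subgroup G))) (by
      refine Normal.of_map_injective g.range.subtype_injective ?_
      rwa [map_map])
  rw [H13.centerThompsonAOf_eq, eq_top_iff, ← this, MonoidHom.ker_rangeRestrict]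
  exact sup_le_sup_right (H2.le_pPrimeCore hk) _

end H29.Fl
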