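/- Tower HM, job Q5, part 1: five points of `2^{1+4}_-` and the action of the normalizer. -/
import Cfsg.Agent.H87.HMEss
import Cfsg.Agent.H87.S4K

set_option autoImplicit false
set_option linter.unusedSectionVars false

namespace H29.HM
open _root_.Cfsg H92 H93 Subgroup Equiv

abbrev W := ZMod 2 × ZMod 2

/-- Translations. -/
def tr (v : W) : Perm (Option W) := Equiv.optionCongr (Equiv.addRight v)

/-- Even involutions. -/
def D (d : Perm (Option W)) : Prop := d * d = 1 ∧ Perm.sign d = 1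

instance decD : DecidablePred D := fun _ => by unfold D; infer_instance

theorem F1 : ∀ π : Perm (Option W), ∃ d, D d ∧ D (d * (π * π)) := by decide +kernel
theorem F2 : ∀ d, D d → (∃ x, d x = x) ∧ (d none = none → ∃ v, d = tr v) := by decide +kernel
theorem F3 : ∀ v, D (tr v) := by decide +kernel
theorem F4 : ∃ π : Perm (Option W), π none = none ∧ ∀ v, π * π ≠ tr v := by decide +kernel
theorem tr_none (v : W) : tr v none = none := rfl
theorem tr_some (v w : W) : tr v (some w) = some (w + v) := rfl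

theorem D.conj {d : Perm (Option W)} (h : D d) (γ : Perm (Option W)) : D (γ * d * γ⁻¹) :=
  ⟨by rw [show γ * d * γ⁻¹ * (γ * d * γ⁻¹) = γ * (d * d) * γ⁻¹ by group, h.1]; group,
    by simp [h.2]⟩

theorem sq_mem {Γ : Subgroup (Perm (Option W))} (h1 : ∀ v, tr v ∈ Γ) {γ : Perm (Option W)} (h2 : γ ∈ Γ)
    {a : W} (h3 : γ (some a) = none) (π : Perm (Option W)) : π * π ∈ Γ := by
  have tv : ∀ x, ∃ δ ∈ Γ, δ x = none := by
    rintro (_ | b)
    · exact ⟨1, Γ.one_mem, rfl⟩
    · exact ⟨γ * tr (a - b), Γ.mul_mem h2 (h1 _), by rw [Perm.mul_apply, tr_some, add_sub_cancel, h3]⟩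
  have k : ∀ d, D d → d ∈ Γ := fun d hd => by
    obtain ⟨x, hx⟩ := (F2 d hd).1
    obtain ⟨δ, hδ, e⟩ := tv x
    obtain ⟨v, hv⟩ := (F2 _ (hd.conj δ)).2 (by
      rw [← e]; simp [hx])
    rw [show d = δ⁻¹ * (δ * d * δ⁻¹) * δ by group, hv]
    exact Γ.mul_mem (Γ.mul_mem (Γ.inv_mem hδ) (h1 v)) hδ
  obtain ⟨d, hd, hd'⟩ := F1 π
  exact (mul_mem_cancel_left (k d hd)).1 (k _ hd')

variable {Ω : Type*} [Group Ω] {Q : Subgroup Ω} {z g g' x y : Ω} {p : Option W → Ω}
  {π π' : Perm (Option W)} {i j : Option W}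

/-- The five points. -/
structure Pt (Q : Subgroup Ω) (z : Ω) (p : Option W → Ω) : Prop where
  zz : z * z = 1
  z1 : z ≠ 1
  cz : ∀ i, Commute z (p i)
  sq : ∀ i, p i * p i = 1
  cm : ∀ i j, i ≠ j → p i * p j = p j * z * p i
  mem : ∀ i, p i ∈ Q
  gen : Q ≤ closure (Set.range fun v => p (some v))
  inv : ∀ x ∈ Q, x * x = 1 → x = 1 ∨ x = z ∨ ∃ i, x = p i ∨ x = p i * z

def Sim (z : Ω) (p : Option W → Ω) (i : Option W) (x : Ω) : Prop := x = p i ∨ x = p i * z

def R (z : Ω) (p : Option W → Ω) (g : Ω) (π : Perm (Option W)) : Prop :=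
  ∀ i, Sim z p (π i) (g * p i * g⁻¹)

namespace Pt
variable (h : Pt Q z p)
include h

theorem cj' (e : i ≠ j) : p i * p j * (p i)⁻¹ = p j * z := by rw [h.cm i j e]; group

theorem zQ : z ∈ Q := by
  have e := h.cj' (i := none) (j := some 0) (by simp)
  exact (mul_mem_cancel_left (h.mem (some 0))).1
    (e ▸ Q.mul_mem (Q.mul_mem (h.mem _) (h.mem _)) (Q.inv_mem (h.mem _)))

theorem ct (e : ∀ v, g * p (some v) * g⁻¹ = p (some v)) : g ∈ Ct Q := by
  refine le_Ct_comm.1 (h.gen.trans ((closure_le _).2 ?_)) (mem_zpowers g)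
  rintro _ ⟨v, rfl⟩
  refine mem_Ct'.2 fun y hy => ?_
  obtain ⟨n, rfl⟩ := mem_zpowers_iff.1 hy
  exact (Commute.zpow_left (mul_inv_eq_iff_eq_mul.1 (e v)) n).eq

theorem zC : z ∈ Ct Q := h.ct fun v => by rw [(h.cz _).eq]; group

theorem sim_comm (hx : Sim z p i x) (hy : Sim z p i y) : Commute x y := by
  have c := h.cz i
  rcases hx with rfl | rfl <;> rcases hy with rfl | rfl
  · exact Commute.refl _
  · exact (Commute.refl _).mul_right c.symm
  · exact (Commute.refl _).mul_left c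
  · exact Commute.refl _

theorem eq_of_comm (c : Commute (p i) (p j)) : i = j := by
  by_contra e
  have := h.cj' e
  rw [c.eq, mul_inv_cancel_right, left_eq_mul] at this
  exact h.z1 this

theorem sim_eq (hx : Sim z p j x) (c : Commute (p i) x) : i = j := by
  rcases hx with rfl | rfl
  · exact h.eq_of_comm c
  · refine h.eq_of_comm ?_
    have := c.mul_right (h.cz i).symm
    rwa [mul_assoc, h.zz, mul_one] at this

theorem sim_un (hx : Sim z p i x) (hy : Sim z p j x) : i = j := h.sim_eq hy (h.sim_comm (Or.inl rfl) hx)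

theorem sim_mem (hx : Sim z p i x) : x ∈ Q := by
  rcases hx with rfl | rfl
  · exact h.mem i
  · exact Q.mul_mem (h.mem i) h.zQ

theorem not_ct (hx : Sim z p i x) : x ∉ Ct Q := fun c => by
  have k : ∀ j, j = i := fun j => h.sim_eq hx (mem_Ct'.1 c _ (h.mem j))
  exact absurd ((k none).trans (k (some 0)).symm) (by simp)

theorem fixz (hg : g ∈ Nm Q) : g * z * g⁻¹ = z := by
  rcases h.inv _ (conj_mem_of_Nm hg h.zQ) (by
    rw [show g * z * g⁻¹ * (g * z * g⁻¹) = g * (z * z) * g⁻¹ by group, h.zz]; group) with e | e | ⟨i, e⟩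
  · exact absurd (by simpa [mul_inv_eq_iff_eq_mul] using e) h.z1
  · exact e
  · exact absurd (conj_mem_Ct_of_Nm hg h.zC) (h.not_ct e)

theorem ex (hg : g ∈ Nm Q) : ∃ π, R z p g π := by
  have k : ∀ i, ∃ j, Sim z p j (g * p i * g⁻¹) := fun i => by
    have n : g * p i * g⁻¹ ∉ Ct Q := fun c => h.not_ct (Or.inl rfl) (i := i) (by
      simpa [mul_assoc] using conj_mem_Ct_of_Nm ((Nm Q).inv_mem hg) c)
    rcases h.inv _ (conj_mem_of_Nm hg (h.mem i)) (by
      rw [show g * p i * g⁻¹ * (g * p i * g⁻¹) = g * (p i * p i) * g⁻¹ by group, h.sq]; group) with e | e | e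
    · exact absurd (e ▸ (Ct Q).one_mem) n
    · exact absurd (e ▸ h.zC) n
    · exact e
  choose f hf using k
  refine ⟨Equiv.ofBijective f (Finite.injective_iff_bijective.1 fun i j e => h.eq_of_comm ?_), hf⟩
  have c := h.sim_comm (hf i) (e ▸ hf j)
  simpa [mul_assoc] using c.conj g⁻¹

theorem un (r : R z p g π) (r' : R z p g π') : π = π' := Equiv.ext fun i => h.sim_un (r i) (r' i)

theorem mul (hg : g ∈ Nm Q) (r : R z p g π) (r' : R z p g' π') : R z p (g * g') (π * π') := fun i => by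
  rw [Perm.mul_apply, show g * g' * p i * (g * g')⁻¹ = g * (g' * p i * g'⁻¹) * g⁻¹ by group]
  rcases r' i with e | e <;> rw [e]
  · exact r _
  · rw [show g * (p (π' i) * z) * g⁻¹ = g * p (π' i) * g⁻¹ * (g * z * g⁻¹) by group, h.fixz hg]
    rcases r (π' i) with e | e <;> rw [e]
    · exact Or.inr rfl
    · exact Or.inl (by rw [mul_assoc, h.zz, mul_one])

theorem of_ct (hg : g ∈ Ct Q) : R z p g 1 := fun i => Or.inl (conj_eq_of_Ct hg (h.mem i))

theorem inv' (hg : g ∈ Nm Q) (r : R z p g π) : R z p g⁻¹ π⁻¹ := by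
  obtain ⟨π', r'⟩ := h.ex ((Nm Q).inv_mem hg)
  have := h.mul hg r r'
  rw [mul_inv_cancel] at this
  rwa [← eq_inv_of_mul_eq_one_right (h.un this (h.of_ct (Ct Q).one_mem))]

theorem of_p (j : Option W) : R z p (p j) 1 := fun i => by
  by_cases e : j = i
  · exact Or.inl (by rw [e]; simp)
  · exact Or.inr (h.cj' e)

theorem of_mem (hg : g ∈ Q) : R z p g 1 := by
  have k : g ∈ Nm Q ∧ R z p g 1 := by
    refine closure_induction (p := fun g _ => g ∈ Nm Q ∧ R z p g 1) ?_
      ⟨one_mem _, h.of_ct (one_mem _)⟩ (fun a b _ _ ha hb => ⟨mul_mem ha.1 hb.1, by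
        simpa using h.mul ha.1 ha.2 hb.2⟩) (fun a _ ha => ⟨inv_mem ha.1, by
        simpa using h.inv' ha.1 ha.2⟩) (h.gen hg)
    rintro _ ⟨v, rfl⟩
    exact ⟨le_Nm Q (h.mem _), h.of_p _⟩
  exact k.2

theorem of_sup (hg : g ∈ Q ⊔ Ct Q) : R z p g 1 := by
  obtain ⟨a, ha, c, hc, rfl⟩ := (mem_sup_Ct (le_Nm Q)).1 hg
  simpa using h.mul (le_Nm Q ha) (h.of_mem ha) (h.of_ct hc)

theorem nm [Finite Ω] (r : R z p g π) : g ∈ Nm Q := by
  refine mem_Nm_of_le (cj_le_iff_le_cj.2 (h.gen.trans ((closure_le _).2 ?_)))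
  rintro _ ⟨v, rfl⟩
  exact mem_cj_inv.2 (h.sim_mem (r _))

theorem ker (r : R z p g 1) : g ∈ Q ⊔ Ct Q := by
  have k : ∀ T : Finset W, ∃ x ∈ Q, ∀ w ∈ T, x * g * p (some w) * (x * g)⁻¹ = p (some w) := by
    intro T
    induction T using Finset.induction_on with
    | empty => exact ⟨1, one_mem _, by simp⟩
    | insert v T hv ih =>
      obtain ⟨x, hx, e⟩ := ih
      rcases h.mul (le_Nm Q hx) (h.of_mem hx) r (some v) with e' | e'
      · exact ⟨x, hx, fun w hw => (Finset.mem_insert.1 hw).elim (fun c => c ▸ e') (e w)⟩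
      · have q : ∀ w, p none * p (some v) * x * g * p (some w) * (p none * p (some v) * x * g)⁻¹ =
            p none * (p (some v) * (x * g * p (some w) * (x * g)⁻¹) * (p (some v))⁻¹) * (p none)⁻¹ :=
          fun w => by group
        have f : ∀ w, p none * (p (some w) * z) * (p none)⁻¹ = p (some w) := fun w => by
          rw [show p none * (p (some w) * z) * (p none)⁻¹ = p none * p (some w) * (p none)⁻¹ *
            (p none * z * (p none)⁻¹) by group, h.cj' (by simp), h.fixz (le_Nm Q (h.mem _)), mul_assoc,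
            h.zz, mul_one]
        refine ⟨p none * p (some v) * x, mul_mem (mul_mem (h.mem _) (h.mem _)) hx, fun w hw => ?_⟩
        rw [q]
        rcases Finset.mem_insert.1 hw with rfl | hw
        · have c : p (some w) * (p (some w) * z) * (p (some w))⁻¹ = p (some w) * z := by
            rw [mul_inv_eq_iff_eq_mul, mul_assoc _ z, (h.cz _).eq]
          simp only [mul_one, Perm.one_apply] at e'
          rw [e', c, f]
        · have c : v ≠ w := fun c => hv (c ▸ hw)
          rw [e w hw, h.cj' (by simpa using c), f]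
  obtain ⟨x, hx, e⟩ := k Finset.univ
  exact (mul_mem_cancel_left (mem_sup_left hx)).1 (mem_sup_right (h.ct fun v => e v (Finset.mem_univ v)))

theorem same {X : Subgroup Ω} (hX : Q ⊔ Ct Q ≤ X) (hg : g ∈ Nm Q) (h1 : g ∈ X) (r : R z p g π)
    (r' : R z p g' π) : g' ∈ X := by
  have := h.mul ((Nm Q).inv_mem hg) (h.inv' hg r) r'
  rw [inv_mul_cancel] at this
  exact (mul_mem_cancel_left (X.inv_mem h1)).1 (hX (h.ker this))

/-- A subgroup inducing the translations and moving the point at infinity induces all squares. -/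
theorem all_sq [Finite Ω] {X : Subgroup Ω} (hX : X ≤ Nm Q) (h1 : ∀ v, ∃ g ∈ X, R z p g (tr v))
    (hg : g ∈ X) (r : R z p g π) {a : W} (e : π (some a) = none) (π' : Perm (Option W)) :
    ∃ g ∈ X, R z p g (π' * π') := by
  obtain ⟨I, hI⟩ := H87.S4.exists_im 2 (H := Nm Q) (R := R z p) (fun _ => h.ex) (fun _ _ _ => h.un)
    fun _ hg _ _ _ _ => h.mul hg
  exact (hI.mem X hX _).1 (sq_mem (fun v => (hI.mem X hX _).2 (h1 v)) ((hI.mem X hX _).2 ⟨g, hg, r⟩) e π')

end Pt
end H29.HM
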