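/- Tower HM, job Q5: the automizer of `Q = 2^{1+4}_-`. -/
import Cfsg.Agent.H29.HMQ5a

set_option autoImplicit false
set_option linter.unusedSectionVars false

namespace H29.HM
open _root_.Cfsg Cfsg.FusionSystem H92 H93 Subgroup Equiv H87.HM

universe u

section field
variable {K : Type} [Field K] [Finite K] [CharP K 2] {σ ρ : RingAut K} {ω x : K}

theorem two0 : (2 : K) = 0 := CharTwo.two_eq_zero

theorem pow4 (hK : Nat.card K = 4) (x : K) : x ^ 4 = x := by
  have := Fintype.ofFinite K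
  rw [← hK, Nat.card_eq_fintype_card]; exact FiniteField.pow_card x

theorem pow3 (hK : Nat.card K = 4) (h : x ≠ 0) : x ^ 3 = 1 :=
  mul_left_cancel₀ h (by linear_combination pow4 hK x)

theorem quad (hK : Nat.card K = 4) (h : x ≠ 0) (h1 : x ≠ 1) : x ^ 2 = x + 1 :=
  mul_left_cancel₀ (sub_ne_zero.2 h1) (by linear_combination pow3 hK h + (1 - x ^ 2) * two0 (K := K))

theorem cases4 (hK : Nat.card K = 4) (h : ω ≠ 0) (h1 : ω ≠ 1) (x : K) :
    x = 0 ∨ x = 1 ∨ x = ω ∨ x = ω + 1 := by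
  by_cases a : x = 0
  · exact Or.inl a
  by_cases b : x = 1
  · exact Or.inr (Or.inl b)
  have : (x - ω) * (x - (ω + 1)) = 0 := by
    linear_combination quad hK a b + quad hK h h1 + (1 + ω - x * ω) * two0 (K := K)
  simpa [sub_eq_zero, a, b] using this

theorem om_ne (hω : ω + σ ω = 1) : ω ≠ 0 ∧ ω ≠ 1 := by
  refine ⟨?_, ?_⟩ <;> rintro rfl
  · simp at hω
  · simp at hω

theorem sig_om (hω : ω + σ ω = 1) : σ ω = ω + 1 := by linear_combination hω - ω * two0 (K := K)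

theorem sig_eq (hK : Nat.card K = 4) (hω : ω + σ ω = 1) (x : K) : σ x = x ^ 2 := by
  have q := quad hK (om_ne hω).1 (om_ne hω).2
  rcases cases4 hK (om_ne hω).1 (om_ne hω).2 x with rfl | rfl | rfl | rfl
  · simp
  · simp
  · rw [sig_om hω, q]
  · rw [map_add, map_one, sig_om hω]; linear_combination -q - ω * two0 (K := K)

theorem aut_one (hK : Nat.card K = 4) (h : ω ≠ 0) (h1 : ω ≠ 1) (o : Odd (orderOf ρ)) : ρ = 1 := by
  have t : ω + 1 + 1 = ω := by linear_combination two0 (K := K)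
  have k : ∀ τ : RingAut K, τ ω = ω → τ = 1 := fun τ e => RingEquiv.ext fun x => by
    rcases cases4 hK h h1 x with rfl | rfl | rfl | rfl <;> simp [e]
  have s : ρ ^ 2 = 1 := k _ (by
    rw [sq]
    show ρ (ρ ω) = ω
    rcases cases4 hK h h1 (ρ ω) with e | e | e | e
    · exact absurd (by simpa using e) h
    · exact absurd (ρ.injective (e.trans (map_one ρ).symm)) h1
    · rw [e, e]
    · rw [e, map_add, map_one, e, t])
  exact orderOf_eq_one_iff.1 (Nat.Coprime.eq_one_of_dvd (Nat.coprime_two_right.2 o)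
    (orderOf_dvd_of_pow_eq_one s))

/-- Coordinates on the field with four elements. -/
def ka (ω : K) (v : W) : K :=
  ZMod.castHom (dvd_refl 2) K v.1 + ZMod.castHom (dvd_refl 2) K v.2 * ω

theorem ka_add (v w : W) : ka ω (v + w) = ka ω v + ka ω w := by
  simp only [ka, Prod.fst_add, Prod.snd_add, map_add]; ring

theorem ka_surj (hK : Nat.card K = 4) (h : ω ≠ 0) (h1 : ω ≠ 1) (x : K) : ∃ v, x = ka ω v := by
  rcases cases4 hK h h1 x with rfl | rfl | rfl | rfl
  exacts [⟨(0, 0), by simp [ka]⟩, ⟨(1, 0), by simp [ka]⟩, ⟨(0, 1), by simp [ka]⟩,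
    ⟨(1, 1), by simp [ka, add_comm]⟩]

theorem ka_inj (hK : Nat.card K = 4) (h : ω ≠ 0) (h1 : ω ≠ 1) : Function.Injective (ka ω) :=
  (Function.Surjective.bijective_of_nat_card_le (fun x => (ka_surj hK h h1 x).imp fun _ => Eq.symm)
    (by simp [hK])).1

theorem all_pairs (hK : Nat.card K = 4) {P : K → K → RingAut K → Prop} (h : PP3 σ P) {c c' : K}
    (h0 : P c c' 1) (h1 : c * c' = 1) (h2 : c ≠ 1) (x y : K) (hx : x ≠ 0) (hy : y ≠ 0) : P x y 1 := by
  have m : ∀ {a b a' b' a'' b''}, P a b 1 → P a' b' 1 → a'' = a * a' → b'' = b * b' → P a'' b'' 1 := by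
    rintro a b a' b' _ _ r r' rfl rfl
    simpa using h.mul _ _ _ _ _ _ r r'
  have d : ∀ s, s ≠ 0 → P s s 1 := fun s hs => by
    have := (h.tor (s ^ 2) (pow_ne_zero 2 hs)).1
    rwa [show (s ^ 2) ^ 2 = s by linear_combination pow4 hK s,
      show (s ^ 2)⁻¹ = s from inv_eq_of_mul_eq_one_right (by linear_combination pow3 hK hs)] at this
  obtain ⟨c0, c1⟩ := h.ne _ _ _ h0
  have e : c' * c' = c := mul_left_cancel₀ c1 (by linear_combination pow3 hK c1 - h1)
  have a1 : P 1 c 1 := m h0 (d c' c1) h1.symm e.symm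
  have a : ∀ y, y ≠ 0 → P 1 y 1 := fun y hy => by
    rcases cases4 hK c0 h2 y with rfl | rfl | rfl | rfl
    · exact absurd rfl hy
    · exact d 1 hy
    · exact a1
    · exact m a1 a1 (by simp) (by linear_combination -quad hK c0 h2)
  exact m (d x hx) (a (y / x) (div_ne_zero hy hx)) (by simp) (by field_simp)

end field

variable {Ω : Type u} [Group Ω] [Finite Ω] {S B : Subgroup Ω} {K : Type} [Field K] [Finite K]
  [CharP K 2] {σ : RingAut K} {m : K → K → K → Ω} {t g s : Ω} {ω : K}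

/-- The five points. -/
def pt (m : K → K → K → Ω) (t : Ω) (σ : RingAut K) (ω : K) : Option W → Ω
  | none => m 0 0 ω
  | some v => m (ka ω v) (σ (ka ω v)) 0 * t

section
variable (h : T3 S B m t σ)
include h

theorem tm (a b c : K) : t * m a b c = m (σ b) (σ a) (σ (c + a * b)) * t := by
  rw [← h.act]; group

theorem m_e (x y w a b c : K) : m x y w * (m a b c * t) = m (x + a) (y + b) (w + c + x * b) * t := by
  rw [← mul_assoc, h.he.mul]

theorem e_m (a b c x y w : K) :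
    m a b c * t * m x y w = m (a + σ y) (b + σ x) (c + σ (w + x * y) + a * σ x) * t := by
  rw [mul_assoc, tm h, m_e h]

theorem e_e (a b c x y w : K) :
    m a b c * t * (m x y w * t) = m (a + σ y) (b + σ x) (c + σ (w + x * y) + a * σ x) := by
  rw [← mul_assoc, e_m h, mul_assoc, h.t2, mul_one]

variable (hK : Nat.card K = 4)
include hK

theorem mQ {a b c : K} : m a b c ∈ Qx S (A3 m ⊓ A3' m) t ↔ b = σ a := by
  rw [(h.tw (by omega)).mem_Qx h.t2, and_iff_right (h.BS (h.he.mem a b c)), inv_of_sq h.t2, h.he.inv,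
    e_m h, ← mul_assoc, tm h, mul_assoc, h.t2, mul_one, h.he.inf_eq, h.he.mem_Z]
  simp only [map_add, h.sq, CharTwo.neg_eq, CharTwo.add_eq_zero]
  exact ⟨fun r => r.2.symm, fun r => ⟨by rw [r, h.sq], r.symm⟩⟩

theorem tQ : t ∈ Qx S (A3 m ⊓ A3' m) t := ((h.tw (by omega)).mem_Qx h.t2).2 ⟨h.tS, by simp⟩

theorem exS (hs : s ∈ S) : ∃ a b c, s = m a b c ∨ s = m a b c * t := by
  rcases h.idx s hs with r | r
  · obtain ⟨a, b, c, e⟩ := h.he.surj _ r
    exact ⟨a, b, c, Or.inl e⟩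
  · obtain ⟨a, b, c, e⟩ := h.he.surj _ r
    exact ⟨a, b, c, Or.inr (by rw [← e, mul_assoc, h.t2, mul_one])⟩

theorem exQ (hs : s ∈ Qx S (A3 m ⊓ A3' m) t) : ∃ a c, s = m a (σ a) c ∨ s = m a (σ a) c * t := by
  obtain ⟨a, b, c, rfl | rfl⟩ := exS h hK hs.1
  · exact ⟨a, c, Or.inl (by rw [(mQ h hK).1 hs])⟩
  · exact ⟨a, c, Or.inr (by rw [(mQ h hK).1 ((mul_mem_cancel_right (tQ h hK)).1 hs)])⟩

theorem decS (hs : s ∈ S) : ∃ x, ∃ q ∈ Qx S (A3 m ⊓ A3' m) t, s = m x 0 0 * q := by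
  obtain ⟨a, b, c, e⟩ := exS h hK hs
  have k : m a b c = m (a + σ b) 0 0 * m (σ b) b (c + (a + σ b) * b) := by
    rw [h.he.mul, h.he.eq_iff]
    exact ⟨by grind, by simp, by grind⟩
  have q : m (σ b) b (c + (a + σ b) * b) ∈ Qx S (A3 m ⊓ A3' m) t := (mQ h hK).2 (h.sq b).symm
  rcases e with rfl | rfl
  · exact ⟨_, _, q, k⟩
  · exact ⟨_, _, mul_mem q (tQ h hK), by rw [k, mul_assoc]⟩

variable (hω : ω + σ ω = 1)
include hω

theorem sim_some (v : W) {c : K} (hc : σ c = c) :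
    Sim (m 0 0 1) (pt m t σ ω) (some v) (m (ka ω v) (σ (ka ω v)) c * t) := by
  have : c * (c - 1) = 0 := by rw [sig_eq hK hω] at hc; linear_combination hc
  rcases mul_eq_zero.1 this with rfl | e
  · exact Or.inl rfl
  · exact Or.inr (by simp [pt, e_m h, sub_eq_zero.1 e])

theorem pts : Pt (Qx S (A3 m ⊓ A3' m) t) (m 0 0 1) (pt m t σ ω) := by
  obtain ⟨o0, o1⟩ := om_ne hω
  have so := sig_om hω
  refine ⟨by simp [h.he.mul, h.he.eq_one, CharTwo.add_self_eq_zero], by simp [h.he.eq_one], ?_, ?_, ?_,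
    ?_, ?_, ?_⟩
  · rintro (_ | v)
    · simp [pt, h.he.comm_iff]
    · simp [pt, Commute, SemiconjBy, m_e h, e_m h]
  · rintro (_ | v)
    · simp [pt, h.he.mul, h.he.eq_one, CharTwo.add_self_eq_zero]
    · simp [pt, e_e h, h.he.eq_one, h.sq, CharTwo.add_self_eq_zero, mul_comm (σ _)]
  · rintro (_ | v) (_ | w) e
    · exact absurd rfl e
    · simp only [pt, m_e h, e_m h, mul_left_inj, h.he.eq_iff, map_zero, map_add, map_one, mul_zero, so]
      grind
    · simp only [pt, m_e h, e_m h, h.he.mul, mul_left_inj, h.he.eq_iff, map_zero, map_add, mul_zero, so]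
      grind
    · have n : ka ω v + ka ω w ≠ 0 := fun c => e (congrArg some (ka_inj hK o0 o1 (CharTwo.add_eq_zero.1 c)))
      have := pow3 hK n
      have := pow4 hK (ka ω v)
      have := pow4 hK (ka ω w)
      simp only [pt, e_e h, e_m h, h.he.eq_iff, sig_eq hK hω]
      grind
  · rintro (_ | v)
    · exact (mQ h hK).2 (map_zero σ).symm
    · exact mul_mem ((mQ h hK).2 rfl) (tQ h hK)
  · set H := closure (Set.range fun v => pt m t σ ω (some v))
    have e : ∀ a, m a (σ a) 0 * t ∈ H := fun a => by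
      obtain ⟨v, rfl⟩ := ka_surj hK o0 o1 a
      exact subset_closure ⟨v, rfl⟩
    have tH : t ∈ H := by simpa [h.he.one] using e 0
    have u : ∀ a, m a (σ a) 0 ∈ H := fun a => (mul_mem_cancel_right tH).1 (e a)
    have z : ∀ c, m 0 0 c ∈ H := fun c => (mul_mem_cancel_left (u (c + 1))).1 (by
      simpa [h.he.mul] using H.mul_mem (u c) (u 1))
    have b : ∀ a c, m a (σ a) c ∈ H := fun a c => by simpa [h.he.mul] using H.mul_mem (u a) (z c)
    intro s hs
    obtain ⟨a, c, rfl | rfl⟩ := exQ h hK hs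
    exacts [b a c, mul_mem (b a c) tH]
  · intro s hs s2
    obtain ⟨a, c, rfl | rfl⟩ := exQ h hK hs
    · rw [h.he.mul, h.he.eq_one, CharTwo.add_self_eq_zero c, zero_add] at s2
      obtain rfl : a = 0 := by simpa using s2.2.2
      rw [map_zero]
      rcases cases4 hK o0 o1 c with rfl | rfl | rfl | rfl
      exacts [Or.inl h.he.one, Or.inr (Or.inl rfl), Or.inr (Or.inr ⟨none, Or.inl rfl⟩),
        Or.inr (Or.inr ⟨none, Or.inr (by simp [pt, h.he.mul])⟩)]
    · obtain ⟨v, rfl⟩ := ka_surj hK o0 o1 a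
      rw [e_e h, h.he.eq_one, map_add, map_mul, h.sq] at s2
      exact Or.inr (Or.inr ⟨some v, sim_some h hK hω v (by grind)⟩)

theorem R_tr (v : W) : R (m 0 0 1) (pt m t σ ω) (m (ka ω v) 0 0) (tr v) := by
  rintro (_ | w)
  · exact Or.inl (by simp [pt, tr_none, h.he.conj])
  · have := sim_some h hK hω (w + v) (c := ka ω v * σ (ka ω w) + (ka ω v + ka ω w) * σ (ka ω v))
      (by simp only [map_add, map_mul, h.sq]; grind)
    rw [tr_some]
    convert this using 1
    simp only [pt, h.he.inv, m_e h, e_m h, ka_add, mul_left_inj, h.he.eq_iff, map_add, map_neg,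
      neg_zero, map_zero, mul_zero]
    grind

theorem R_S (hs : s ∈ S) : ∃ v, R (m 0 0 1) (pt m t σ ω) s (tr v) := by
  obtain ⟨x, q, hq, rfl⟩ := decS h hK hs
  obtain ⟨v, rfl⟩ := ka_surj hK (om_ne hω).1 (om_ne hω).2 x
  have r := R_tr h hK hω v
  exact ⟨v, by simpa using (pts h hK hω).mul ((pts h hK hω).nm r) r ((pts h hK hω).of_mem hq)⟩

end

theorem jobQ5 : JobQ5.{u} := by
  intro en fr K _ _ _ Ω _ _ S B F m t σ hK h1 st ni
  have := Fact.mk Nat.prime_two
  have h := st.t3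
  have hF := st.sat
  have tw := h.tw (by omega)
  obtain ⟨ω, hω⟩ := exists_trace h.sq h1
  obtain ⟨o0, o1⟩ := om_ne hω
  have P := pts h hK hω
  have rS := fun s => R_S (s := s) h hK hω
  set Q := Qx S (A3 m ⊓ A3' m) t with hQ
  have QS : Q ≤ S := inf_le_left
  have SN : S ≤ Nm Q := fun s hs => (rS s hs).elim fun _ r => P.nm r
  have SA : ∀ E : FusionSystem S, S ≤ Aut E Q := fun E s hs => Nm_le_Aut E Q ⟨hs, SN hs⟩
  have QA : Q ⊔ Ct Q ≤ Aut F Q := sup_le (le_Aut F QS) (Ct_le_Aut F Q)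
  have sq : ∀ π, ∃ g ∈ Aut F Q, R (m 0 0 1) (pt m t σ ω) g (π * π) := by
    obtain ⟨E, hE, l⟩ : ∃ E, F.IsEssential 2 E ∧ ¬ E ≤ B := by simpa [In] using ni
    obtain ⟨-, rfl, y, hy, y1, g, hg, e⟩ := (en Ω S B _ _ F t hF tw h.t2 (h.ng h1) E hE).resolve_left l
    obtain ⟨π, r⟩ := P.ex (Aut_le_Nm F Q hg)
    have y2 : y * y = 1 := by
      have := tw.eA _ e.1
      rwa [show g * y * g⁻¹ * (g * y * g⁻¹) = g * (y * y) * g⁻¹ by group, mul_inv_eq_one,
        mul_eq_left] at this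
    have zB : m 0 0 1 ∈ B := h.he.mem _ _ _
    obtain ⟨a, ha⟩ : ∃ a, Sim (m 0 0 1) (pt m t σ ω) (some a) y := by
      rcases P.inv y hy y2 with rfl | rfl | ⟨_ | a, r⟩
      · exact absurd B.one_mem y1
      · exact absurd zB y1
      · rcases r with rfl | rfl
        · exact absurd (h.he.mem _ _ _) y1
        · exact absurd (B.mul_mem (h.he.mem _ _ _) zB) y1
      · exact ⟨a, r⟩
    have c : Commute (pt m t σ ω none) (g * y * g⁻¹) := tw.zcomm e (h.he.mem _ _ _)
    have c' : Commute (pt m t σ ω none) (g * pt m t σ ω (some a) * g⁻¹) := by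
      rcases ha with rfl | rfl
      · exact c
      · have := c.mul_right (P.cz none).symm
        rwa [show ∀ x, g * (x * m 0 0 1) * g⁻¹ = g * x * g⁻¹ * (g * m 0 0 1 * g⁻¹) from fun x => by group,
          P.fixz (Aut_le_Nm F Q hg), mul_assoc, P.zz, mul_one] at this
    exact P.all_sq (Aut_le_Nm F Q) (fun v => ⟨_, SA F (h.BS (h.he.mem _ _ _)), R_tr h hK hω v⟩) hg r
      (P.sim_eq (r _) c').symm
  refine ⟨?_, fun E hE g hg => ?_⟩
  · obtain ⟨n, hn, sw⟩ := st.n
    obtain ⟨f, pp, dg⟩ := fr K Ω S B F m t σ (by omega) st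
    obtain ⟨π, π0, π1⟩ := F4
    obtain ⟨g, hg, r⟩ := sq π
    have gN := Aut_le_Nm F Q hg
    obtain ⟨k, hk, e⟩ := hF.ext_aut hg (hF.fc_of_fn (fn_of_le_Nm F QS SN)) (R := S) (le_inf le_rfl SN)
      (cj_le_iff.2 fun s hs => by
        obtain ⟨v, rv⟩ := rS s hs
        obtain ⟨w, e⟩ := (F2 _ ((F3 v).conj (π * π))).2 (by
          rw [Perm.mul_apply, show (π * π)⁻¹ none = none from Perm.inv_eq_iff_eq.2 (by simp [π0])]
          simp [tr_none, π0])
        have s' := h.BS (h.he.mem (ka ω w) 0 0)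
        have r' := P.mul (mul_mem gN (SN hs)) (P.mul gN r rv) (P.inv' gN r)
        exact P.same (sup_le_sup_right (le_inf QS (le_Nm Q)) _) (SN s') (mem_sup_left ⟨s', SN s'⟩)
          (R_tr h hK hω w) (e ▸ r'))
    rw [sup_eq_right.2 QS] at hk
    have rk : R (m 0 0 1) (pt m t σ ω) k (π * π) := by simpa using P.mul gN r (P.of_ct e)
    obtain ⟨k, hk, kA, rk⟩ : ∃ k, M F S k ∧ k ∈ Nm (A3 m) ∧ R (m 0 0 1) (pt m t σ ω) k (π * π) := by
      rcases tw.perm (hk.mono tw.BS).cj_le with r | r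
      · exact ⟨k, hk, r.1, rk⟩
      · exact ⟨t * k, hk.mem_mul h.tS, mem_Nm.2 (by rw [cj_mul, r.1, tw.sw']),
          by simpa using P.mul (SN h.tS) (P.of_mem (tQ h hK)) rk⟩
    obtain ⟨b, hb, bk⟩ := (f n hn sw).dg k (tw.autB (hk.mono tw.BS)) kA
    obtain ⟨c, c', ρ, c0, c1, d⟩ := dg _ bk
    have mk := hk.mem_mul (h.BS hb)
    have p3 : P3 F B m c c' ρ := ⟨c0, c1, _, mk.mono tw.BS, d⟩
    obtain rfl := aut_one hK o0 o1 (pp.odd _ _ _ p3)
    have cc : c * c' = 1 := by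
      have := P.fixz (mul_mem (SN (h.BS hb)) (P.nm rk))
      rw [d, h.he.eq_iff] at this
      simpa using this.2.2
    refine all_pairs hK pp p3 cc ?_
    rintro rfl
    obtain rfl : c' = 1 := by simpa using cc
    obtain ⟨x, hx, e⟩ := hF.mem_of_centric (tw.centricB hF) tw.BS mk (mem_Ct.2 fun y hy => by
      obtain ⟨a, b, c, rfl⟩ := h.he.surj y hy
      simpa using d a b c)
    have s := mul_mem (inv_mem (h.BS hb)) (h.BS hx.1)
    obtain ⟨v, rv⟩ := rS _ s
    have := P.mul (SN s) rv (P.of_ct (Ct_anti QS e))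
    rw [mul_one, show b⁻¹ * x * (x⁻¹ * (b * k)) = k by group] at this
    exact π1 v (P.un rk this)
  · obtain ⟨x, hx, n, hn, rfl⟩ := (hE.pp_of_normal QS SN).exists_mul_Opr hg
    refine mul_mem (sup_le (SA F) (Ct_le_Aut F Q) hx) (Opr_le_iff.2 (fun g hg o => ?_) hn)
    obtain ⟨j, e⟩ := Nat.coprime_two_right.1 o
    have gN := pow_mem (Aut_le_Nm E Q hg) (j + 1)
    obtain ⟨π, r⟩ := P.ex gN
    obtain ⟨g', hg', r'⟩ := sq π
    have := P.mul gN r r
    rw [← pow_add, show j + 1 + (j + 1) = orderOf g + 1 by omega, pow_succ, pow_orderOf_eq_one,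
      one_mul] at this
    exact P.same QA (Aut_le_Nm F Q hg') hg' r' this

end H29.HM
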