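import Cfsg.Agent.H29.HNQ3

/-! HN3-Q: the group `A` is abelian. -/

set_option autoImplicit false
set_option linter.unusedSectionVars false

namespace H29.HNQ
open H16.HN3 Subgroup H42.L3
open scoped commutatorElement

attribute [local instance high] List.decidableBAll List.decidableBEx

universe u

variable {G : Type*} [Group G] {ψ : A →* G} {n g h k ρ : G} {a b w f : A} {L : Subgroup G}

theorem Q0 (T : St ψ n L) (E : EE ψ n) (K : Cf ψ n) (hρ : C1 ψ ρ) (h1 : ⁅ρ, ψ t⁆ = ψ x1)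
    (h2 : ⁅ρ, ψ c⁆ = ψ x3) (hz : Commute ρ (ψ z)) (ha : a ∈ lE) (hx : InS ψ ⁅ρ, n * ψ a * n⁻¹⁆) :
    a * a = 1 := by
  obtain ⟨rr, i, br⟩ := braid T K hρ h1 h2 hz
  rw [← map_pow] at br
  have nD : n * ψ (d ^ i) * n⁻¹ = (ψ (d ^ i))⁻¹ := by rw [map_pow, ← conj_pow, n_d T, inv_pow]
  have Ds : Commute (ψ (d ^ i)) (ψ s) :=
    pc ψ (Commute.pow_left (show d * s = s * d by decide +kernel) i)
  have mn : n * ψ (d ^ i) * n = (ψ (d ^ i))⁻¹ * ψ s := by rw [← nD, ← T.nn]; group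
  have ms : Commute (n * ψ (d ^ i)) (ψ s) := (ns T.nn).mul_left Ds
  have rs : Commute ρ (ψ s) := hρ.1.1
  have mu : ∀ b, n * ψ (d ^ i) * ψ b * (n * ψ (d ^ i))⁻¹ = n * ψ (d ^ i * b * (d ^ i)⁻¹) * n⁻¹ :=
    fun b => by rw [← pcj ψ rfl]; group
  have mx : ∀ b ∈ lE, n * ψ (d ^ i) * (n * ψ b * n⁻¹) * (n * ψ (d ^ i))⁻¹ =
      ψ ((d ^ i)⁻¹ * b * d ^ i) := fun b hb => by
    rw [show n * ψ (d ^ i) * (n * ψ b * n⁻¹) * (n * ψ (d ^ i))⁻¹ =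
      n * ψ (d ^ i) * n * ψ b * (n * ψ (d ^ i) * n)⁻¹ by group, mn, map_mul, map_mul, map_inv,
      show (ψ (d ^ i))⁻¹ * ψ s * ψ b * ((ψ (d ^ i))⁻¹ * ψ s)⁻¹ =
      (ψ (d ^ i))⁻¹ * (ψ s * ψ b * (ψ s)⁻¹) * ψ (d ^ i) by group, (pc ψ (E_s b hb)).symm.mul_inv_cancel]
  have mm : n * ψ (d ^ i) * (n * ψ (d ^ i)) = ψ s := by
    rw [← mul_assoc, mn, mul_assoc, ← Ds.eq, inv_mul_cancel_left]
  generalize n * ψ (d ^ i) = m at *
  have b1 : ρ * m * ρ = (ρ * m) ^ 3 * ψ s * (m * ρ * m) := by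
    have : m * ρ * m * (m * ρ * m) = ψ s := by
      rw [show m * ρ * m * (m * ρ * m) = m * (ρ * (m * m)) * ρ * m by group, mm, rs.eq,
        show m * (ψ s * ρ) * ρ * m = m * (ψ s * (ρ * ρ)) * m by group, rr, ss, mul_one, mm]
    calc ρ * m * ρ = ρ * m * ρ * (ψ s * ψ s) := by rw [ss, mul_one]
      _ = ρ * m * ρ * (m * ρ * m * (m * ρ * m) * ψ s) := by rw [this]
      _ = ρ * m * ρ * (m * ρ * m) * (m * ρ * m * ψ s) := by group
      _ = _ := by rw [((ms.mul_left rs).mul_left ms).eq, pow_three]; group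
  have hu := E_dp ha i
  have mxa := mx a ha
  obtain ⟨v, hv⟩ : ∃ v, (d ^ i)⁻¹ * a * d ^ i = v := ⟨_, rfl⟩
  rw [hv] at hu mxa
  have m1 := C1_E K hu (K.inv ρ hρ)
  have e0 : ⁅ρ, ψ v⁆ = ρ * (ψ v * ρ⁻¹ * (ψ v)⁻¹) := by simp only [commutatorElement_def]; group
  have m2 : C1 ψ ⁅ρ, ψ v⁆ := e0 ▸ K.mul _ _ hρ m1
  have dl : ∀ w f, C1 ψ (ψ w) → v * w = w * v → f ∈ [x1, x3] → ⁅ρ, ψ w⁆ = ψ f →
      ⁅⁅ρ, ψ v⁆, ψ w⁆ ∈ zpowers (ψ s) := fun w f hw e hf e' => by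
    rw [e0, cl K hρ m1 hw, cj_com ψ (mul_inv_eq_iff_eq_mul.2 e), cinv K hρ hw, e', pcj ψ rfl, ← map_mul]
    exact InS.zp ((E_F v hu f hf).imp (fun o => by rw [o, map_one]) fun o => by rw [o])
  obtain ⟨a', ha', f, hf, e1⟩ := K.rk _ m2 (dl t x1 C1_t (E_V v hu).1 (by simp) h1)
    (dl c x3 C1_c (E_V v hu).2 (by simp) h2)
  have e2 : ρ * ψ v * ρ⁻¹ = n * ψ a' * n⁻¹ * ψ (f * v) := by
    rw [map_mul, ← mul_assoc, ← e1, commutatorElement_def, inv_mul_cancel_right]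
  obtain ⟨σ, hσ, e3⟩ : ∃ σ ∈ [1, s], ⁅ρ, n * ψ a * n⁻¹⁆ = ψ σ :=
    hx.elim (fun o => ⟨1, by simp, by rw [o, map_one]⟩) fun o => ⟨s, by simp, o⟩
  have fv := E_mul' (F_E f hf) hu
  have σE : σ ∈ lE := (show ∀ σ ∈ [1, s], σ ∈ lE by decide +kernel) σ hσ
  have f' := E_mul' (E_dp' (F_E f hf) i) ha
  have e4 : m * (n * ψ a' * n⁻¹ * ψ (f * v)) * m⁻¹ =
      ψ ((d ^ i)⁻¹ * a' * d ^ i) * (n * ψ (d ^ i * f * (d ^ i)⁻¹ * a) * n⁻¹) := by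
    rw [← conj_mul (b := m), mx a' ha', mu, ← hv]; congr 4; group
  have e5 : ψ σ * (n * ψ a' * n⁻¹ * ψ (f * v)) =
      ψ ((d ^ i)⁻¹ * a' * d ^ i) * (n * ψ (d ^ i * f * (d ^ i)⁻¹ * a) * n⁻¹) := by
    calc _ = ρ * (m * (⁅ρ, n * ψ a * n⁻¹⁆ * (n * ψ a * n⁻¹)) * m⁻¹) * ρ⁻¹ := by
          rw [← conj_mul (b := m), mxa, ← conj_mul (b := ρ), e2, hx.cj ms, hx.cj rs, e3]
      _ = ρ * m * ρ * (n * ψ a * n⁻¹) * (ρ * m * ρ)⁻¹ := by simp only [commutatorElement_def]; group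
      _ = (ρ * m) ^ 3 * ψ s * (m * (ρ * (m * (n * ψ a * n⁻¹) * m⁻¹) * ρ⁻¹) * m⁻¹) *
          ((ρ * m) ^ 3 * ψ s)⁻¹ := by rw [b1]; group
      _ = _ := by
        rw [mxa, e2, e4]
        have c : Commute (ψ s) (ψ ((d ^ i)⁻¹ * a' * d ^ i) *
            (n * ψ (d ^ i * f * (d ^ i)⁻¹ * a) * n⁻¹)) :=
          (pc ψ (E_s _ (E_dp ha' i))).symm.mul_right (K.E2 _ f').1.1.symm
        rcases br.mul (Or.inr rfl) with o | o <;> rw [o]
        · group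
        · exact c.mul_inv_cancel
  have a2 := E_dp ha' i
  have v2 := E_mul' σE fv
  have e6 : ψ (((d ^ i)⁻¹ * a' * d ^ i)⁻¹ * (σ * (f * v))) =
      n * ψ (d ^ i * f * (d ^ i)⁻¹ * a) * n⁻¹ * (n * ψ a' * n⁻¹)⁻¹ := by
    rw [map_mul, map_inv, inv_mul_eq_iff_eq_mul, ← mul_assoc (ψ _), ← e5, eq_mul_inv_iff_mul_eq,
      map_mul ψ σ, mul_assoc (ψ σ), (E _ fv _ ha').eq]
  have e7 := E_cen _ (E_mul' (E_inv _ a2) v2) fun b hb => T.inj (by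
    have bE : b ∈ lE := (show ∀ b ∈ [x1, x2, t', c'], b ∈ lE by decide +kernel) b hb
    rw [map_mul _ _ b, map_mul _ b, e6]
    exact ((E b bE _ f').mul_right (E b bE _ ha').inv_right).symm)
  have sq : ∀ y ∈ lE, ∀ τ, τ = 1 ∨ τ = s → y * τ * (y * τ) = y * y := fun y hy τ hτ => by
    rcases hτ with rfl | rfl
    · simp
    · rw [mul_assoc, ← mul_assoc s, ← E_s y hy, mul_assoc, show s * s = 1 by decide +kernel, mul_one]
  have e8 : f * v * (f * v) = (d ^ i)⁻¹ * (a' * a') * d ^ i := by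
    have c1 := sq _ a2 _ e7
    have c2 := sq _ fv σ (by simpa using hσ)
    have c3 : σ * (f * v) = f * v * σ := by
      rcases (show σ = 1 ∨ σ = s by simpa using hσ) with rfl | rfl
      exacts [by simp, (E_s _ fv).symm]
    rw [mul_inv_cancel_left, c3, c2] at c1
    rw [c1]; group
  have e9 : ψ (f * v * (f * v)) = ψ (a' * a') := by
    have := (E2_sq T.nn ha').2.cj Ds.inv_left
    rwa [inv_inv, ← map_inv, ← map_mul, ← map_mul, ← e8] at this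
  have e10 : ψ (v * v) = 1 := by
    rw [← (E2_sq T.nn hu).2.cj rs, map_mul, ← conj_mul, e2, (E _ fv _ ha').mul_mul_mul_comm,
      (E2_sq T.nn ha').1, ← map_mul ψ (f * v), e9, InF.sq (E2_sq T.nn ha').2.inF]
  have := T.inj (e10.trans (map_one ψ).symm)
  rw [← hv, show (d ^ i)⁻¹ * a * d ^ i * ((d ^ i)⁻¹ * a * d ^ i) = (d ^ i)⁻¹ * (a * a) * (d ^ i)⁻¹⁻¹ by
    group, conj_eq_one_iff] at this
  exact this

theorem ex_e0 (T : St ψ n L) (B : B1 ψ n) (E : EE ψ n) (K : Cf ψ n) :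
    ∃ e, C1 ψ e ∧ Commute e (ψ t) ∧ ⁅e, ψ c⁆ = ψ s ∧ e * e = ψ s ∧
      ∀ h, C1 ψ h → Commute h (ψ t) → InS ψ ⁅e, h⁆ := by
  have nt : n * ψ t' * n⁻¹ = ψ t := by
    rw [← B.nt, show n * (n * ψ t * n⁻¹) * n⁻¹ = n * n * ψ t * (n * n)⁻¹ by group, T.nn]
    exact pcj ψ (by decide +kernel)
  have nc : n * ψ c' * n⁻¹ = ψ c := by
    rw [← B.nc, show n * (n * ψ c * n⁻¹) * n⁻¹ = n * n * ψ c * (n * n)⁻¹ by group, T.nn]
    exact pcj ψ (by decide +kernel)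
  have nsn := (ns T.nn).mul_inv_cancel
  obtain ⟨k, hk, k1, k2⟩ := K.real 1 (by simp [lF]) x1 (by simp [lF])
  rw [map_one] at k1
  have kt := commutatorElement_eq_one_iff_commute.1 k1
  have x3E : x3 ∈ lE := F_E _ (by simp [lF])
  have he := K.E2 _ x3E
  have dl : ∀ a ∈ [x3, x3 * c'], Commute (n * ψ a * n⁻¹) (ψ t) ∧ ⁅n * ψ a * n⁻¹, ψ c⁆ = ψ s :=
    fun a ha => by
      have : ∀ a ∈ [x3, x3 * c'], a * t' = t' * a ∧ ⁅a, c'⁆ = s := by decide +kernel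
      exact ⟨nt ▸ (pc ψ (this a ha).1).conj n, by
        rw [← nc, com_c, ← map_commutatorElement, (this a ha).2, nsn]⟩
  have vS : ∀ e, C1 ψ e → Commute e (ψ t) → ⁅e, ψ c⁆ = ψ s → ∀ w ∈ lV, ∀ f ∈ lF,
      InS ψ ⁅e, ψ (w * f)⁆ := fun e h1 h2 h3 w hw f hf => by
    rw [com_vf K h1 hf]
    exact (com_v K h1 h2 hw).imp (·.1) (·.trans h3)
  obtain ⟨a, ha, hk0⟩ : ∃ a ∈ [x3, x3 * c'], InS ψ ⁅n * ψ a * n⁻¹, k⁆ := by
    obtain ⟨γ, hγ, e⟩ := K.comm _ k he hk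
    have m := K.nor r' (by simp) k hk
    obtain ⟨w, hw, f, hf, e1⟩ := div K m hk
      (by rw [k1, (comm_cj ψ (by decide +kernel) kt).commutator_eq])
      (by rw [cj_com ψ (w := c) (by decide +kernel), k2]; exact pcj ψ (by decide +kernel))
    have e2 : ψ r' * (n * ψ x3 * n⁻¹) * (ψ r')⁻¹ = n * ψ x3 * n⁻¹ * ψ (t * s) := by
      rw [map_mul, ← nt, ← nsn, conj_mul, conj_mul, ← B.nr, conj_inv, conj_mul, conj_mul, pcj ψ rfl,
        ← map_mul, ← map_mul]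
      exact congrArg (fun x => n * ψ x * n⁻¹) (by decide +kernel)
    have ts : C1 ψ (ψ (t * s)) := C1_vf (by simp [lV]) (by simp [lF])
    have m2 := K.mul _ _ (C1_vf hw hf) hk
    have e3 : ψ (r' * γ * r'⁻¹) = ⁅n * ψ x3 * n⁻¹, ψ (w * f)⁆ * ψ γ := by
      rw [← pcj ψ rfl, ← e, ← com_c, e1, e2, cl K he ts m2, cr K he (C1_vf hw hf) hk, csym K m2 ts,
        com_vf K m2 (by simp [lF]), ((vf_c hw hf (by simp)).mul_left kt).commutator_eq, one_mul]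
    have := r_F γ hγ ((vS _ he (dl x3 (by simp)).1 (dl x3 (by simp)).2 w hw f hf).imp
      (fun o => T.inj (by rw [e3, o, one_mul])) fun o => T.inj (by rw [e3, o, map_mul]))
    have e4 : ⁅n * ψ (x3 * c') * n⁻¹, k⁆ = ψ (x1 * γ) := by
      rw [map_mul, ← conj_mul, nc, cl K he C1_c hk, csym K hk C1_c, k2, e, map_mul]
    simp only [List.mem_cons, List.not_mem_nil, or_false] at this
    rcases this with rfl | rfl | rfl | rfl
    · exact ⟨x3, by simp, Or.inl (by rw [e, map_one])⟩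
    · exact ⟨x3, by simp, Or.inr e⟩
    · exact ⟨x3 * c', by simp, Or.inl (by rw [e4, show x1 * x1 = 1 by decide +kernel, map_one])⟩
    · exact ⟨x3 * c', by simp, Or.inr (by rw [e4, show x1 * (s * x1) = s by decide +kernel])⟩
  have aE : a ∈ lE := (show ∀ a ∈ [x3, x3 * c'], a ∈ lE by decide +kernel) a ha
  obtain ⟨et, ec⟩ := dl a ha
  have h0 := K.E2 a aE
  have hk' := K.nor p (by simp) k hk
  have kt' : Commute (ψ p * k * (ψ p)⁻¹) (ψ t) := comm_cj ψ (by decide +kernel) kt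
  have k3 : ⁅ψ p * k * (ψ p)⁻¹, ψ c⁆ = ψ x2 := by
    rw [cj_com ψ (w := c) (by decide +kernel), k2]; exact pcj ψ (by decide +kernel)
  have hk1 : InS ψ ⁅n * ψ a * n⁻¹, ψ p * k * (ψ p)⁻¹⁆ := by
    have : ψ p * (n * ψ a * n⁻¹) * (ψ p)⁻¹ = n * ψ a * n⁻¹ :=
      T.n1 ▸ ((pc ψ (E_e1 a aE)).symm.conj n).mul_inv_cancel
    rwa [← this, com_c, hk0.cj (pc ψ (by decide +kernel))]
  have all : ∀ h, C1 ψ h → Commute h (ψ t) → InS ψ ⁅n * ψ a * n⁻¹, h⁆ := fun h hh ht => by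
    have : ∀ l : List A, (∀ x ∈ l, x ∈ [s, x1, x2]) → ∃ y, C1 ψ y ∧ Commute y (ψ t) ∧
        ⁅y, ψ c⁆ = ψ l.prod ∧ InS ψ ⁅n * ψ a * n⁻¹, y⁆ := fun l => by
      induction l with
      | nil => exact fun _ => ⟨ψ t, C1_t, Commute.refl _, by
          rw [(pc ψ (by decide +kernel)).commutator_eq]; simp, Or.inl et.commutator_eq⟩
      | cons x l ih =>
        intro hl
        obtain ⟨y, y1, y2, y3, y4⟩ := ih fun y hy => hl y (by simp [hy])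
        obtain ⟨u, u1, u2, u3, u4⟩ : ∃ u, C1 ψ u ∧ Commute u (ψ t) ∧ ⁅u, ψ c⁆ = ψ x ∧
            InS ψ ⁅n * ψ a * n⁻¹, u⁆ := by
          rcases (show x = s ∨ x = x1 ∨ x = x2 by simpa using hl x (by simp)) with rfl | rfl | rfl
          exacts [⟨_, h0, et, ec, Or.inl (by simp)⟩, ⟨_, hk, kt, k2, hk0⟩, ⟨_, hk', kt', k3, hk1⟩]
        exact ⟨y * u, K.mul _ _ y1 u1, y2.mul_left u2, by
          rw [cl K y1 u1 C1_c, y3, u3, List.prod_cons, map_mul], cr K h0 y1 u1 ▸ y4.mul u4⟩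
    obtain ⟨f, hf, e⟩ := hh.2.2
    obtain ⟨l, hl, rfl⟩ := (show ∀ f ∈ lF, ∃ l ∈ [s, x1, x2].sublists, f = l.prod by decide +kernel) f hf
    obtain ⟨y, y1, y2, y3, y4⟩ := this l fun x hx => (List.mem_sublists.1 hl).subset hx
    obtain ⟨w, hw, f, hf, rfl⟩ := div K hh y1 (by rw [ht.commutator_eq, y2.commutator_eq]) (e.trans y3.symm)
    exact cr K h0 (C1_vf hw hf) y1 ▸ (vS _ h0 et ec w hw f hf).mul y4
  refine ⟨_, h0, et, ec, ?_, all⟩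
  obtain ⟨ρ, hρ, r1, r2, r3⟩ := ex_rho T K
  obtain ⟨g, hg, g1, g2⟩ := K.real x1 (by simp [lF]) 1 (by simp [lF])
  rw [map_one] at g2
  obtain ⟨f, hf, e⟩ := K.r2 a aE et (fun o => absurd (T.inj ((ec.symm.trans o.commutator_eq).trans
    (map_one ψ).symm)) (by decide +kernel)) g hg g1 (commutatorElement_eq_one_iff_commute.1 g2)
  have m := K.mul _ _ hρ (K.inv g hg)
  have e1 := all _ m (commutatorElement_eq_one_iff_commute.1 (by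
    rw [cl K hρ (K.inv g hg) C1_t, cinv K hg C1_t, g1, r1, InF.sq ⟨x1, by simp [lF], rfl⟩]))
  have e2 : ⁅ρ, n * ψ a * n⁻¹⁆ = ⁅n * ψ a * n⁻¹, ρ * g⁻¹⁆ * ψ f := by
    rw [← e, ← cr K h0 m hg, inv_mul_cancel_right, csym K h0 hρ]
  obtain ⟨w, hw, w', wE, n1, n2, n3⟩ : ∃ w ∈ lV, ∃ w' ∈ lE, n * ψ w' * n⁻¹ = ψ w ∧
      ⁅n * ψ a * n⁻¹, ψ w⁆ = ψ s ∧ InS ψ (ψ f * ⁅ρ, ψ w⁆) := by
    have fx : ∀ x, f * x = 1 ∨ f * x = s → InS ψ (ψ f * ψ x) := fun x o =>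
      map_mul ψ f x ▸ o.imp (fun o => by rw [o, map_one]) fun o => by rw [o]
    rcases (show ∀ f ∈ [x2, s * x2, x3, s * x3], (f * x3 = 1 ∨ f * x3 = s) ∨
      (f * (x1 * x3) = 1 ∨ f * (x1 * x3) = s) by decide +kernel) f hf with o | o
    · exact ⟨c, by simp [lV], c', by decide +kernel, nc, ec, r2 ▸ fx _ o⟩
    · exact ⟨t * c, by simp [lV], t' * c', by decide +kernel, by
        rw [map_mul, ← conj_mul, nt, nc, map_mul], by rw [com_tc K h0, et.commutator_eq, ec, one_mul],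
        by rw [com_tc K hρ, r1, r2, ← map_mul]; exact fx _ o⟩
  have e3 : n * ψ (a * w') * n⁻¹ = n * ψ a * n⁻¹ * ψ w := by rw [map_mul, ← conj_mul, n1]
  have e4 := Q0 T E K hρ r1 r2 r3 (E_mul' aE wE) (by
    rw [e3, cr K hρ h0 (C1_v hw), e2, mul_assoc]; exact e1.mul n3)
  have e5 := (E2_sq T.nn (E_mul' aE wE)).1
  rw [e4, map_one, e3, sq_mul K h0 (C1_v hw), n2, ← mul_one w, vf_sq K hw (by simp [lF]), mul_one] at e5
  rw [eq_inv_of_mul_eq_one_right e5, InF.inv inF_s]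

theorem jobQ : JobQ.{u} := by
  intro G _ _ ψ n L T B E K
  refine ⟨?_, fun g hg ht => alt K T.nn hg ht⟩
  obtain ⟨e, e1, e2, e3, e4, e5⟩ := ex_e0 T B E K
  have s1 : ψ s ≠ 1 := map_one ψ ▸ T.inj.ne (by decide +kernel)
  have key : ∀ g h, InA ψ g → g * g ≠ 1 → C1 ψ h → Commute h (ψ t) →
      ⁅g, h⁆ = 1 ∨ ⁅g, h⁆ = g * g := fun g h hg n1 hh ht => by
    obtain ⟨f, hf, a1⟩ := hg.1.2.2
    obtain ⟨i, -, a2⟩ := (th_s f hf).resolve_left fun o => n1 (by rw [hg.2.2.1, a1, o, map_one])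
    have a3 : ψ (th ^ i) * (g * g) * (ψ (th ^ i))⁻¹ = ψ s := by rw [hg.2.2.1, a1, pcj ψ a2]
    have a4 := same K (C1_th K hg.1 i) e1 (comm_cj ψ (th_t i) hg.2.1) e2
      (by rw [cj_com ψ (th_c i), a1, pcj ψ a2, e3]) (by rw [conj_mul, a3, e4]) (e3 ▸ s1)
      (C1_th K hh i) (comm_cj ψ (th_t i) ht)
    have a5 := e5 _ (C1_th K hh i) (comm_cj ψ (th_t i) ht)
    rw [← a4, com_c] at a5
    exact a5.imp conj_eq_one_iff.1 fun o => by simpa using o.trans a3.symm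
  have triv : ∀ g h, InA ψ g → g * g = 1 → InA ψ h → Commute g h := fun g h hg o hh => by
    obtain ⟨f, hf, rfl | rfl⟩ := hg.2.2.2 o
    · exact (cF hh.1.1 ⟨f, hf, rfl⟩).symm
    · exact map_mul ψ t f ▸ (hh.2.1.mul_right (cF hh.1.1 ⟨f, hf, rfl⟩)).symm
  intro g h hg hh
  by_cases o1 : g * g = 1
  · exact triv g h hg o1 hh
  by_cases o2 : h * h = 1
  · exact (triv h g hh o2 hg).symm
  refine commutatorElement_eq_one_iff_commute.1 ?_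
  rcases key g h hg o1 hh.1 hh.2.1 with a | a
  · exact a
  rcases key h g hh o2 hg.1 hg.2.1 with b | b
  · rw [csym K hh.1 hg.1, b]
  have o : g * g = h * h := by rw [← a, ← b, csym K hh.1 hg.1]
  rw [same K hg.1 hh.1 hg.2.1 hh.2.1 (by rw [← hg.2.2.1, ← hh.2.2.1, o]) o (hh.2.2.1 ▸ o2) hh.1 hh.2.1]
  simp

end H29.HNQ
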