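import Cfsg.Agent.H16.HN3Spec

/-! HN3-Q, part 1: finite facts. -/

set_option autoImplicit false

namespace H29.HNQ
open H16.HN3
open H90 (SL5)
open scoped commutatorElement

attribute [local instance high] List.decidableBAll List.decidableBEx

theorem vf_comm : ∀ w ∈ lV, ∀ f ∈ lF, ∀ a ∈ [s, x1, x2, t, c], w * f * a = a * (w * f) := by
  decide +kernel
theorem th_s : ∀ f ∈ lF, f = 1 ∨ ∃ k ∈ List.range 7, th ^ k * f * (th ^ k)⁻¹ = s := by decide +kernel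
theorem th_F : ∀ f ∈ lF, th * f * th⁻¹ ∈ lF := by decide +kernel
theorem F_sq : ∀ f ∈ lF, f * f = 1 := by decide +kernel
theorem E_sq : ∀ a ∈ lE, a * a = 1 ∨ a * a = s := by decide +kernel
theorem E_s : ∀ a ∈ lE, a * s = s * a := by decide +kernel
theorem E_e1 : ∀ a ∈ lE, a * e1 = e1 * a := by decide +kernel
theorem E_V : ∀ a ∈ lE, a * t = t * a ∧ a * c = c * a := by decide +kernel
theorem E_mul : ∀ a ∈ lE, ∀ b ∈ [s, x1, x2, t', c'], a * b ∈ lE := by decide +kernel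
theorem E_gen : ∀ a ∈ lE, ∃ f ∈ lF, ∃ v ∈ [1, t', c', t' * c'], a = f * v := by decide +kernel
theorem E_cen : ∀ a ∈ lE, (∀ b ∈ [x1, x2, t', c'], a * b = b * a) → a = 1 ∨ a = s := by decide +kernel
theorem E_d : ∀ a ∈ lE, d⁻¹ * a * d ∈ lE := by decide +kernel
theorem E_inv : ∀ a ∈ lE, a⁻¹ ∈ lE := by decide +kernel
theorem F_E : ∀ f ∈ lF, f ∈ lE := by decide +kernel
theorem E_F : ∀ u ∈ lE, ∀ f ∈ [x1, x3], u * f * u⁻¹ * f = 1 ∨ u * f * u⁻¹ * f = s := by decide +kernel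
theorem z_fix : ∀ w ∈ lV, ∀ f ∈ lF,
    z * (z * (w * f) * z⁻¹) * z⁻¹ * (z * (w * f) * z⁻¹) * (w * f) = 1 →
    z * (z * (w * f) * z⁻¹) * z⁻¹ * (w * f) = z * (w * f) * z⁻¹ := by decide +kernel
theorem z_cen : ∀ w ∈ lV, ∀ f ∈ lF, w * f * z = z * (w * f) → w * f = 1 ∨ w * f = s := by
  decide +kernel
theorem r_F : ∀ f ∈ lF, r' * f * r'⁻¹ = f ∨ r' * f * r'⁻¹ = s * f → f ∈ [1, s, x1, s * x1] := by
  decide +kernel

open scoped H21.MC in
theorem sl_rel : ∀ x : SL5, x ^ 3 = 1 → x ≠ 1 → ∀ y : SL5, y * y = -1 → y * x = x * x * y →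
    ∀ q : SL5, q * q = -1 →
    (q * (x * q * (x * x)) * (x * x * q * x) = 1 ∨ q * (x * q * (x * x)) * (x * x * q * x) = -1) →
    ∃ i ∈ [0, 1, 2], (q * (y * x ^ i)) ^ 3 = 1 ∨ (q * (y * x ^ i)) ^ 3 = -1 := by decide +kernel

end H29.HNQ
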