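import Cfsg.Agent.H29.HNQ1

/-! HN3-Q, part 2: commutator calculus in `C₁`. -/

set_option autoImplicit false
set_option linter.unusedSectionVars false

namespace H29.HNQ
open H16.HN3 Subgroup
open scoped commutatorElement

attribute [local instance high] List.decidableBAll List.decidableBEx

variable {G : Type*} [Group G] {ψ : A →* G} {n g h k : G} {a b w f : A}

theorem com_l (x y v : G) : ⁅x * y, v⁆ = x * ⁅y, v⁆ * x⁻¹ * ⁅x, v⁆ := by
  simp only [commutatorElement_def]; group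

theorem com_r (v x y : G) : ⁅v, x * y⁆ = ⁅v, x⁆ * (x * ⁅v, y⁆ * x⁻¹) := by
  simp only [commutatorElement_def]; group

theorem com_c (g x y : G) : ⁅g * x * g⁻¹, g * y * g⁻¹⁆ = g * ⁅x, y⁆ * g⁻¹ := by
  simp only [commutatorElement_def]; group

theorem pc (ψ : A →* G) (e : a * b = b * a) : Commute (ψ a) (ψ b) := by
  rw [Commute, SemiconjBy, ← map_mul, e, map_mul]

theorem pcj (ψ : A →* G) (e : a * w * a⁻¹ = b) : ψ a * ψ w * (ψ a)⁻¹ = ψ b := by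
  rw [← e, map_mul, map_mul, map_inv]

theorem cF (hg : CF ψ g) (hf : InF ψ h) : Commute g h := by
  obtain ⟨f, m, rfl⟩ := hf
  obtain ⟨a, b, c⟩ := hg
  simp only [lF, x3, List.mem_cons, List.not_mem_nil, or_false] at m
  rcases m with rfl | rfl | rfl | rfl | rfl | rfl | rfl | rfl <;> try simp only [map_mul, map_one]
  exacts [Commute.one_right _, a, b, a.mul_right b, c, a.mul_right c, b.mul_right c,
    a.mul_right (b.mul_right c)]

theorem InF.sq (hf : InF ψ h) : h * h = 1 := by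
  obtain ⟨f, m, rfl⟩ := hf
  rw [← map_mul, F_sq f m, map_one]

theorem InF.inv (hf : InF ψ h) : h⁻¹ = h := inv_eq_of_mul_eq_one_right (InF.sq hf)

theorem inF_one : InF ψ 1 := ⟨1, by simp [lF], (map_one ψ).symm⟩

theorem vf_c (hw : w ∈ lV) (hf : f ∈ lF) (ha : a ∈ [s, x1, x2, t, c]) : Commute (ψ (w * f)) (ψ a) :=
  pc ψ (vf_comm w hw f hf a ha)

theorem C1_vf (hw : w ∈ lV) (hf : f ∈ lF) : C1 ψ (ψ (w * f)) :=
  ⟨⟨vf_c hw hf (by simp), vf_c hw hf (by simp), vf_c hw hf (by simp)⟩,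
    by rw [(vf_c (ψ := ψ) hw hf (a := t) (by simp)).commutator_eq]; exact inF_one,
    by rw [(vf_c (ψ := ψ) hw hf (a := c) (by simp)).commutator_eq]; exact inF_one⟩

theorem C1_v (hw : w ∈ lV) : C1 ψ (ψ w) := mul_one w ▸ C1_vf hw (by simp [lF])
theorem C1_t : C1 ψ (ψ t) := C1_v (by simp [lV])
theorem C1_c : C1 ψ (ψ c) := C1_v (by simp [lV])
theorem cc : ψ c * ψ c = 1 := by rw [← map_mul, show c * c = 1 by decide +kernel, map_one]
theorem ss : ψ s * ψ s = 1 := by rw [← map_mul, show s * s = 1 by decide +kernel, map_one]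
theorem inF_s : InF ψ (ψ s) := ⟨s, by simp [lF], rfl⟩

/-- `g ∈ ⟨s⟩` -/
def InS (ψ : A →* G) (g : G) : Prop := g = 1 ∨ g = ψ s

theorem InS.mul (a : InS ψ g) (b : InS ψ h) : InS ψ (g * h) := by
  rcases a with rfl | rfl <;> rcases b with rfl | rfl <;> simp [InS, ss]

theorem InS.zp (a : InS ψ g) : g ∈ zpowers (ψ s) := by
  rcases a with rfl | rfl
  exacts [one_mem _, mem_zpowers _]

theorem InS.inF (a : InS ψ g) : InF ψ g := by
  rcases a with rfl | rfl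
  exacts [inF_one, inF_s]

theorem InS.cj (a : InS ψ g) (e : Commute h (ψ s)) : h * g * h⁻¹ = g := by
  rcases a with rfl | rfl
  exacts [by simp, e.mul_inv_cancel]

theorem cj_com (ψ : A →* G) {w' : A} (e : a * w * a⁻¹ = w') (g : G) :
    ⁅ψ a * g * (ψ a)⁻¹, ψ w'⁆ = ψ a * ⁅g, ψ w⁆ * (ψ a)⁻¹ := by rw [← pcj ψ e, com_c]

section
variable (K : Cf ψ n)
include K

theorem cl (hg : C1 ψ g) (hh : C1 ψ h) (hk : C1 ψ k) : ⁅g * h, k⁆ = ⁅h, k⁆ * ⁅g, k⁆ := by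
  rw [com_l, (cF hg.1 (K.comm h k hh hk)).mul_inv_cancel]

theorem cr (hg : C1 ψ g) (hh : C1 ψ h) (hk : C1 ψ k) : ⁅g, h * k⁆ = ⁅g, h⁆ * ⁅g, k⁆ := by
  rw [com_r, (cF hh.1 (K.comm g k hg hk)).mul_inv_cancel]

theorem csym (hg : C1 ψ g) (hh : C1 ψ h) : ⁅h, g⁆ = ⁅g, h⁆ := by
  rw [← commutatorElement_inv, InF.inv (K.comm g h hg hh)]

theorem cinv (hg : C1 ψ g) (hh : C1 ψ h) : ⁅g⁻¹, h⁆ = ⁅g, h⁆ := by
  have := cl K hg (K.inv g hg) hh
  rw [mul_inv_cancel, commutatorElement_one_left, eq_comm, mul_eq_one_iff_eq_inv] at this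
  rw [this, InF.inv (K.comm g h hg hh)]

theorem div (hg : C1 ψ g) (hh : C1 ψ h) (e1 : ⁅g, ψ t⁆ = ⁅h, ψ t⁆) (e2 : ⁅g, ψ c⁆ = ⁅h, ψ c⁆) :
    ∃ w ∈ lV, ∃ f ∈ lF, g = ψ (w * f) * h := by
  have m := K.mul _ _ hg (K.inv h hh)
  have key : ∀ x, C1 ψ x → ⁅g, x⁆ = ⁅h, x⁆ → Commute (g * h⁻¹) x := fun x hx e =>
    commutatorElement_eq_one_iff_commute.1 (by
      rw [cl K hg (K.inv h hh) hx, cinv K hh hx, e, InF.sq (K.comm h x hh hx)])
  obtain ⟨w, hw, f, hf, e⟩ := K.ker _ m.1 (key _ C1_t e1) (key _ C1_c e2)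
  exact ⟨w, hw, f, hf, mul_inv_eq_iff_eq_mul.1 e⟩

theorem com_vf (hg : C1 ψ g) (hf : f ∈ lF) : ⁅g, ψ (w * f)⁆ = ⁅g, ψ w⁆ := by
  rw [map_mul, com_r, (cF hg.1 ⟨f, hf, rfl⟩).commutator_eq]; simp

theorem com_tc (hg : C1 ψ g) : ⁅g, ψ (t * c)⁆ = ⁅g, ψ t⁆ * ⁅g, ψ c⁆ := by
  rw [map_mul, cr K hg C1_t C1_c]

/-- the value of `δ` on `V₀` for an element of `D` -/
theorem com_v (hg : C1 ψ g) (ht : Commute g (ψ t)) (hw : w ∈ lV) :
    (⁅g, ψ w⁆ = 1 ∧ (w = 1 ∨ w = t)) ∨ ⁅g, ψ w⁆ = ⁅g, ψ c⁆ := by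
  simp only [lV, List.mem_cons, List.not_mem_nil, or_false] at hw
  rcases hw with rfl | rfl | rfl | rfl
  · simp
  · exact Or.inl ⟨ht.commutator_eq, Or.inr rfl⟩
  · exact Or.inr rfl
  · exact Or.inr (by rw [com_tc K hg, ht.commutator_eq, one_mul])

theorem sq_mul (hg : C1 ψ g) (hh : C1 ψ h) : g * h * (g * h) = ⁅g, h⁆ * (g * g) * (h * h) := by
  have := cF hg.1 (K.comm h g hh hg)
  calc g * h * (g * h) = g * ⁅h, g⁆ * (g * h * h) := by simp only [commutatorElement_def]; group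
    _ = _ := by rw [this.eq, csym K hg hh]; group

theorem vf_sq (hw : w ∈ lV) (hf : f ∈ lF) : ψ (w * f) * ψ (w * f) = 1 := by
  have : ∀ w ∈ lV, ∀ f ∈ lF, w * f * (w * f) = 1 := by decide +kernel
  rw [← map_mul, this w hw f hf, map_one]

/-- two elements of `A` with the same square differ by an element of `⟨t⟩ F` -/
theorem same (hg : C1 ψ g) (hh : C1 ψ h) (tg : Commute g (ψ t)) (th : Commute h (ψ t))
    (e : ⁅g, ψ c⁆ = ⁅h, ψ c⁆) (e' : g * g = h * h) (ne : ⁅h, ψ c⁆ ≠ 1) (hk : C1 ψ k)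
    (tk : Commute k (ψ t)) : ⁅g, k⁆ = ⁅h, k⁆ := by
  obtain ⟨w, hw, f, hf, rfl⟩ := div K hg hh (by rw [tg.commutator_eq, th.commutator_eq]) e
  rw [sq_mul K (C1_vf hw hf) hh, vf_sq K hw hf, mul_one, mul_eq_right, csym K hh (C1_vf hw hf),
    com_vf K hh hf] at e'
  rcases com_v K hh th hw with ⟨-, c⟩ | c
  · rw [cl K (C1_vf hw hf) hh hk, csym K hk (C1_vf hw hf), com_vf K hk hf]
    rcases c with rfl | rfl
    · simp
    · rw [tk.commutator_eq, mul_one]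
  · exact (ne (c.symm.trans e')).elim

theorem C1_th (hg : C1 ψ g) (i : ℕ) : C1 ψ (ψ (th ^ i) * g * (ψ (th ^ i))⁻¹) := by
  induction i with
  | zero => simpa using hg
  | succ i ih =>
    have := K.nor th (by simp) _ ih
    rwa [show ψ th * (ψ (th ^ i) * g * (ψ (th ^ i))⁻¹) * (ψ th)⁻¹ =
      ψ th * ψ (th ^ i) * g * (ψ th * ψ (th ^ i))⁻¹ by group, ← map_mul, ← pow_succ'] at this

end

theorem th_t (i : ℕ) : th ^ i * t * (th ^ i)⁻¹ = t :=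
  (Commute.pow_left (show th * t = t * th by decide +kernel) i).mul_inv_cancel

theorem th_c (i : ℕ) : th ^ i * c * (th ^ i)⁻¹ = c :=
  (Commute.pow_left (show th * c = c * th by decide +kernel) i).mul_inv_cancel

theorem comm_cj (ψ : A →* G) (e : a * w * a⁻¹ = w) (hg : Commute g (ψ w)) :
    Commute (ψ a * g * (ψ a)⁻¹) (ψ w) :=
  commutatorElement_eq_one_iff_commute.1 (by rw [cj_com ψ e, hg.commutator_eq]; simp)

theorem ns (e : n * n = ψ s) : Commute n (ψ s) := e ▸ (Commute.refl n).mul_right (Commute.refl n)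

theorem E2_sq (e : n * n = ψ s) (ha : a ∈ lE) :
    n * ψ a * n⁻¹ * (n * ψ a * n⁻¹) = ψ (a * a) ∧ InS ψ (ψ (a * a)) := by
  have : InS ψ (ψ (a * a)) := (E_sq a ha).imp (fun e => by rw [e, map_one]) fun e => by rw [e]
  exact ⟨by rw [conj_mul, ← map_mul, this.cj (ns e)], this⟩

theorem alt (K : Cf ψ n) (e : n * n = ψ s) (hg : C1 ψ g) (ht : Commute g (ψ t)) :
    InA ψ g ∨ InA ψ (g * ψ c) := by
  have hc := K.mul _ _ hg C1_c
  have tc : Commute (g * ψ c) (ψ t) := ht.mul_left (pc ψ (by decide +kernel))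
  have e1 : ⁅g * ψ c, ψ c⁆ = ⁅g, ψ c⁆ := by rw [cl K hg C1_c C1_c]; simp
  have e2 : g * ψ c * (g * ψ c) = ⁅g, ψ c⁆ * (g * g) := by rw [sq_mul K hg C1_c, cc, mul_one]
  by_cases n1 : ⁅g, ψ c⁆ = 1
  · obtain ⟨w, hw, f, hf, rfl⟩ := K.ker g hg.1 ht (commutatorElement_eq_one_iff_commute.1 n1)
    have : ∀ w ∈ lV, ∀ f ∈ lF, (w * f = f ∨ w * f = t * f) ∨ (w * f * c = f ∨ w * f * c = t * f) := by
      decide +kernel
    refine (this w hw f hf).imp (fun a => ⟨hg, ht, by rw [vf_sq K hw hf, n1], fun _ =>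
      ⟨f, hf, a.imp (congrArg ψ) (congrArg ψ)⟩⟩) fun a => ⟨hc, tc, by rw [e1, e2, vf_sq K hw hf, mul_one],
      fun _ => ⟨f, hf, map_mul ψ _ c ▸ a.imp (congrArg ψ) (congrArg ψ)⟩⟩
  obtain ⟨f, hf, e3⟩ := hg.2.2
  obtain ⟨i, -, e4⟩ := (th_s f hf).resolve_left fun c => n1 (by rw [e3, c, map_one])
  have m := C1_th K hg i
  have e5 : ⁅ψ (th ^ i) * g * (ψ (th ^ i))⁻¹, ψ c⁆ = ψ s := by rw [cj_com ψ (th_c i), e3, pcj ψ e4]
  obtain ⟨a, ha, f', hf', e6⟩ := K.rk _ m ((comm_cj ψ (th_t i) ht).commutator_eq ▸ one_mem _)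
    (e5 ▸ mem_zpowers _)
  have e7 : ψ (th ^ i) * (g * g) * (ψ (th ^ i))⁻¹ = ψ (a * a) := by
    rw [← conj_mul, e6, (cF (K.E2 a ha).1 ⟨f', hf', rfl⟩).symm.mul_mul_mul_comm, (E2_sq e ha).1,
      ← map_mul ψ f', F_sq f' hf', map_one, mul_one]
  rcases (E2_sq e ha).2 with o | o
  · rw [o, conj_eq_one_iff] at e7
    exact Or.inr ⟨hc, tc, by rw [e1, e2, e7, mul_one], fun c => (n1 (by rwa [e2, e7, mul_one] at c)).elim⟩
  · have : g * g = ⁅g, ψ c⁆ := by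
      rw [o, ← pcj ψ e4, ← e3] at e7
      simpa using e7
    exact Or.inl ⟨hg, ht, this, fun c => (n1 (this ▸ c)).elim⟩

end H29.HNQ
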