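import Cfsg.Agent.H29.HNQ2

/-! HN3-Q, part 3: the element `ρ` and the braid relation. -/

set_option autoImplicit false
set_option linter.unusedSectionVars false

namespace H29.HNQ
open H16.HN3 Subgroup H42.L3
open H90 (SL5)
open scoped commutatorElement

attribute [local instance high] List.decidableBAll List.decidableBEx

variable {G : Type*} [Group G] {ψ : A →* G} {n g h k ρ : G} {a b w f : A} {L : Subgroup G}

theorem C1_cj (K : Cf ψ n) (l : List A) (hl : ∀ a ∈ l, a ∈ [e1, p, r', th, t', c', x1, x2])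
    (hg : C1 ψ g) : C1 ψ (ψ l.prod * g * (ψ l.prod)⁻¹) := by
  induction l with
  | nil => simpa using hg
  | cons a l ih =>
    have := K.nor a (hl a (by simp)) _ (ih fun b hb => hl b (by simp [hb]))
    rwa [show ψ a * (ψ l.prod * g * (ψ l.prod)⁻¹) * (ψ a)⁻¹ =
      ψ a * ψ l.prod * g * (ψ a * ψ l.prod)⁻¹ by group, ← map_mul, ← List.prod_cons] at this

theorem C1_z (K : Cf ψ n) (hg : C1 ψ g) : C1 ψ (ψ z * g * (ψ z)⁻¹) :=
  (show [e1, p].prod = z by decide +kernel) ▸ C1_cj K [e1, p] (by simp) hg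

theorem C1_d (K : Cf ψ n) (hg : C1 ψ g) : C1 ψ (ψ d * g * (ψ d)⁻¹) :=
  (show [e1, p, p].prod = d by decide +kernel) ▸ C1_cj K [e1, p, p] (by simp) hg

/-- `δ` of a conjugate by an element rotating `V₀` -/
theorem rot (K : Cf ψ n) (h1 : a * c * a⁻¹ = t) (h2 : a * (t * c) * a⁻¹ = c) (hg : C1 ψ g)
    {f1 f2 : A} (e1 : ⁅g, ψ t⁆ = ψ f1) (e2 : ⁅g, ψ c⁆ = ψ f2) :
    ⁅ψ a * g * (ψ a)⁻¹, ψ t⁆ = ψ (a * f2 * a⁻¹) ∧
      ⁅ψ a * g * (ψ a)⁻¹, ψ c⁆ = ψ (a * (f1 * f2) * a⁻¹) :=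
  ⟨by rw [cj_com ψ h1, e2, pcj ψ rfl], by rw [cj_com ψ h2, com_tc K hg, e1, e2, ← map_mul, pcj ψ rfl]⟩

theorem ex_rho (T : St ψ n L) (K : Cf ψ n) :
    ∃ ρ, C1 ψ ρ ∧ ⁅ρ, ψ t⁆ = ψ x1 ∧ ⁅ρ, ψ c⁆ = ψ x3 ∧ Commute ρ (ψ z) := by
  obtain ⟨g, hg, e1, e2⟩ := K.real x1 (by simp [lF]) x3 (by simp [lF])
  obtain ⟨a1, a2⟩ := rot K (a := z) (by decide +kernel) (by decide +kernel) hg e1 e2
  rw [show z * x3 * z⁻¹ = x1 by decide +kernel, ← e1] at a1
  rw [show z * (x1 * x3) * z⁻¹ = x3 by decide +kernel, ← e2] at a2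
  obtain ⟨w, hw, f, hf, e⟩ := div K (C1_z K hg) hg a1 a2
  have z3 : ψ z * ψ z * ψ z = 1 := by
    rw [← map_mul, ← map_mul, show z * z * z = 1 by decide +kernel, map_one]
  have e3 := z_fix w hw f hf (T.inj (by
    refine mul_right_cancel (b := g) ?_
    rw [map_mul, map_mul, ← pcj ψ (a := z) (w := z * (w * f) * z⁻¹) rfl, ← pcj ψ (a := z) (w := w * f) rfl,
      map_one, ← mul_inv_eq_iff_eq_mul.2 e]
    calc _ = ψ z * ψ z * ψ z * g * (ψ z * ψ z * ψ z)⁻¹ := by group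
      _ = _ := by rw [z3]; group))
  have m := C1_z K (C1_vf (ψ := ψ) hw hf)
  have dv : ∀ x ∈ [t, c], ⁅ψ z * ψ (w * f) * (ψ z)⁻¹ * g, ψ x⁆ = ⁅g, ψ x⁆ := fun x hx => by
    have : ∀ w ∈ lV, ∀ f ∈ lF, ∀ x ∈ [t, c], z * (w * f) * z⁻¹ * x = x * (z * (w * f) * z⁻¹) := by
      decide +kernel
    rw [cl K m hg (C1_v (by simp at hx; rcases hx with rfl | rfl <;> simp [lV])), pcj ψ rfl,
      (pc ψ (this w hw f hf x hx)).commutator_eq, mul_one]
  refine ⟨_, K.mul _ _ m hg, (dv t (by simp)).trans e1, (dv c (by simp)).trans e2,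
    (mul_inv_eq_iff_eq_mul.1 ?_).symm⟩
  rw [← conj_mul, e, ← mul_assoc, pcj ψ rfl, pcj ψ rfl, ← map_mul, e3]

theorem n_d (T : St ψ n L) : n * ψ d * n⁻¹ = (ψ d)⁻¹ := by
  rw [d, p, map_mul, map_inv, map_mul, ← conj_mul, ← conj_inv, ← conj_mul, T.n1, T.n2, T.n3,
    ← map_mul, ← map_inv, ← map_mul, ← map_mul, ← map_inv, ← map_mul, ← map_inv]
  exact congrArg ψ (by decide +kernel)

theorem braid (T : St ψ n L) (K : Cf ψ n) (hρ : C1 ψ ρ) (h1 : ⁅ρ, ψ t⁆ = ψ x1)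
    (h2 : ⁅ρ, ψ c⁆ = ψ x3) (hz : Commute ρ (ψ z)) :
    ρ * ρ = ψ s ∧ ∃ i : ℕ, InS ψ ((ρ * (n * ψ d ^ i)) ^ 3) := by
  obtain ⟨φ⟩ := T.Liso
  have r4 : ρ * ρ * (ρ * ρ) = 1 := InF.sq (K.sq ρ hρ)
  have hL : ρ ∈ L := by
    obtain ⟨i, l, hl, e⟩ := T.czs ρ ⟨mem_Ce.2 hz, mem_Ce.2 hρ.1.1⟩
    have c : Commute (ψ z ^ i) l := (Commute.symm (mem_Ce.1 (T.Lle hl).1)).pow_left i
    have : ρ = l ^ 9 := by
      calc ρ = ρ * ρ * (ρ * ρ) * (ρ * ρ * (ρ * ρ)) * ρ := by rw [r4]; group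
        _ = ρ ^ 9 := by simp only [pow_succ, pow_zero, one_mul, mul_assoc]
        _ = l ^ 9 := by
          rw [e, c.mul_pow, ← pow_mul, mul_comm i, pow_mul, ← map_pow,
            show z ^ 9 = 1 by decide +kernel, map_one, one_pow, one_mul]
    exact this ▸ pow_mem hl 9
  have sL : ψ s ∈ L := T.nn ▸ mul_mem T.nL T.nL
  have s1 : ψ s ≠ 1 := map_one ψ ▸ T.inj.ne (by decide +kernel)
  have φs : φ ⟨_, sL⟩ = -1 := (H21.MC.sl_inv _ (by
    rw [← map_mul, ← map_one φ]; exact congrArg φ (Subtype.ext ss))).resolve_left fun e =>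
      s1 (congrArg Subtype.val (φ.map_eq_one_iff.1 e))
  have key : ∀ x : L, φ x = 1 ∨ φ x = -1 ↔ InS ψ x := fun x => by
    rw [← φs, φ.map_eq_one_iff, φ.apply_eq_iff_eq, Subtype.ext_iff, Subtype.ext_iff]; rfl
  have vz : ∀ x ∈ L, ∀ w ∈ lV, ∀ f ∈ lF, x = ψ (w * f) → InS ψ x := fun x hx w hw f hf e =>
    (z_cen w hw f hf (T.inj (by rw [map_mul, map_mul _ z, ← e]; exact mem_Ce.1 (T.Lle hx).1))).imp
      (fun o => by rw [e, o, map_one]) fun o => by rw [e, o]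
  have rr : ρ * ρ = ψ s := by
    obtain ⟨f, hf, e⟩ := K.sq ρ hρ
    refine (vz _ (mul_mem hL hL) 1 (by simp [lV]) f hf (by rw [one_mul, e])).resolve_left fun o => ?_
    have := (key ⟨ρ, hL⟩).1 (H21.MC.sl_inv _ (by
      rw [← map_mul, ← map_one φ]; exact congrArg φ (Subtype.ext o)))
    have c : Commute ρ (ψ t) := cF (g := ψ t) C1_t.1 this.inF |>.symm
    rw [c.commutator_eq, ← map_one ψ] at h1
    exact absurd (T.inj h1) (by decide +kernel)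
  refine ⟨rr, ?_⟩
  have m1 := C1_d K hρ
  have m2 := C1_d K m1
  obtain ⟨a1, a2⟩ := rot K (a := d) (by decide +kernel) (by decide +kernel) hρ h1 h2
  obtain ⟨b1, b2⟩ := rot K (a := d) (by decide +kernel) (by decide +kernel) m1 a1 a2
  have m3 := K.mul _ _ (K.mul _ _ hρ m1) m2
  obtain ⟨w, hw, f, hf, e⟩ := K.ker _ m3.1 (commutatorElement_eq_one_iff_commute.1 (by
      rw [cl K (K.mul _ _ hρ m1) m2 C1_t, cl K hρ m1 C1_t, a1, b1, h1, ← map_mul, ← map_mul,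
        ← map_one ψ]
      exact congrArg ψ (by decide +kernel))) (commutatorElement_eq_one_iff_commute.1 (by
      rw [cl K (K.mul _ _ hρ m1) m2 C1_c, cl K hρ m1 C1_c, a2, b2, h2, ← map_mul, ← map_mul,
        ← map_one ψ]
      exact congrArg ψ (by decide +kernel)))
  have d3 : ψ d ^ 3 = 1 := by rw [← map_pow, show d ^ 3 = 1 by decide +kernel, map_one]
  have di : (ψ d)⁻¹ = ψ d * ψ d := inv_eq_of_mul_eq_one_right (by rw [← d3, pow_three])
  let D : L := ⟨_, T.dL⟩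
  let N : L := ⟨_, T.nL⟩
  let R : L := ⟨_, hL⟩
  obtain ⟨i, -, o⟩ := sl_rel (φ D) (by rw [← map_pow, ← map_one φ]; exact congrArg φ (Subtype.ext d3))
    (fun e => absurd (T.inj ((congrArg Subtype.val (φ.map_eq_one_iff.1 e)).trans (map_one ψ).symm))
      (by decide +kernel)) (φ N) (by rw [← map_mul, ← φs]; exact congrArg φ (Subtype.ext T.nn))
    (by
      rw [← map_mul, ← map_mul, ← map_mul]
      exact congrArg φ (Subtype.ext (mul_inv_eq_iff_eq_mul.1 ((n_d T).trans di))))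
    (φ R) (by rw [← map_mul, ← φs]; exact congrArg φ (Subtype.ext rr)) (by
      simp only [← map_mul]
      refine (key _).2 (vz _ (R * (D * R * (D * D)) * (D * D * R * D)).2 w hw f hf ?_)
      rw [← e]
      show ρ * (ψ d * ρ * (ψ d * ψ d)) * (ψ d * ψ d * ρ * ψ d) = _
      have d2 : (ψ d)⁻¹ * (ψ d)⁻¹ = ψ d := by rw [← mul_inv_rev, ← di, inv_inv]
      rw [show ψ d * (ψ d * ρ * (ψ d)⁻¹) * (ψ d)⁻¹ = ψ d * ψ d * ρ * ((ψ d)⁻¹ * (ψ d)⁻¹) by group, d2, di])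
  exact ⟨i, (key ((R * (N * D ^ i)) ^ 3)).1 (by simpa only [map_mul, map_pow] using o)⟩

theorem E_mul' (ha : a ∈ lE) (hb : b ∈ lE) : a * b ∈ lE := by
  have h0 : ∀ l : List A, (∀ x ∈ l, x ∈ [s, x1, x2, t', c']) → a * l.prod ∈ lE := fun l => by
    induction l using List.reverseRecOn with
    | nil => simpa using ha
    | append_singleton l x ih =>
      intro hl
      rw [List.prod_append, List.prod_singleton, ← mul_assoc]
      exact E_mul _ (ih fun y hy => hl y (by simp [hy])) x (hl x (by simp))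
  have : ∀ b ∈ lE, ∃ l ∈ [s, x1, x2, t', c'].sublists, b = l.prod := by decide +kernel
  obtain ⟨l, hl, rfl⟩ := this b hb
  exact h0 l fun x hx => (List.mem_sublists.1 hl).subset hx

theorem E_dp (ha : a ∈ lE) (i : ℕ) : (d ^ i)⁻¹ * a * d ^ i ∈ lE := by
  induction i with
  | zero => simpa using ha
  | succ i ih =>
    have := E_d _ ih
    rwa [show d⁻¹ * ((d ^ i)⁻¹ * a * d ^ i) * d = (d ^ (i + 1))⁻¹ * a * d ^ (i + 1) by group] at this

theorem E_dp' (ha : a ∈ lE) (i : ℕ) : d ^ i * a * (d ^ i)⁻¹ ∈ lE := by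
  have := E_dp ha (2 * i)
  have e : d ^ (2 * i) = (d ^ i)⁻¹ := eq_inv_of_mul_eq_one_left (by
    rw [← pow_add, show 2 * i + i = 3 * i by ring, pow_mul, show d ^ 3 = 1 by decide +kernel, one_pow])
  rwa [e, inv_inv] at this

theorem C1_E (K : Cf ψ n) (ha : a ∈ lE) (hg : C1 ψ g) : C1 ψ (ψ a * g * (ψ a)⁻¹) := by
  obtain ⟨f, hf, v, hv, rfl⟩ := E_gen a ha
  have h1 : C1 ψ (ψ v * g * (ψ v)⁻¹) := by
    simp only [List.mem_cons, List.not_mem_nil, or_false] at hv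
    rcases hv with rfl | rfl | rfl | rfl
    · simpa using hg
    · exact K.nor _ (by simp) g hg
    · exact K.nor _ (by simp) g hg
    · simpa using C1_cj K [t', c'] (by simp) hg
  rwa [map_mul, show ψ f * ψ v * g * (ψ f * ψ v)⁻¹ = ψ f * (ψ v * g * (ψ v)⁻¹) * (ψ f)⁻¹ by group,
    (cF h1.1 ⟨f, hf, rfl⟩).symm.mul_inv_cancel]

end H29.HNQ
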