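import Cfsg.Agent.H29.J2sB

/-! `H40.SP.JobJ2s`: counting Sylow 3-subgroups. -/

set_option autoImplicit false
set_option linter.unusedSectionVars false

namespace H29.J2
open Subgroup H40.SP MulAction

variable {S : Type*} [Group S] [Finite S]

/-- the Sylow subgroups that contain `A` -/
def Fx (A : Subgroup S) : Set (Sylow 3 S) := {R | A ≤ R}

theorem mem_smul {g a : S} {R : Sylow 3 S} :
    a ∈ ((g • R : Sylow 3 S) : Subgroup S) ↔ g⁻¹ * a * g ∈ (R : Subgroup S) := H98.mem_cj

theorem smul_mem_Fx {A : Subgroup S} {g : S} (hg : g ∈ centralizer (A : Set S)) {R : Sylow 3 S} :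
    g • R ∈ Fx A ↔ R ∈ Fx A := by
  refine forall₂_congr fun a ha => ?_
  rw [mem_smul, mul_assoc, mem_centralizer_iff.mp hg a ha, inv_mul_cancel_left]

theorem Hy.main (H : Hy S) (h9 : 9 ∈ om S) : False := by
  have hall : ∀ R : Sylow 3 S, ∃ x ∈ (R : Subgroup S), x ^ 3 ≠ 1 := by
    intro R
    obtain ⟨x, hx⟩ := h9
    obtain ⟨Q, hQ⟩ := (H98.isPGroup_zpowers (p := 3) (k := 2) (x := x)
      (by rw [← orderOf_dvd_iff_pow_eq_one, hx]; decide)).exists_le_sylow
    obtain ⟨g, rfl⟩ := exists_smul_eq S Q R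
    refine ⟨g * x * g⁻¹, mem_smul.mpr (by simpa [mul_assoc] using hQ (mem_zpowers x)), ?_⟩
    rw [conj_pow, ne_eq, conj_eq_one_iff, ← orderOf_dvd_iff_pow_eq_one, hx]; decide
  have cm : ∀ (R : Sylow 3 S) {A : Subgroup S}, A ≤ R → (R : Subgroup S) ≤ centralizer (A : Set S) :=
    fun R A hA g hg => by
      obtain ⟨x, hx, h3⟩ := hall R
      exact mem_centralizer_iff.mpr fun a ha => (H.ab hx h3).1 a (hA ha) g hg
  obtain ⟨P⟩ : Nonempty (Sylow 3 S) := inferInstance
  obtain ⟨x, hx, h3⟩ := hall P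
  have OP : H.Om P ≤ P := fun g hg => (H.mem_Om.mp hg).1
  have cf : ∀ y ∈ (P : Subgroup S), y ≠ 1 →
      (Fx (zpowers y)).ncard * 27 = Nat.card (centralizer {y}) := by
    intro y hy y1
    have hA : zpowers y ≤ P := zpowers_le.mpr hy
    have eC : centralizer (zpowers y : Set S) = centralizer {y} := by
      rw [zpowers_eq_closure, centralizer_closure]
    have h1 : Fx (zpowers y) = orbit (centralizer ({y} : Set S)) P := by
      ext R
      constructor
      · intro hR
        obtain ⟨g, hg, e⟩ := (H98.isSyl_sylow_of_le P (eC ▸ cm P hA)).exists_cj_eq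
          (H98.isSyl_sylow_of_le R (eC ▸ cm R hR))
        exact ⟨⟨g, hg⟩, Sylow.ext e⟩
      · rintro ⟨g, rfl⟩
        exact (smul_mem_Fx (eC.ge g.2)).mpr hA
    have h2 : stabilizer (centralizer ({y} : Set S)) P = (P : Subgroup S).subgroupOf _ := by
      ext g
      rw [mem_stabilizer_iff, mem_subgroupOf]
      change (g : S) • P = P ↔ _
      rw [Sylow.smul_eq_iff_mem_normalizer]
      exact ⟨fun h => (H.ab hx h3).2 y hy y1 g h (mem_centralizer_singleton_iff.mp g.2),
        fun h => le_normalizer h⟩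
    rw [h1, ← index_stabilizer, h2, ← H.cP P,
      ← Nat.card_congr (subgroupOfEquivOfLe (eC ▸ cm P hA)).toEquiv, index_mul_card]
  have df : ∀ (A : Subgroup S) (m : ℕ), A ≤ H.Om P →
      (∀ R : Sylow 3 S, ¬ H.Om P ≤ R → m ∣ ((R : Subgroup S).subgroupOf P).index) →
      ∃ c, (Fx A).ncard = (Fx (H.Om P)).ncard + m * c := by
    intro A m hA h
    obtain ⟨c, hc⟩ : m ∣ (Fx A \ Fx (H.Om P)).ncard := by
      refine H87.dvd_ncard_of_orbits (G := (P : Subgroup S)) m _ ?_ ?_
      · rintro g R ⟨p1, p2⟩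
        exact ⟨(smul_mem_Fx (cm P (hA.trans OP) g.2)).mpr p1,
          fun h => p2 ((smul_mem_Fx (cm P OP g.2)).mp h)⟩
      · rintro R ⟨-, p2⟩
        rw [H87.card_orbit_eq_index, H87.stabilizer_sylow_eq _ P.isPGroup']
        exact h R p2
    refine ⟨c, ?_⟩
    have hs : Fx (H.Om P) ⊆ Fx A := fun R hR => hA.trans hR
    rw [← hc, add_comm, Set.ncard_sdiff_add_ncard_of_subset hs]
  have io : ∀ R : Sylow 3 S, ¬ H.Om P ≤ R → (R : Subgroup S) ⊓ P ≤ H.Om P := by
    rintro R hR g ⟨g1, g2⟩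
    refine H.mem_Om.mpr ⟨g2, ?_⟩
    by_contra g3
    have hp := H.c9 ((H.ord P g2).2 g3)
    have e : ∀ Q : Sylow 3 S, g ∈ (Q : Subgroup S) → centralizer {g} = (Q : Subgroup S) :=
      fun Q hQ => Q.is_maximal' hp fun a ha => mem_centralizer_singleton_iff.mpr
        (mem_centralizer_iff.mp (cm Q le_rfl hQ) a ha)
    exact hR (OP.trans ((e P g2).symm.trans (e R g1)).le)
  have ix : ∀ R : Sylow 3 S, ((R : Subgroup S).subgroupOf P).index *
      Nat.card ((R : Subgroup S) ⊓ P : Subgroup S) = 27 := fun R => by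
    rw [← H.cP P, ← inf_subgroupOf_right,
      ← Nat.card_congr (subgroupOfEquivOfLe (inf_le_right : (R : Subgroup S) ⊓ P ≤ P)).toEquiv,
      index_mul_card]
  have d9 : ∀ R : Sylow 3 S, ¬ H.Om P ≤ R → 9 ∣ ((R : Subgroup S).subgroupOf P).index := by
    intro R hR
    have p1 := card_dvd_of_le (io R hR)
    have p2 : Nat.card ((R : Subgroup S) ⊓ P : Subgroup S) ≠ 9 := fun e => hR
      ((eq_of_le_of_card_ge (io R hR) (by rw [e, H.card_Om hx h3])).ge.trans inf_le_left)
    have p3 := ix R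
    rw [H.card_Om hx h3] at p1
    have := Nat.le_of_dvd (by norm_num) p1
    generalize Nat.card ((R : Subgroup S) ⊓ P : Subgroup S) = k at p1 p2 p3 this
    interval_cases k <;> omega
  have tot : (Fx (⊥ : Subgroup S)).ncard = 11200 := by
    rw [show Fx (⊥ : Subgroup S) = Set.univ from Set.eq_univ_of_forall fun R =>
      (bot_le : ⊥ ≤ (R : Subgroup S)),
      Set.ncard_univ, (H.cN hx h3).2]
  obtain ⟨c0, e0⟩ := df ⊥ 9 bot_le d9
  have four : ∀ y ∈ H.Om P, y ≠ 1 → (Fx (zpowers y)).ncard = 4 := by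
    intro y hy y1
    obtain ⟨c, e⟩ := df _ 9 (zpowers_le.mpr hy) d9
    have oy : orderOf y = 3 := orderOf_eq_prime (H.mem_Om.mp hy).2 y1
    have p1 := cf y (OP hy) y1
    generalize (Fx (zpowers y)).ncard = k at e p1 ⊢
    have p2 : k ∣ 3200 * 7 := by
      have := card_subgroup_dvd_card (centralizer {y})
      rw [← p1, H.card] at this
      exact Nat.dvd_of_mul_dvd_mul_right (by norm_num : 0 < 27) this
    have p3 : k.Coprime 7 := by
      rw [Nat.coprime_comm, Nat.Prime.coprime_iff_not_dvd (by decide)]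
      intro h
      obtain ⟨a, ha, oa⟩ := exists_ord (K := centralizer {y}) (by decide : Nat.Prime 7)
        (p1 ▸ h.mul_right 27)
      exact H.nc oa oy (mem_centralizer_singleton_iff.mp ha) (by decide) (k := 21) (by simp)
        (by decide)
    have p4 : k ∈ Nat.divisors 3200 := Nat.mem_divisors.mpr ⟨p3.dvd_of_dvd_mul_right p2, by decide⟩
    have p5 : ∀ k ∈ Nat.divisors 3200, k % 9 = 4 → k = 4 ∨ k = 40 ∨ k = 400 := by decide +kernel
    refine (p5 k p4 (by omega)).resolve_right fun p6 => ?_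
    have hPC : (P : Subgroup S) ≤ centralizer {y} := fun a ha =>
      mem_centralizer_singleton_iff.mpr ((H.ab hx h3).1 a ha y (OP hy))
    obtain ⟨K, -, hK⟩ := npc (P.subtype hPC)
      (fun a ha b hb => Subtype.ext ((H.ab hx h3).1 _ ha _ hb)) (fun g hg => by
        refine (H.ab hx h3).2 y (OP hy) y1 g ?_ (mem_centralizer_singleton_iff.mp g.2)
        refine mem_normalizer_iff.mpr fun a => ⟨fun ha => ?_, fun ha => ?_⟩
        · exact (mem_normalizer_iff.mp hg ⟨a, hPC ha⟩).mp ha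
        · have m : a ∈ centralizer {y} := by
            simpa [mul_assoc] using mul_mem (mul_mem (inv_mem g.2) (hPC ha)) g.2
          exact (mem_normalizer_iff.mp hg ⟨a, m⟩).mpr ha)
    have cs : Nat.card (P.subtype hPC) = 27 :=
      (Nat.card_congr (subgroupOfEquivOfLe hPC).toEquiv).trans (H.cP P)
    rw [cs, ← p1] at hK
    obtain ⟨a, b, oa, ob, hab⟩ := g40 (G := K) (by omega)
    have o10 := hab.orderOf_mul_eq_mul_orderOf_of_coprime (by rw [oa, ob]; decide)
    rw [oa, ob, ← orderOf_coe, ← orderOf_coe] at o10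
    exact H.nc o10 oy (mem_centralizer_singleton_iff.mp ((a * b : K) : centralizer ({y} : Set S)).2)
      (by decide) (k := 30) (by simp) (by decide)
  have eq4 : ∀ y ∈ H.Om P, y ≠ 1 → Fx (H.Om P) = Fx (zpowers y) := by
    intro y hy y1
    obtain ⟨c, e⟩ := df _ 9 (zpowers_le.mpr hy) d9
    rw [four y hy y1] at e
    exact Set.eq_of_subset_of_ncard_le (fun R hR => (zpowers_le.mpr hy).trans hR)
      (by rw [four y hy y1]; omega)
  obtain ⟨c1, e1⟩ := df ⊥ 27 bot_le fun R hR => by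
    have p1 : (R : Subgroup S) ⊓ P = ⊥ := by
      rw [eq_bot_iff]
      intro y hy
      by_contra y1
      have : R ∈ Fx (zpowers y) := zpowers_le.mpr hy.1
      rw [← eq4 y (io R hR hy) y1] at this
      exact hR this
    have := ix R
    rw [p1, card_bot, mul_one] at this
    rw [this]
  have x3 : x ^ 3 ∈ H.Om P := H.mem_Om.mpr ⟨pow_mem hx 3, by rw [← pow_mul]; exact (H.ord P hx).1⟩
  rw [eq4 _ x3 h3, four _ x3 h3, tot] at e1
  omega

universe u

theorem jobJ2s : JobJ2s.{u} := fun _ _ _ h1 h2 h3 h4 => Hy.main ⟨h1, h2, h4⟩ h3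

end H29.J2
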