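import Cfsg.Agent.H29.J2sA
import Cfsg.Agent.H40.SPSpec
import Cfsg.Agent.H91.Spectrum
import Cfsg.Agent.S2792

/-! `H40.SP.JobJ2s`: the normalizer of a Sylow 3-subgroup. -/

set_option autoImplicit false
set_option linter.unusedSectionVars false

namespace H29.J2
open Subgroup H40.SP
open scoped commutatorElement

variable {S : Type*} [Group S] [Finite S]

instance fact3 : Fact (Nat.Prime 3) := ⟨Nat.prime_three⟩

/-- the hypotheses -/
structure Hy (S : Type*) [Group S] : Prop where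
  simple : IsSimpleGroup S
  card : Nat.card S = 604800
  no : ∀ n ∈ [18, 21, 27, 30, 45], n ∉ om S

theorem Hy.nc (H : Hy S) {a b : S} {m n k : ℕ} (ha : orderOf a = m) (hb : orderOf b = n)
    (hc : Commute a b) (co : m.Coprime n) (hk : k ∈ [18, 21, 27, 30, 45]) (hd : k ∣ m * n) :
    False := by
  subst ha hb
  exact H.no k hk (H91.mem_range_orderOf_of_dvd hd
    ⟨a * b, hc.orderOf_mul_eq_mul_orderOf_of_coprime co⟩)

theorem exists_ord {K : Subgroup S} {q : ℕ} (hq : q.Prime) (h : q ∣ Nat.card K) :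
    ∃ c ∈ K, orderOf c = q := by
  haveI : Fact q.Prime := ⟨hq⟩
  obtain ⟨c, hc⟩ := exists_prime_orderOf_dvd_card' q h
  exact ⟨c, c.2, (orderOf_coe c).trans hc⟩

theorem Hy.c9 (H : Hy S) {x : S} (hx : orderOf x = 9) : IsPGroup 3 (centralizer {x}) := by
  refine IsPGroup.of_card (Nat.eq_prime_pow_of_unique_prime_dvd Nat.card_pos.ne' ?_)
  intro d hd h
  obtain ⟨c, hc, ho⟩ := exists_ord hd h
  have cc : Commute x c := (mem_centralizer_singleton_iff.mp hc).symm
  have h1 : d ∣ 2 ^ 7 * 3 ^ 3 * 5 ^ 2 * 7 := by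
    have := h.trans (card_subgroup_dvd_card _)
    rwa [H.card] at this
  rcases (Nat.Prime.dvd_mul hd).mp h1 with h1 | h1
  · rcases (Nat.Prime.dvd_mul hd).mp h1 with h1 | h1
    · rcases (Nat.Prime.dvd_mul hd).mp h1 with h1 | h1
      · obtain rfl := (Nat.prime_dvd_prime_iff_eq hd Nat.prime_two).mp (hd.dvd_of_dvd_pow h1)
        exact (H.nc hx ho cc (by decide) (k := 18) (by simp) (by decide)).elim
      · exact (Nat.prime_dvd_prime_iff_eq hd Nat.prime_three).mp (hd.dvd_of_dvd_pow h1)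
    · obtain rfl := (Nat.prime_dvd_prime_iff_eq hd Nat.prime_five).mp (hd.dvd_of_dvd_pow h1)
      exact (H.nc hx ho cc (by decide) (k := 45) (by simp) (by decide)).elim
  · obtain rfl := (Nat.prime_dvd_prime_iff_eq hd (by decide : Nat.Prime 7)).mp h1
    exact (H.nc hx ho cc (by decide) (k := 21) (by simp) (by decide)).elim

theorem Hy.cP (H : Hy S) (P : Sylow 3 S) : Nat.card P = 27 := by
  have f : (604800 : ℕ).factorization 3 = 3 := by decide +kernel
  rw [P.card_eq_multiplicity, H.card, f]; rfl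

theorem Hy.ord (H : Hy S) (P : Sylow 3 S) {g : S} (hg : g ∈ (P : Subgroup S)) :
    g ^ 9 = 1 ∧ (g ^ 3 ≠ 1 → orderOf g = 9) := by
  have h1 : orderOf g ∣ 3 ^ 3 := by
    have := Subgroup.orderOf_dvd_natCard _ hg
    rwa [H.cP] at this
  obtain ⟨k, hk, e⟩ := (Nat.dvd_prime_pow Nat.prime_three).mp h1
  have h2 : k ≠ 3 := by
    rintro rfl
    exact H.no 27 (by simp) ⟨g, e⟩
  rw [ne_eq, ← orderOf_dvd_iff_pow_eq_one, ← orderOf_dvd_iff_pow_eq_one, e]
  interval_cases k <;> simp at h2 ⊢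

/-- the elements of order dividing three -/
noncomputable def Hy.Om (H : Hy S) (P : Sylow 3 S) : Subgroup S :=
  (cubeH (H.cP P)).ker.map (P : Subgroup S).subtype

theorem Hy.mem_Om (H : Hy S) {P : Sylow 3 S} {g : S} :
    g ∈ H.Om P ↔ g ∈ (P : Subgroup S) ∧ g ^ 3 = 1 := by
  constructor
  · rintro ⟨a, ha, rfl⟩
    exact ⟨a.2, congrArg Subtype.val (show a ^ 3 = 1 from ha)⟩
  · rintro ⟨h1, h2⟩
    exact ⟨⟨g, h1⟩, (Subtype.ext h2 : (⟨g, h1⟩ : (P : Subgroup S)) ^ 3 = 1), rfl⟩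

theorem Hy.card_Om (H : Hy S) {P : Sylow 3 S} {x : S} (hx : x ∈ (P : Subgroup S))
    (h3 : x ^ 3 ≠ 1) : Nat.card (H.Om P) = 9 := by
  unfold Hy.Om
  rw [card_map_of_injective (subtype_injective _)]
  exact card_ker_cube _ (fun g => Subtype.ext (H.ord P g.2).1) (x := ⟨x, hx⟩)
    fun e => h3 (congrArg Subtype.val e)

theorem Hy.cN (H : Hy S) {P : Sylow 3 S} {x : S} (hx : x ∈ (P : Subgroup S)) (h3 : x ^ 3 ≠ 1) :
    (P : Subgroup S).relIndex (normalizer (P : Set S)) = 2 ∧ Nat.card (Sylow 3 S) = 11200 := by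
  set N := normalizer (P : Set S) with hN
  have hPN : (P : Subgroup S) ≤ N := le_normalizer
  have i1 := relIndex_mul_index hPN
  have i2 := (P : Subgroup S).card_mul_index
  rw [H.cP, H.card] at i2
  have i3 : (P : Subgroup S).index = 22400 := by omega
  have n1 : N.index ≡ 1 [MOD 3] := P.card_eq_index_normalizer ▸ card_sylow_modEq_one 3 S
  rw [P.card_eq_index_normalizer, ← hN]
  generalize he : (P : Subgroup S).relIndex N = e at i1
  rw [i3] at i1
  have co : e.Coprime 3 := Nat.Coprime.coprime_dvd_left ⟨_, i1.symm⟩ (by norm_num)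
  have cE : (((P : Subgroup S) : Set S) \ H.Om P).ncard = 18 := by
    rw [Set.ncard_sdiff (fun g hg => (H.mem_Om.mp hg).1), ← Nat.card_coe_set_eq,
      ← Nat.card_coe_set_eq]
    exact (congrArg₂ (· - ·) (H.cP P) (H.card_Om hx h3)).trans rfl
  have d : e ∣ 18 := by
    rw [← cE]
    refine dvd_ncard_conj N _ e ?_ ?_
    · rintro g hg s ⟨h1, h2⟩
      refine ⟨(mem_normalizer_iff.mp hg s).mp h1, fun h => h2 (H.mem_Om.mpr ⟨h1, ?_⟩)⟩
      have := (H.mem_Om.mp h).2
      rwa [conj_pow, conj_eq_one_iff] at this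
    · rintro s ⟨h1, h2⟩
      have o := (H.ord P h1).2 fun h => h2 (H.mem_Om.mpr ⟨h1, h⟩)
      obtain ⟨k, hk⟩ := IsPGroup.iff_card.mp (H98.isPGroup_subgroupOf (H.c9 o) N)
      have j1 := ((centralizer {s}).subgroupOf N).card_mul_index
      have j2 := ((P : Subgroup S).subgroupOf N).card_mul_index
      rw [hk, ← j2] at j1
      have : e ∣ 3 ^ k * (centralizer {s}).relIndex N := by
        unfold relIndex at he ⊢
        rw [j1, he]; exact dvd_mul_left _ _
      exact (co.pow_right k).dvd_of_dvd_mul_left this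
  have := Nat.le_of_dvd (by norm_num) d
  unfold Nat.ModEq at n1
  interval_cases e <;> omega

theorem Hy.foc (H : Hy S) (P : Sylow 3 S) :
    (P : Subgroup S) ≤ ⁅normalizer (P : Set S), normalizer (P : Set S)⁆ := by
  have hW : Cfsg.IsWeaklyClosed (P : Subgroup S) (P : Subgroup S) := ⟨le_rfl, fun g hg =>
    eq_of_le_of_card_ge hg (H98.card_cj g _).ge⟩
  have hc : _root_.commutator S = ⊤ := by
    haveI := H.simple
    refine (IsSimpleGroup.eq_bot_or_eq_top_of_normal _ inferInstance).resolve_left fun h => ?_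
    have : ∀ a b : S, a * b = b * a := fun a b =>
      commutatorElement_eq_one_iff_mul_comm.mp (mem_bot.mp (h ▸ commutator_mem_commutator
        (mem_top a) (mem_top b)))
    letI : CommGroup S := { (inferInstance : Group S) with mul_comm := this }
    have := IsSimpleGroup.prime_card (α := S)
    rw [H.card] at this
    exact absurd this (by norm_num)
  by_contra h
  obtain ⟨x, hx, z, hz, W, -, -, h2⟩ := Cfsg.Agent.S2792.result P _ hW (by
    rw [hc, inf_top_eq]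
    exact fun e => h (e.le.trans inf_le_right))
  apply h2
  have h3 := mem_center_iff.mp (s27' (H.cP P) (⟨x, hx⟩ : (P : Subgroup S))⁻¹ ⟨z, hz⟩⁻¹).1 ⟨z, hz⟩
  have h4 : z * (x⁻¹ * z⁻¹ * x * z) = x⁻¹ * z⁻¹ * x * z * z := by
    simpa [commutatorElement_def] using congrArg Subtype.val h3
  have h5 : (fun y : S => y⁻¹ * z⁻¹ * y * z)^[3 - 1] x = 1 := by
    show (x⁻¹ * z⁻¹ * x * z)⁻¹ * z⁻¹ * (x⁻¹ * z⁻¹ * x * z) * z = 1
    rw [mul_assoc (_ * z⁻¹), ← h4]; group
  rw [h5]; exact one_mem _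

/-- The Sylow subgroup is abelian and inverted. -/
theorem Hy.ab (H : Hy S) {P : Sylow 3 S} {x : S} (hx : x ∈ (P : Subgroup S)) (h3 : x ^ 3 ≠ 1) :
    (∀ a ∈ (P : Subgroup S), ∀ b ∈ (P : Subgroup S), a * b = b * a) ∧
    ∀ y ∈ (P : Subgroup S), y ≠ 1 → ∀ n ∈ normalizer (P : Set S), n * y = y * n →
      n ∈ (P : Subgroup S) := by
  set N := normalizer (P : Set S) with hN
  have hi := (H.cN hx h3).1
  have j2 := ((P : Subgroup S).subgroupOf N).card_mul_index
  obtain ⟨t, htN, ht⟩ := exists_ord (K := N) Nat.prime_two (by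
    rw [← j2]; exact Dvd.dvd.mul_left (dvd_of_eq hi.symm) _)
  have t2 : t * t = 1 := by rw [← pow_two, ← ht, pow_orderOf_eq_one]
  have ti : t⁻¹ = t := inv_eq_of_mul_eq_one_right t2
  have tP : t ∉ (P : Subgroup S) := fun h => by
    have := orderOf_dvd_of_pow_eq_one (H.ord P h).1
    rw [ht] at this; exact absurd this (by decide)
  have hT : ∀ a ∈ (P : Subgroup S), t * a * t ∈ (P : Subgroup S) := fun a ha => by
    have := (mem_normalizer_iff.mp htN a).mp ha
    rwa [ti] at this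
  have hN' : ∀ n ∈ N, n ∈ (P : Subgroup S) ∨ n * t ∈ (P : Subgroup S) := fun n hn => by
    have := mul_mem_iff_of_index_two hi (a := ⟨n, hn⟩) (b := ⟨t, htN⟩)
    simp only [mem_subgroupOf, coe_mul, tP, iff_false] at this
    by_cases h : n ∈ (P : Subgroup S)
    · exact Or.inl h
    · exact Or.inr (this.mpr h)
  have hab : ∀ a ∈ (P : Subgroup S), ∀ b ∈ (P : Subgroup S), a * b = b * a := by
    rcases s27 (H.cP P) with h1 | ⟨h1, h2⟩
    · exact fun a ha b hb => congrArg Subtype.val (h1 ⟨a, ha⟩ ⟨b, hb⟩)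
    by_contra hne
    push Not at hne
    obtain ⟨a, ha, b, hb, hne⟩ := hne
    let Z := (center (P : Subgroup S)).map (P : Subgroup S).subtype
    have mZ : ∀ z, z ∈ Z ↔ z ∈ (P : Subgroup S) ∧ ∀ g ∈ (P : Subgroup S), g * z = z * g := by
      intro z
      constructor
      · rintro ⟨c, hc, rfl⟩
        exact ⟨c.2, fun g hg => congrArg Subtype.val (mem_center_iff.mp hc ⟨g, hg⟩)⟩
      · rintro ⟨p1, p2⟩
        exact ⟨⟨z, p1⟩, mem_center_iff.mpr fun g => Subtype.ext (p2 g g.2), rfl⟩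
    have cZ : Nat.card Z = 3 := (card_map_of_injective (subtype_injective _)).trans h1
    have hc : ∀ a ∈ (P : Subgroup S), ∀ b ∈ (P : Subgroup S), a * b * a⁻¹ * b⁻¹ ∈ Z :=
      fun a ha b hb => ⟨_, h2 ⟨a, ha⟩ ⟨b, hb⟩, rfl⟩
    have hI := inv_mod (Z := Z) t2 (fun z hz => ((mZ z).mp hz).1) hT (fun z hz => by
      obtain ⟨p1, p2⟩ := (mZ z).mp hz
      refine (mZ _).mpr ⟨hT z p1, fun g hg => ?_⟩
      have := p2 _ (hT g hg)
      calc g * (t * z * t) = t * (t⁻¹ * g * t * z) * t := by group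
        _ = t * z * t * g := by rw [ti, this]; simp only [mul_assoc, t2, mul_one]) hc hN' (H.foc P)
    have e : ∀ r ∈ (P : Subgroup S), ∃ z ∈ Z, t * r * t⁻¹ = r⁻¹ * z := fun r hr =>
      ⟨_, hI r hr, by rw [ti]; group⟩
    obtain ⟨z, hz, ez⟩ := e a ha
    obtain ⟨w, hw, ew⟩ := e b hb
    have z1 := ((mZ z).mp hz).2
    have w1 := ((mZ w).mp hw).2
    have c1 := ((mZ _).mp (hc a ha b hb)).2 (b * a) (mul_mem hb ha)
    have tc : t * (a * b * a⁻¹ * b⁻¹) * t⁻¹ = a * b * a⁻¹ * b⁻¹ := by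
      calc t * (a * b * a⁻¹ * b⁻¹) * t⁻¹
          = t * a * t⁻¹ * (t * b * t⁻¹) * (t * a * t⁻¹)⁻¹ * (t * b * t⁻¹)⁻¹ := by group
        _ = a⁻¹ * (z * (b⁻¹ * w)) * z⁻¹ * a * w⁻¹ * b := by rw [ez, ew]; group
        _ = a⁻¹ * b⁻¹ * (w * a) * w⁻¹ * b := by
          rw [← z1 _ (mul_mem (inv_mem hb) ((mZ w).mp hw).1)]; group
        _ = (b * a)⁻¹ * (a * b * a⁻¹ * b⁻¹ * (b * a)) := by rw [← w1 a ha]; group
        _ = a * b * a⁻¹ * b⁻¹ := by rw [← c1]; group
    have hZc : Z ≤ centralizer {t} := by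
      have h4 : Z ⊓ centralizer {t} ≠ ⊥ := fun h => hne (by
        have : a * b * a⁻¹ * b⁻¹ ∈ Z ⊓ centralizer {t} :=
          ⟨hc a ha b hb, mem_centralizer_singleton_iff.mpr (mul_inv_eq_iff_eq_mul.mp tc).symm⟩
        rw [h, mem_bot] at this
        exact commutatorElement_eq_one_iff_mul_comm.mp this)
      have h5 := card_dvd_of_le (inf_le_left : Z ⊓ centralizer {t} ≤ Z)
      rw [cZ] at h5
      have h6 := ((Nat.dvd_prime Nat.prime_three).mp h5).resolve_left (mt card_eq_one.mp h4)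
      exact inf_eq_left.mp (eq_of_le_of_card_ge inf_le_left (by omega))
    have z3 : ∀ z ∈ Z, z ^ 3 = 1 := fun z hz => by
      rw [← cZ]; exact congrArg Subtype.val (pow_card_eq_one' (x := (⟨z, hz⟩ : Z)))
    have x3 : x ^ 3 ∈ Z := by
      refine (mZ _).mpr ⟨pow_mem hx 3, fun g hg => ?_⟩
      have p1 := hc g hg x hx
      have p2 : g * x * g⁻¹ = g * x * g⁻¹ * x⁻¹ * x := by group
      have p3 : Commute (g * x * g⁻¹ * x⁻¹) x := (((mZ _).mp p1).2 x hx).symm
      rw [← mul_inv_eq_iff_eq_mul, ← conj_pow, p2, p3.mul_pow, z3 _ p1, one_mul]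
    obtain ⟨u, hu, eu⟩ := e x hx
    have p4 : Commute x⁻¹ u := ((mZ u).mp hu).2 _ (inv_mem hx)
    have p5 : t * x ^ 3 * t⁻¹ = (x ^ 3)⁻¹ := by
      rw [← conj_pow, eu, p4.mul_pow, z3 u hu, mul_one, inv_pow]
    rw [← mem_centralizer_singleton_iff.mp (hZc x3), mul_inv_cancel_right, eq_inv_iff_mul_eq_one,
      ← pow_add, ← orderOf_dvd_iff_pow_eq_one, (H.ord P hx).2 h3] at p5
    exact absurd p5 (by decide)
  refine ⟨hab, fun y hy y1 n hn hc => (hN' n hn).resolve_right fun h => y1 ?_⟩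
  have hI := inv_mod (Z := ⊥) t2 bot_le hT (fun a ha => by rw [mem_bot.mp ha]; simp [t2])
    (fun a ha b hb => by rw [hab a ha b hb]; simp) hN' (H.foc P) y hy
  have p1 : t * y = y * t := by
    have := hab _ h y hy
    rw [mul_assoc, ← mul_assoc y, ← hc, mul_assoc] at this
    exact mul_left_cancel this
  rw [mem_bot, p1, mul_assoc y t, t2, mul_one, ← pow_two] at hI
  have := Nat.dvd_gcd (orderOf_dvd_of_pow_eq_one hI) (orderOf_dvd_of_pow_eq_one (H.ord P hy).1)
  exact orderOf_eq_one_iff.mp (Nat.dvd_one.mp this)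

end H29.J2
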