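/- Tower KU (S2196), slot FD: a frame adapted to `K`. -/
import Cfsg.Agent.H53.KUSpec

set_option autoImplicit false

open Cfsg H59 H53.WU H53.KU Module

namespace H29.KUF

theorem sz {Γ A : Type*} [Group Γ] [Finite Γ] [Group A] [Finite A] (ν : Γ →* A) {p : ℕ}
    [hp : Fact p.Prime] (h : IsPGroup p ν.ker) (hA : (Nat.card A).Coprime p) :
    ∃ C : Subgroup Γ, (Nat.card C).Coprime p ∧ ∀ g, ∃ c ∈ C, ν c = ν g := by
  have hi : ν.ker.index.Coprime p := by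
    rw [Subgroup.index_ker]
    exact hA.coprime_dvd_left (Subgroup.card_subgroup_dvd_card _)
  obtain ⟨k, hk⟩ := h.exists_card_eq
  obtain ⟨C, hC⟩ := Subgroup.exists_right_complement'_of_coprime (N := ν.ker)
    (hk ▸ Nat.Coprime.pow_left k hi.symm)
  refine ⟨C, hC.symm.index_eq_card ▸ hi, fun g => ?_⟩
  obtain ⟨⟨n, c⟩, e⟩ := (hC.existsUnique g).exists
  exact ⟨c, c.2, by rw [← e, map_mul, MonoidHom.mem_ker.1 n.2, one_mul]⟩

section Avg

variable {F V C : Type*} [Field F] [AddCommGroup V] [Module F V] [Group C] [Fintype C]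
  (ρ : C →* (V ≃ₗ[F] V)) (χ : C →* Fˣ)

/-- The projection on the `χ`-eigenspace. -/
def avg (v : V) : V := (Fintype.card C : F)⁻¹ • ∑ t, (((χ t)⁻¹ : Fˣ) : F) • ρ t v

theorem avg_eig (v : V) (s : C) : ρ s (avg ρ χ v) = (χ s : F) • avg ρ χ v := by
  rw [avg, map_smul, map_sum, smul_comm (χ s : F), Finset.smul_sum (r := (χ s : F))]
  congr 1
  refine Fintype.sum_equiv (Equiv.mulLeft s) _ _ fun t => ?_
  simp only [Equiv.coe_mulLeft, map_mul, map_smul, LinearEquiv.mul_apply, smul_smul, ← Units.val_mul]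
  rw [mul_inv_rev, mul_comm (χ t)⁻¹, mul_inv_cancel_left]

theorem avg_sub (hC : (Fintype.card C : F) ≠ 0) {W : Submodule F V} {v : V}
    (h : ∀ t, ρ t v - (χ t : F) • v ∈ W) : avg ρ χ v - v ∈ W := by
  have : avg ρ χ v - v =
      (Fintype.card C : F)⁻¹ • ∑ t, (((χ t)⁻¹ : Fˣ) : F) • (ρ t v - (χ t : F) • v) := by
    simp only [avg, smul_sub, smul_smul, Units.inv_mul, one_smul, Finset.sum_sub_distrib,
      Finset.sum_const, Finset.card_univ]
    rw [← Nat.cast_smul_eq_nsmul F, smul_smul, inv_mul_cancel₀ hC, one_smul]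
  rw [this]
  exact W.smul_mem _ (W.sum_mem fun t _ => W.smul_mem _ (h t))

end Avg

variable {S : HS} {m : ℕ} (Φ : Fr S m)

theorem W_W {k l : ℕ} {x y : S.V} (hx : x ∈ Φ.W k) (hy : y ∈ Φ.W l) : S.B x y = 0 := by
  refine (Submodule.span_le (p := LinearMap.ker (S.B.flip y))).2 ?_ hx
  rintro _ ⟨j, -, rfl⟩
  exact Φ.e_W j hy

section Tri

variable {Φ} {e : Fin m → S.V} (h : ∀ i, e i - Φ.e i ∈ Φ.W i.1)
include h

theorem tri_mem {i : Fin m} {k : ℕ} (hi : i.1 < k) : e i ∈ Φ.W k := by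
  simpa using (Φ.W k).add_mem (Φ.W_mono hi.le (h i)) (Φ.e_mem_W hi)

theorem tri_li : LinearIndependent S.F e := by
  classical
  rw [Fintype.linearIndependent_iff]
  intro c hc
  by_contra hn
  obtain ⟨i, hi, hm⟩ := Finset.exists_max_image (Finset.univ.filter fun i => c i ≠ 0) id
    (by simpa [Finset.Nonempty] using hn)
  have h1 := congrArg (S.B (Φ.f i)) hc
  rw [map_sum, map_zero, Finset.sum_eq_single i (fun j _ hj => ?_) (by simp)] at h1
  · have h2 := Φ.f_W le_rfl (h i)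
    rw [map_sub, Φ.fe, if_pos rfl, sub_eq_zero] at h2
    rw [map_smul, h2, smul_eq_mul, mul_one] at h1
    exact (Finset.mem_filter.1 hi).2 h1
  · by_cases h0 : c j = 0
    · simp [h0]
    · have : j < i := lt_of_le_of_ne (hm j (by simpa using h0)) hj
      rw [map_smul, Φ.f_W le_rfl (tri_mem h this), smul_zero]

theorem tri_sm {Ψ : Fr S m} (hΨ : Ψ.e = e) : Ψ.Sm Φ := fun k => by
  refine le_antisymm (Submodule.span_le.2 ?_) ?_
  · rintro _ ⟨i, hi, rfl⟩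
    exact hΨ ▸ tri_mem h hi
  · induction k using Nat.strong_induction_on with
    | _ k ih =>
      refine Submodule.span_le.2 ?_
      rintro _ ⟨i, hi, rfl⟩
      have := (Ψ.W k).sub_mem (Ψ.e_mem_W hi) (Ψ.W_mono (le_of_lt hi) (ih i hi (h i)))
      rw [hΨ] at this
      simpa using this

end Tri

theorem eigen_f {C : Type*} [Group C] [Fintype C] (hC : (Fintype.card C : S.F) ≠ 0)
    (ρ : C →* S.G) (a : C →* (Fin m → S.Fˣ))
    (he : ∀ t i, (ρ t).1 (Φ.e i) = (a t i : S.F) • Φ.e i) : ∃ Ψ : Fr S m, Ψ.e = Φ.e ∧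
      ∀ t j, (ρ t).1 (Ψ.f j) = (((a t j ^ S.q)⁻¹ : S.Fˣ) : S.F) • Ψ.f j := by
  let χ : Fin m → C →* S.Fˣ := fun j =>
    ((powMonoidHom S.q).comp ((Pi.evalMonoidHom (fun _ => S.Fˣ) j).comp a))⁻¹
  have hχ : ∀ j t, χ j t = (a t j ^ S.q)⁻¹ := fun _ _ => rfl
  let g : Fin m → S.V := fun j => avg (S.G.subtype.comp ρ) (χ j) (Φ.f j)
  have hg : ∀ t j, (ρ t).1 (g j) = (χ j t : S.F) • g j := fun t j =>
    avg_eig (S.G.subtype.comp ρ) (χ j) (Φ.f j) t
  have eg : ∀ i j, S.B (Φ.e i) (g j) = if i = j then 1 else 0 := fun i j => by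
    have := avg_sub (S.G.subtype.comp ρ) (χ j) hC (W := LinearMap.ker (S.B (Φ.e i))) (v := Φ.f j)
      fun t => by
        have h1 := (ρ t).2.1 (Φ.e i) (Φ.f j)
        rw [he, map_smulₛₗ, LinearMap.smul_apply, smul_eq_mul, frob_apply, Φ.ef] at h1
        have h2 : (a t i : S.F) ^ S.q ≠ 0 := pow_ne_zero _ (a t i).ne_zero
        change S.B (Φ.e i) ((ρ t).1 (Φ.f j) - _) = 0
        rw [map_sub, map_smul, Φ.ef, hχ, (eq_inv_mul_iff_mul_eq₀ h2).2 h1]
        split_ifs with e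
        · subst e; simp
        · simp
    rwa [LinearMap.mem_ker, map_sub, sub_eq_zero, Φ.ef] at this
  have ge : ∀ i j, S.B (g i) (Φ.e j) = if i = j then 1 else 0 := fun i j => by
    rw [← S.h.symm, eg]
    by_cases h : i = j
    · simp [h]
    · simp [h, Ne.symm h]
  obtain ⟨θ, hθ⟩ := exists_trace_eq S.h.ne_id S.h.invol (map_one (frob S.hF))
  refine ⟨⟨Φ.e, fun j => g j - ∑ i, (θ * S.B (g i) (g j)) • Φ.e i, Φ.ee, fun k j => ?_,
    fun i j => ?_⟩, rfl, fun t j => ?_⟩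
  · simp only [map_sub, map_sum, map_smul, map_smulₛₗ, LinearMap.sub_apply, LinearMap.sum_apply,
      LinearMap.smul_apply, eg, ge, Φ.ee, smul_eq_mul, mul_ite, mul_one, mul_zero,
      Finset.sum_ite_eq, Finset.sum_ite_eq', Finset.mem_univ, if_true, map_mul, S.h.symm,
      Finset.sum_const_zero, sub_zero]
    linear_combination (-S.B (g k) (g j)) * hθ
  · simp only [map_sub, map_sum, map_smul, eg, Φ.ee, smul_zero, Finset.sum_const_zero, sub_zero]
  · simp only [map_sub, map_sum, map_smul, hg, he, smul_sub, Finset.smul_sum, smul_smul, hχ]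
    congr 1
    refine Finset.sum_congr rfl fun i _ => ?_
    have h1 := (ρ t).2.1 (g i) (g j)
    rw [hg, hg, LinearMap.map_smulₛₗ₂, map_smul, smul_eq_mul, smul_eq_mul, frob_apply,
      hχ, hχ, Units.val_inv_eq_inv_val (a t i ^ S.q), inv_pow, Units.val_pow_eq_pow_val,
      pow_q_pow_q S.hF, inv_mul_eq_iff_eq_mul₀ (a t i).ne_zero] at h1
    congr 1
    linear_combination (-θ) * h1

theorem jobFD (up : JobUp) (dg : JobDg) (frm : JobFrm) : JobFD := fun S m Φ K hm => by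
  classical
  obtain ⟨p, k, pp, hc, hk, hq⟩ := exists_char_pow S.hF
  have : Fact p.Prime := ⟨pp⟩
  have hr : ringChar S.F = p := ringChar.eq S.F p
  let ν : K.subgroupOf Φ.Bo →* (Fin m → S.Fˣ) := Φ.ev.comp (K.subgroupOf Φ.Bo).subtype
  obtain ⟨C, hC, hs⟩ := sz ν (p := p) (fun g => by
    have h1 := Φ.ev_spec g.1.1
    rw [show Φ.ev g.1.1 = 1 from g.2] at h1
    obtain ⟨j, hj⟩ := up S m Φ hm _ h1
    exact ⟨j, Subtype.ext (Subtype.ext (Subtype.ext (hr ▸ hj)))⟩) (by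
    rw [Nat.card_fun, Nat.card_units, Nat.card_eq_fintype_card, S.hF, hq, ← pow_mul]
    refine Nat.Coprime.pow_left _ (Nat.Coprime.symm ((Nat.Prime.coprime_iff_not_dvd pp).2 fun h => ?_))
    have := (Nat.dvd_sub_iff_right (Nat.one_le_pow _ _ pp.pos) (dvd_pow_self p (by omega))).1 h
    exact pp.one_lt.ne' (Nat.dvd_one.1 this))
  have : Fintype C := Fintype.ofFinite C
  have hC' : (Fintype.card C : S.F) ≠ 0 := by
    rw [Ne, CharP.cast_eq_zero_iff S.F p, ← Nat.card_eq_fintype_card]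
    exact (Nat.Prime.coprime_iff_not_dvd pp).1 hC.symm
  let ρ : C →* S.G := Φ.Bo.subtype.comp ((K.subgroupOf Φ.Bo).subtype.comp C.subtype)
  let a : C →* (Fin m → S.Fˣ) := ν.comp C.subtype
  let χ : Fin m → C →* S.Fˣ := fun i => (Pi.evalMonoidHom (fun _ => S.Fˣ) i).comp a
  let e : Fin m → S.V := fun i => avg (S.G.subtype.comp ρ) (χ i) (Φ.e i)
  have h1 : ∀ i, e i - Φ.e i ∈ Φ.W i.1 := fun i =>
    avg_sub _ _ hC' fun t => Φ.ev_spec t.1.1 i
  obtain ⟨Φ', h'⟩ := frm S m e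
    (fun i j => W_W Φ (tri_mem h1 i.2) (tri_mem h1 j.2)) (tri_li h1)
  have he : ∀ t i, (ρ t).1 (Φ'.e i) = (a t i : S.F) • Φ'.e i := fun t i =>
    h' ▸ avg_eig (S.G.subtype.comp ρ) (χ i) (Φ.e i) t
  obtain ⟨Ψ, h2, h3⟩ := eigen_f Φ' hC' ρ a he
  refine ⟨Ψ, tri_sm h1 (h2.trans h'), fun b ⟨g, hg, hb⟩ => ?_⟩
  obtain ⟨c, hc, e1⟩ := hs ⟨⟨g, b, hb⟩, hg⟩
  have e2 : a ⟨c, hc⟩ = b := e1.trans ((Φ.ev_spec ⟨g, b, hb⟩).unique hb)
  exact ⟨ρ ⟨c, hc⟩, c.2, e2 ▸ (dg S m Ψ hm).2 _ _ (h2 ▸ he ⟨c, hc⟩) (h3 ⟨c, hc⟩)⟩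

end H29.KUF
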