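/- Tower O7, slot MU4: the configuration of `U₄(q)`. -/
import Cfsg.Agent.H1.O7MU3
import Cfsg.Agent.H81.SUMult
import Cfsg.Agent.H36.P4SL

set_option autoImplicit false
set_option linter.unusedSectionVars false

namespace H29.O7U

open Matrix _root_.Cfsg H65.Phan H59 H31.O7 Subgroup
open scoped MatrixGroups

/-- `SL₂(3)` in `SL₂(F)`. -/
theorem exists_sl23 (F : Type*) [Field F] [Fintype F] (t2 : (2 : F) ≠ 0) :
    ∃ i j y : SL(2, F), i * i = -1 ∧ j * j = -1 ∧ i * j * i⁻¹ = j⁻¹ ∧ y * i * y⁻¹ = j ∧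
      y * j * y⁻¹ = i * j := by
  obtain ⟨p, hp⟩ := CharP.exists F
  have : Fact p.Prime := ⟨CharP.char_is_prime F p⟩
  obtain ⟨a, b, h⟩ := CharP.sq_add_sq F p (-1)
  push_cast at h
  let i : SL(2, F) := ⟨!![0, 1; -1, 0], by simp [det_fin_two]⟩
  let j : SL(2, F) := ⟨!![a, b; b, -a], by rw [det_fin_two_of]; linear_combination -h⟩
  let y : SL(2, F) := ⟨!![(1 + a + b) / 2, (1 + b - a) / 2; (-1 + b - a) / 2, (1 - a - b) / 2], by
    rw [det_fin_two_of]; field_simp; linear_combination -2 * h⟩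
  have e1 : j * j = -1 := Subtype.ext (by
    change j.1 * j.1 = -1
    ext s t; fin_cases s <;> fin_cases t <;> simp [j, mul_apply, Fin.sum_univ_two] <;>
      first | linear_combination h | ring)
  have e2 : j * i * j = i := Subtype.ext (by
    change j.1 * i.1 * j.1 = i.1
    ext s t; fin_cases s <;> fin_cases t <;> simp [i, j, mul_apply, Fin.sum_univ_two] <;>
      first | linear_combination h | linear_combination -h | ring)
  refine ⟨i, j, y, Subtype.ext ?_, e1, ?_, mul_inv_eq_iff_eq_mul.2 (Subtype.ext ?_),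
    mul_inv_eq_iff_eq_mul.2 (Subtype.ext ?_)⟩
  · change i.1 * i.1 = -1
    ext s t; fin_cases s <;> fin_cases t <;> simp [i, mul_apply, Fin.sum_univ_two]
  · rw [mul_inv_eq_iff_eq_mul, eq_inv_mul_iff_mul_eq, ← mul_assoc, e2]
  · change y.1 * i.1 = j.1 * y.1
    ext s t; fin_cases s <;> fin_cases t <;> simp [i, j, y, mul_apply, Fin.sum_univ_two] <;>
      field_simp <;> first | linear_combination h | linear_combination -h
  · change y.1 * j.1 = i.1 * j.1 * y.1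
    ext s t; fin_cases s <;> fin_cases t <;> simp [i, j, y, mul_apply, Fin.sum_univ_two] <;>
      field_simp <;> first | linear_combination h | linear_combination -h | ring

variable {K : Type} [Field K] [Fintype K] {q : ℕ} (hF : Fintype.card K = q ^ 2)

def pc : SU 4 K q := mkSU hF !![0, 0, 1, 0; 1, 0, 0, 0; 0, 1, 0, 0; 0, 0, 0, 1]
  (by simp [det_succ_row_zero, Fin.sum_univ_succ, Fin.succAbove]) (by
  ext i l; fin_cases i <;> fin_cases l <;> simp [mul_apply, Fin.sum_univ_succ])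

def pw : SU 4 K q := mkSU hF !![0, 0, 1, 0; 0, 0, 0, 1; 1, 0, 0, 0; 0, 1, 0, 0]
  (by simp [det_succ_row_zero, Fin.sum_univ_succ, Fin.succAbove]) (by
  ext i l; fin_cases i <;> fin_cases l <;> simp [mul_apply, Fin.sum_univ_succ])

theorem mat_pc : mat (pc hF) = !![0, 0, 1, 0; 1, 0, 0, 0; 0, 1, 0, 0; 0, 0, 0, 1] := rfl
theorem mat_pw : mat (pw hF) = !![0, 0, 1, 0; 0, 0, 0, 1; 1, 0, 0, 0; 0, 1, 0, 0] := rfl

/-- the blocks -/
def bl (a : Fin 3) : SU 2 K q →* SU 4 K q := blkHom hF (off a (by omega))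

omit [Fintype K] in
theorem emb0 (h) : emb K (off 0 h : Fin 2 ↪ Fin 4) = !![1, 0; 0, 1; 0, 0; 0, 0] := by
  ext i l; fin_cases i <;> fin_cases l <;> rfl
omit [Fintype K] in
theorem emb1 (h) : emb K (off 1 h : Fin 2 ↪ Fin 4) = !![0, 0; 1, 0; 0, 1; 0, 0] := by
  ext i l; fin_cases i <;> fin_cases l <;> rfl
omit [Fintype K] in
theorem emb2 (h) : emb K (off 2 h : Fin 2 ↪ Fin 4) = !![0, 0; 0, 0; 1, 0; 0, 1] := by
  ext i l; fin_cases i <;> fin_cases l <;> rfl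

theorem pc_bl (s : SU 2 K q) : pc hF * bl hF 0 s * (pc hF)⁻¹ = bl hF 1 s :=
  H57.conj_blk hF (by
    erw [mat_pc, emb0, emb1]
    ext i l; fin_cases i <;> fin_cases l <;> simp [mul_apply, Fin.sum_univ_succ]) s

theorem pw_bl (s : SU 2 K q) : pw hF * bl hF 0 s * (pw hF)⁻¹ = bl hF 2 s :=
  H57.conj_blk hF (by
    erw [mat_pw, emb0, emb2]
    ext i l; fin_cases i <;> fin_cases l <;> simp [mul_apply, Fin.sum_univ_succ]) s

theorem bl_comm (s t : SU 2 K q) : Commute (bl hF 2 s) (bl hF 0 t) :=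
  blkHom_comm hF (fun a b e => by have := congrArg Fin.val e; simp at this; omega) s t

include hF in
theorem cen_diag {g : SU 4 K q} {d : Fin 4 → K} (e : mat g = diagonal d) (h : g ∈ center (SU 4 K q)) :
    d 1 = d 0 ∧ d 2 = d 1 := by
  have e' := congrArg mat (mem_center_iff.1 h (pc hF))
  rw [mat_mul, mat_mul, mat_pc, e] at e'
  exact ⟨by simpa using (congrFun (congrFun e' 1) 0).symm, by simpa using (congrFun (congrFun e' 2) 1).symm⟩

theorem mat_bl {s : SU 2 K q} (h : mat s = -1) : mat (bl hF 0 s) = diagonal ![-1, -1, 1, 1] ∧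
    mat (bl hF 1 s) = diagonal ![1, -1, -1, 1] ∧ mat (bl hF 2 s) = diagonal ![1, 1, -1, -1] := by
  have e : (-1 - 1 : Matrix (Fin 2) (Fin 2) K) = !![-2, 0; 0, -2] := by
    ext i l; fin_cases i <;> fin_cases l <;> simp <;> norm_num
  refine ⟨?_, ?_, ?_⟩ <;> rw [bl, mat_blkHom, h, blk, e]
  · erw [emb0]
    ext i l; fin_cases i <;> fin_cases l <;> simp [vecMul, dotProduct, Fin.sum_univ_succ] <;> norm_num
  · erw [emb1]
    ext i l; fin_cases i <;> fin_cases l <;> simp [vecMul, dotProduct, Fin.sum_univ_succ] <;> norm_num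
  · erw [emb2]
    ext i l; fin_cases i <;> fin_cases l <;> simp [vecMul, dotProduct, Fin.sum_univ_succ] <;> norm_num

theorem gen4 (hq : q ≠ 2) {M : Subgroup (SU 4 K q)} (h : ∀ a s, bl hF a s ∈ M) : M = ⊤ :=
  H81.su_eq_top hF le_rfl fun i hi g => by
    refine (?_ : ⊤ ≤ M.comap (blkHom hF (off i hi))) (mem_top g)
    refine (gen3 hF hq).ge.trans (sup_le ?_ ?_) <;> rintro _ ⟨s, rfl⟩ <;>
      simp only [mem_comap, b0, b1, blkHom_blkHom, off_trans]
    exacts [h ⟨i, by omega⟩ s, h ⟨i + 1, by omega⟩ s]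

/-- The abstract configuration. -/
theorem cl_of {F : Type} [Field F] [Fintype F] (ho : Odd (Fintype.card F)) (h3 : Fintype.card F ≠ 3)
    (t2 : (2 : F) ≠ 0) {Γ : Type*} [Group Γ] (φ₀ φ₁ φ₂ : SL(2, F) →* Γ) (c w : Γ)
    (c1 : ∀ s, c * φ₀ s * c⁻¹ = φ₁ s) (c2 : ∀ s, w * φ₀ s * w⁻¹ = φ₂ s)
    (cm : ∀ s t, Commute (φ₂ s) (φ₀ t)) (e2 : φ₂ (-1) = φ₀ (-1)) (n0 : φ₀ (-1) ≠ 1)
    (n1 : φ₁ (-1) ≠ φ₀ (-1)) (cz : Commute (φ₁ (-1)) (φ₀ (-1)))
    (gen : ∀ T : Subgroup Γ, (∀ s, φ₀ s ∈ T) → (∀ s, φ₁ s ∈ T) → (∀ s, φ₂ s ∈ T) → T = ⊤) : CL Γ := by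
  obtain ⟨i, j, y, ii, jj, ij, yi, yj⟩ := exists_sl23 F t2
  have sq : φ₀ i * φ₀ i = φ₀ (-1) := by rw [← map_mul, ii]
  refine ⟨φ₀ i, φ₀ j, φ₀ y, w, φ₁ (-1), ⟨⟨by rw [← map_mul, ← map_mul, ii, jj],
    by rw [← map_inv, ← map_mul, ← map_mul, ij, map_inv], sq ▸ n0⟩,
      by rw [← map_inv, ← map_mul, ← map_mul, yi], by rw [← map_inv, ← map_mul, ← map_mul, yj, map_mul],
      sq ▸ mul_inv_eq_iff_eq_mul.1 ((c2 _).trans e2), c2 i ▸ cm _ _, c2 i ▸ cm _ _, c2 i ▸ cm _ _⟩,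
    fun e => n0 (by simpa [mul_inv_eq_iff_eq_mul] using (c1 _).trans e), by rw [← map_mul]; simp,
    sq ▸ n1, sq ▸ cz, ?_⟩
  rw [sq]
  have n : ∀ e : SL(2, F), e * e = 1 → i ≠ e := by
    rintro _ e rfl
    have := congrFun (congrFun (congrArg Subtype.val (e.symm.trans ii)) 0) 0
    simp at this
    exact t2 (by linear_combination this)
  have top := H36.P4.sl_normal_eq_top ho h3 (normalClosure {i}) (subset_normalClosure rfl)
    (n _ (by simp)) (n _ (by simp))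
  have k : ∀ (T : Set Γ) (c : Γ) (ψ : SL(2, F) →* Γ), (∀ s, c * φ₀ s * c⁻¹ = ψ s) →
      (∀ d, d * φ₀ (-1) * d⁻¹ = ψ (-1) → d * φ₀ i * d⁻¹ ∈ T) → ∀ s, ψ s ∈ closure T := by
    intro T c ψ h1 h3 s
    refine (?_ : normalClosure {i} ≤ (closure T).comap ψ) (top ▸ mem_top s)
    refine (closure_le _).2 fun x hx => ?_
    obtain ⟨a, ha, hx'⟩ := Group.mem_conjugatesOfSet_iff.1 hx
    rw [Set.mem_singleton_iff.1 ha] at hx'
    obtain ⟨g, rfl⟩ := isConj_iff.1 hx'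
    have r : ∀ s, c * φ₀ g * φ₀ s * (c * φ₀ g)⁻¹ = ψ (g * s * g⁻¹) := fun s => by
      rw [← h1, map_mul, map_mul, map_inv]; group
    exact subset_closure (r _ ▸ h3 _ (by rw [r]; simp))
  exact gen _ (k _ 1 _ (by simp) fun d e => ⟨d, Or.inl e, rfl⟩)
    (k _ _ _ c1 fun d e => ⟨d, Or.inr (Or.inl e), rfl⟩) (k _ _ _ c2 fun d e => ⟨d, Or.inl (e.trans e2), rfl⟩)

theorem jobMU4 : JobMU4 := by
  intro K _ _ q hF hq
  classical
  have h2 := two_le_q hF
  have ho : Odd q := Nat.odd_iff.2 (by omega)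
  have t2 : (2 : K) ≠ 0 := by
    obtain ⟨r', _, _, h2⟩ := H81.LDH.char_odd K (hF ▸ ho.pow)
    exact Ring.two_ne_zero (by rwa [ringChar.eq K r'])
  obtain ⟨P, Pi, θ, p1, -, hθ⟩ := exists_su2_equiv hF
  have cF : Fintype.card (H57.Fix hF) = q := by rw [← Nat.card_eq_fintype_card, H57.card_Fix]
  have θn : mat (θ (-1)) = -1 := by
    rw [hθ, show ((-1 : SL(2, _)).1.map (Subfield.subtype _) : Matrix _ _ K) = -1 by
      ext i l; fin_cases i <;> fin_cases l <;> simp]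
    simp [p1]
  obtain ⟨m0, m1, m2⟩ := mat_bl hF θn
  have iv : ∀ a, (bl hF a (θ (-1)))⁻¹ = bl hF a (θ (-1)) := fun a => by
    rw [← map_inv, ← map_inv, inv_neg_one]
  let π := QuotientGroup.mk' (center (SU 4 K q))
  refine cl_of (F := H57.Fix hF) (cF.symm ▸ ho) (cF.symm ▸ by omega) (fun e => t2 (congrArg Subtype.val e))
    (π.comp ((bl hF 0).comp θ.toMonoidHom)) (π.comp ((bl hF 1).comp θ.toMonoidHom))
    (π.comp ((bl hF 2).comp θ.toMonoidHom)) (π (pc hF)) (π (pw hF))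
    (fun s => congrArg π (pc_bl hF (θ s))) (fun s => congrArg π (pw_bl hF (θ s)))
    (fun s t => (bl_comm hF (θ s) (θ t)).map π) ?_ (fun e => t2 ?_) (fun e => t2 ?_) ?_ fun T h0 h1 h2 => ?_
  · refine QuotientGroup.eq.2 (mem_center_iff.2 fun g => mat_ext ?_)
    have : mat ((bl hF 2 (θ (-1)))⁻¹ * bl hF 0 (θ (-1))) = -1 := by
      rw [iv, mat_mul, m0, m2]
      ext i l; fin_cases i <;> fin_cases l <;> simp
    rw [mat_mul g, mat_mul _ g]
    erw [this]
    simp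
  · have := (cen_diag hF m0 ((QuotientGroup.eq_one_iff _).1 e)).2
    simp at this
    linear_combination this
  · have := (cen_diag hF (g := (bl hF 1 (θ (-1)))⁻¹ * bl hF 0 (θ (-1)))
      (by rw [iv, mat_mul, m0, m1, diagonal_mul_diagonal]) (QuotientGroup.eq.1 e)).1
    simp at this
    linear_combination this
  · refine Commute.map (x := bl hF 1 (θ (-1))) (y := bl hF 0 (θ (-1))) (mat_ext ?_) π
    rw [mat_mul, mat_mul, m0, m1, diagonal_mul_diagonal, diagonal_mul_diagonal]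
    simp only [mul_comm]
  · refine eq_top_iff.2 fun x _ => ?_
    obtain ⟨x, rfl⟩ := QuotientGroup.mk'_surjective _ x
    refine (gen4 hF (by omega) (M := T.comap π) fun a s => ?_).ge (mem_top x)
    obtain ⟨s, rfl⟩ := θ.surjective s
    fin_cases a
    exacts [h0 s, h1 s, h2 s]

end H29.O7U
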