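import Cfsg.Agent.H31.O7K

/-! O7, jobs C7 and TL0: the basis adapted to `A₄`. -/

set_option autoImplicit false
set_option linter.unusedSectionVars false

namespace H29.O7

open H56 QuadraticMap Module _root_.Cfsg H31.O7
open H20.LD (cp)

universe u

variable {K : Type u} [Field K] {V : Type u} [AddCommGroup V] [Module K V] [FiniteDimensional K V]
  {Q : QuadraticForm K V} {a b g W : O Q} {u v v' x y : V} {U : Submodule K V}

theorem span2 (d : finrank K U = 2) (hv : v ∈ U) (hu : u ∈ U)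
    (li : ∀ s t : K, s • v + t • u = 0 → s = 0 ∧ t = 0) (hy : y ∈ U) : ∃ s t : K, y = s • v + t • u := by
  have e : Submodule.span K {v, u} = U := Submodule.eq_of_le_of_finrank_eq
    (Submodule.span_le.2 (Set.insert_subset hv (Set.singleton_subset_iff.2 hu)))
    (by rw [d, finrank_span_pair (LinearIndependent.pair_iff.2 li)])
  obtain ⟨s, t, r⟩ := Submodule.mem_span_pair.1 (e ▸ hy)
  exact ⟨s, t, r.symm⟩

theorem exists_li (d : finrank K U = 2) (hv : v ∈ U) (h0 : v ≠ 0) :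
    ∃ u ∈ U, ∀ s t : K, s • v + t • u = 0 → s = 0 ∧ t = 0 := by
  obtain ⟨y, hy⟩ := exists_linearIndependent_pair_of_one_lt_finrank (R := K) (M := U) (by omega)
    (x := ⟨v, hv⟩) (by simpa using h0)
  exact ⟨y, y.2, fun s t e => LinearIndependent.pair_iff.1 hy s t (Subtype.ext e)⟩

theorem neg_self (h2 : (2 : K) ≠ 0) (e : v = -v) : v = 0 := by
  have : (2 : K) • v = 0 := by rw [two_smul]; exact add_eq_zero_iff_eq_neg.2 e
  simpa [h2] using this

theorem orth (h2 : (2 : K) ≠ 0) (hx : x ∈ g.fix) (hy : g y = -y) : polar Q x y = 0 := by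
  have := g.map_polar x y
  rw [O.mem_fix.1 hx, hy, polar_neg_right] at this
  exact mul_left_cancel₀ h2 (by linear_combination -this)

theorem split (h2 : (2 : K) ≠ 0) (hg : g * g = 1) (hU : ∀ v ∈ U, g v ∈ U) :
    finrank K U = finrank K ↥(U ⊓ g.fix) + finrank K ↥(U ⊓ g.mov) := by
  have gg : ∀ v, g (g v) = v := fun v => by rw [← O.mul_apply, hg, O.one_apply]
  rw [← Submodule.finrank_sup_add_finrank_inf_eq, show U ⊓ g.fix ⊔ U ⊓ g.mov = U from ?_,
    show U ⊓ g.fix ⊓ (U ⊓ g.mov) = ⊥ from ?_, finrank_bot, add_zero]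
  · exact eq_bot_iff.2 fun v hv =>
      neg_self h2 ((O.mem_fix.1 hv.1.2).symm.trans ((mem_mov_of_inv h2 hg).1 hv.2.2))
  · refine le_antisymm (sup_le inf_le_left inf_le_left) fun v hv => Submodule.mem_sup.2
      ⟨(2 : K)⁻¹ • (v + g v), ⟨U.smul_mem _ (U.add_mem hv (hU v hv)), O.mem_fix.2 ?_⟩,
        (2 : K)⁻¹ • (v - g v), ⟨U.smul_mem _ (U.sub_mem hv (hU v hv)), (mem_mov_of_inv h2 hg).2 ?_⟩, ?_⟩
    · rw [map_smul, map_add, gg, add_comm]
    · rw [map_smul, map_sub, gg, ← smul_neg, neg_sub]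
    · rw [← smul_add, add_add_sub_cancel, ← two_smul K, smul_smul, inv_mul_cancel₀ h2, one_smul]

/-- An isometry of order three of a plane with a fixed vector is trivial. -/
theorem plane3 (h2 : (2 : K) ≠ 0) (d : finrank K U = 2) (nd : ∀ v ∈ U, (∀ y ∈ U, polar Q v y = 0) → v = 0)
    (hU : ∀ v ∈ U, g v ∈ U) (h3 : g ^ 3 = 1) (hv : v ∈ U) (h0 : v ≠ 0) (e : g v = v) (hy : y ∈ U) :
    g y = y := by
  obtain ⟨u, hu, li⟩ := exists_li d hv h0
  have z : ∀ r ∈ U, polar Q r v = 0 → polar Q r u = 0 → r = 0 := fun r hr e1 e2 => nd r hr fun y hy => by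
    obtain ⟨s, t, rfl⟩ := span2 d hv hu li hy
    simp [polar_add_right, polar_smul_right, e1, e2]
  have n0 : ¬ (Q v = 0 ∧ polar Q v u = 0) := fun c => h0 (z v hv (by rw [polar_self', c.1, mul_zero]) c.2)
  have gr : 4 * Q v * Q u - polar Q v u ^ 2 ≠ 0 := fun c => by
    have := li _ _ (z (polar Q v u • v + (-(2 * Q v)) • u) (U.add_mem (U.smul_mem _ hv) (U.smul_mem _ hu))
      (by simp only [polar_add_left, polar_smul_left, polar_self', polar_comm Q u v, smul_eq_mul]; ring)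
      (by simp only [polar_add_left, polar_smul_left, polar_self', smul_eq_mul]; linear_combination -c))
    exact n0 ⟨by simpa [h2] using this.2, this.1⟩
  obtain ⟨s, t, r⟩ := span2 d hv hu li (hU u hu)
  have e1 := g.map_polar v u
  have e2 := g.map_Q u
  rw [e, r, polar_add_right, polar_smul_right, polar_smul_right, polar_self', smul_eq_mul,
    smul_eq_mul] at e1
  rw [r, Q_add, Q_smul, Q_smul, polar_smul_left, polar_smul_right, smul_eq_mul, smul_eq_mul] at e2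
  have e3 : g (g (g u)) = u := by rw [← O.mul_apply, ← O.mul_apply, ← pow_three', h3, O.one_apply]
  have e4 := (li (s * (1 + t + t ^ 2)) (t ^ 3 - 1) (by
    simp only [r, map_add, map_smul, e] at e3
    linear_combination (norm := module) e3)).2
  have t2 : t ^ 2 = 1 := mul_right_cancel₀ gr (by
    linear_combination 4 * Q v * e2 - (s * (2 * Q v) + t * polar Q v u + polar Q v u) * e1)
  obtain rfl : t = 1 := by linear_combination e4 - t * t2
  have s0 : s = 0 := by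
    by_contra n
    have q : Q v = 0 := mul_left_cancel₀ (mul_ne_zero n h2) (by linear_combination e1)
    exact n0 ⟨q, mul_left_cancel₀ n (by linear_combination e2 - s * s * q)⟩
  obtain ⟨s', t', rfl⟩ := span2 d hv hu li hy
  simp [e, r, s0]

/-- A hyperbolic pair. -/
structure Hp (Q : QuadraticForm K V) (U : Submodule K V) (v v' : V) : Prop where
  l : v ∈ U
  r : v' ∈ U
  ql : Q v = 0
  qr : Q v' = 0
  p : polar Q v v' = 1
  sp : ∀ y ∈ U, ∃ s t : K, y = s • v + t • v'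

theorem exists_hp [IsAlgClosed K] (h2 : (2 : K) ≠ 0) (d : finrank K U = 2)
    (nd : ∀ v ∈ U, (∀ y ∈ U, polar Q v y = 0) → v = 0) : ∃ v v', Hp Q U v v' := by
  obtain ⟨v, hv, h0, q⟩ : ∃ v ∈ U, v ≠ 0 ∧ Q v = 0 := by
    obtain ⟨x, hx, x0⟩ := U.exists_mem_ne_zero_of_ne_bot (by rintro rfl; simp at d)
    by_cases q : Q x = 0
    · exact ⟨x, hx, x0, q⟩
    obtain ⟨y, hy, li⟩ := exists_li d hx x0
    have := NeZero.mk h2
    obtain ⟨t, ht⟩ := exists_quadratic_eq_zero q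
      (IsAlgClosed.exists_eq_mul_self (discrim (Q x) (polar Q x y) (Q y)))
    refine ⟨t • x + (1 : K) • y, U.add_mem (U.smul_mem _ hx) (U.smul_mem _ hy),
      fun e => one_ne_zero (li _ _ e).2, ?_⟩
    rw [one_smul, Q_add, Q_smul, polar_smul_left, smul_eq_mul]
    linear_combination ht
  obtain ⟨y, hy, n⟩ : ∃ y ∈ U, polar Q v y ≠ 0 := by
    by_contra c
    exact h0 (nd v hv (by simpa using c))
  have p : polar Q v ((polar Q v y)⁻¹ • y - Q ((polar Q v y)⁻¹ • y) • v) = 1 := by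
    rw [polar_sub_right, polar_smul_right, polar_smul_right, polar_self', q]; simp [n]
  have m := U.sub_mem (U.smul_mem (polar Q v y)⁻¹ hy) (U.smul_mem (Q ((polar Q v y)⁻¹ • y)) hv)
  have q' : Q ((polar Q v y)⁻¹ • y - Q ((polar Q v y)⁻¹ • y) • v) = 0 := by
    rw [Q_sub, Q_smul Q _ v, q, polar_smul_right, polar_smul_left, polar_comm Q y v]; simp [n]
  refine ⟨v, _, hv, m, q, q', p, fun _ => span2 d hv m fun s t e => ?_⟩
  have e1 := congrArg (polar Q v) e
  rw [polar_add_right, polar_smul_right, polar_smul_right, p, polar_self', q] at e1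
  obtain rfl : t = 0 := by simpa using e1
  simpa [h0] using e

theorem Hp.ne (h : Hp Q U v v') (c : K) : c • v' ≠ v := fun e => by
  have := h.p
  rw [← e, polar_smul_left, polar_self', h.qr] at this
  simp at this

/-- An isometry of a hyperbolic plane is diagonal or interchanges the singular lines. -/
theorem Hp.dg (h : Hp Q U v v') (hU : ∀ v ∈ U, g v ∈ U) :
    (∃ l : K, l ≠ 0 ∧ g v = l • v ∧ g v' = l⁻¹ • v') ∨ ∀ n, (g ^ n) v = v ∧ Even n ∨
      ∃ l : K, (g ^ n) v = l • v' := by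
  obtain ⟨s, t, r⟩ := h.sp _ (hU v h.l)
  obtain ⟨s', t', r'⟩ := h.sp _ (hU v' h.r)
  have e1 := g.map_Q v
  have e2 := g.map_Q v'
  have e3 := g.map_polar v v'
  simp only [r, r', Q_add, Q_smul, polar_add_left, polar_add_right, polar_smul_left, polar_smul_right,
    polar_self', polar_comm Q v' v, h.ql, h.qr, h.p, smul_eq_mul, mul_zero, zero_add, mul_one,
    add_zero, mul_eq_zero] at e1 e2 e3
  rcases e1.symm with rfl | rfl
  · have e : s' * t = 1 := by simpa using e3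
    obtain rfl : t' = 0 := e2.resolve_right (left_ne_zero_of_mul_eq_one e)
    have gg : (g ^ 2) v = v := by simp [pow_two, r, r', smul_smul, mul_comm t, e]
    have k : ∀ n, (g ^ (2 * n)) v = v := fun n => by
      induction n with
      | zero => simp
      | succ n ih => rw [mul_add, pow_add, O.mul_apply, mul_one, gg, ih]
    refine Or.inr fun n => ?_
    rcases Nat.even_or_odd' n with ⟨n, rfl | rfl⟩
    · exact Or.inl ⟨k n, even_two_mul n⟩
    · exact Or.inr ⟨t, by rw [pow_succ', O.mul_apply, k, r]; simp⟩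
  · have e : t' * s = 1 := by simpa using e3
    obtain rfl : s' = 0 := e2.resolve_left (left_ne_zero_of_mul_eq_one e)
    exact Or.inl ⟨s, right_ne_zero_of_mul_eq_one e, by simp [r], by simp [r', eq_inv_of_mul_eq_one_left e]⟩

theorem Hp.map (h : Hp Q U v v') (g : O Q) {U' : Submodule K V} (e : ∀ y, y ∈ U ↔ g y ∈ U') :
    Hp Q U' (g v) (g v') :=
  ⟨(e _).1 h.l, (e _).1 h.r, by simp [h.ql], by simp [h.qr], by simp [h.p], fun y hy => by
    obtain ⟨y, rfl⟩ := g.surjective y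
    obtain ⟨s, t, rfl⟩ := h.sp y ((e _).2 hy)
    exact ⟨s, t, by simp⟩⟩

/-- The images of `z`, `z'`, `w`. -/
structure F4 (a b W : O Q) : Prop where
  two : (2 : K) ≠ 0
  dim : finrank K V = 7
  nd : Q.polarBilin.Nondegenerate
  aa : a * a = 1
  bb : b * b = 1
  ab : Commute a b
  wa : W * a = b * W
  wb : W * b = a * b * W
  w3 : W ^ 3 = 1
  rk : a.rk = 4

namespace F4
variable (h : F4 a b W)
include h

theorem ma : v ∈ a.mov ↔ a v = -v := mem_mov_of_inv h.two h.aa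
theorem mb : v ∈ b.mov ↔ b v = -v := mem_mov_of_inv h.two h.bb
theorem bw (v : V) : b (W v) = W (a v) := by rw [← O.mul_apply, ← h.wa, O.mul_apply]
theorem aw (v : V) : a (W v) = W (b (a v)) := by
  have : W * b * a = a * W := by rw [h.wb, mul_assoc (a * b), h.wa, mul_assoc a, ← mul_assoc b, h.bb, one_mul]
  rw [← O.mul_apply, ← this, O.mul_apply, O.mul_apply]
theorem www (v : V) : W (W (W v)) = v := by
  rw [← O.mul_apply, ← O.mul_apply, ← pow_three', h.w3, O.one_apply]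

theorem m01 (y : V) : y ∈ a.fix ⊓ b.mov ↔ W y ∈ a.mov ⊓ b.fix := by
  simp only [Submodule.mem_inf, O.mem_fix, h.ma, h.mb, h.aw, h.bw, ← map_neg, O.apply_inj]
  exact ⟨fun r => ⟨by rw [r.1, r.2], r.1⟩, fun r => ⟨r.2, by rw [← r.1, r.2]⟩⟩

theorem m12 (y : V) : y ∈ a.mov ⊓ b.fix ↔ W y ∈ a.mov ⊓ b.mov := by
  simp only [Submodule.mem_inf, O.mem_fix, h.ma, h.mb, h.aw, h.bw, ← map_neg, O.apply_inj]
  exact ⟨fun r => ⟨by rw [r.1, map_neg, r.2], r.1⟩,
    fun r => ⟨r.2, neg_injective (by rw [← map_neg, ← r.2, r.1, r.2])⟩⟩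

theorem mE (y : V) (hy : y ∈ a.fix ⊓ b.fix) : W y ∈ a.fix ⊓ b.fix := by
  simp only [Submodule.mem_inf, O.mem_fix, h.aw, h.bw, O.apply_inj] at hy ⊢
  exact ⟨by rw [hy.1, hy.2], hy.1⟩

omit h in
theorem fr_eq {U U' : Submodule K V} (e : ∀ y, y ∈ U ↔ W y ∈ U') : finrank K U' = finrank K U := by
  rw [← LinearEquiv.finrank_map_eq W.1 U, show U.map (W.1 : V →ₗ[K] V) = U' from Submodule.ext fun y => ?_]
  obtain ⟨y, rfl⟩ := W.surjective y
  rw [← e]
  exact ⟨fun ⟨_, r, e⟩ => W.injective e ▸ r, fun r => ⟨y, r, rfl⟩⟩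

theorem dims : finrank K ↥(a.fix ⊓ b.mov) = 2 ∧ finrank K ↥(a.fix ⊓ b.fix) = 1 := by
  have e1 := split h.two h.bb (U := a.fix) fun _ => comm_mem_fix h.ab.symm
  have e2 := split h.two h.bb (U := a.mov) fun _ => comm_mem_mov h.ab.symm
  have e3 := fr_eq h.m01
  have e4 := fr_eq h.m12
  have e5 := a.rk_add_finrank_fix
  have e6 : finrank K a.mov = 4 := h.rk
  rw [h.rk, h.dim] at e5
  omega

/-- Four times a vector is the sum of its components. -/
theorem dec {P : Submodule K V} (hP : ∀ v ∈ P, a v ∈ P ∧ b v ∈ P) (hv : v ∈ P) {T : Submodule K V}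
    (h0 : ∀ y ∈ P, y ∈ a.fix ⊓ b.fix → y ∈ T) (h1 : ∀ y ∈ P, y ∈ a.fix ⊓ b.mov → y ∈ T)
    (h2 : ∀ y ∈ P, y ∈ a.mov ⊓ b.fix → y ∈ T) (h3 : ∀ y ∈ P, y ∈ a.mov ⊓ b.mov → y ∈ T) : v ∈ T := by
  have aa : ∀ v, a (a v) = v := fun v => by rw [← O.mul_apply, h.aa, O.one_apply]
  have bb : ∀ v, b (b v) = v := fun v => by rw [← O.mul_apply, h.bb, O.one_apply]
  have ab : ∀ v, a (b v) = b (a v) := fun v => by rw [← O.mul_apply, h.ab.eq, O.mul_apply]
  have p1 := (hP v hv).1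
  have p2 := (hP v hv).2
  have p3 := (hP _ p1).2
  have e0 := h0 _ (P.add_mem (P.add_mem hv p1) (P.add_mem p2 p3)) (by
    simp only [Submodule.mem_inf, O.mem_fix, map_add, aa, bb, ab]; constructor <;> abel)
  have e1 := h1 _ (P.sub_mem (P.add_mem hv p1) (P.add_mem p2 p3)) (by
    simp only [Submodule.mem_inf, O.mem_fix, h.mb, map_add, map_sub, aa, bb, ab]; constructor <;> abel)
  have e2 := h2 _ (P.add_mem (P.sub_mem hv p1) (P.sub_mem p2 p3)) (by
    simp only [Submodule.mem_inf, O.mem_fix, h.ma, map_add, map_sub, aa, bb, ab]; constructor <;> abel)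
  have e3 := h3 _ (P.sub_mem (P.sub_mem hv p1) (P.sub_mem p2 p3)) (by
    simp only [Submodule.mem_inf, h.ma, h.mb, map_sub, aa, bb, ab]; constructor <;> abel)
  refine (T.smul_mem_iff (mul_ne_zero h.two h.two)).1 ?_
  convert T.add_mem (T.add_mem e0 e1) (T.add_mem e2 e3) using 1
  module

theorem dec' {T : Submodule K V} (h0 : a.fix ⊓ b.fix ≤ T) (h1 : a.fix ⊓ b.mov ≤ T)
    (h2 : a.mov ⊓ b.fix ≤ T) (h3 : a.mov ⊓ b.mov ≤ T) (v : V) : v ∈ T :=
  h.dec (P := ⊤) (by simp) trivial (fun _ _ r => h0 r) (fun _ _ r => h1 r) (fun _ _ r => h2 r)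
    fun _ _ r => h3 r

theorem nd0 : ∀ v ∈ a.fix ⊓ b.mov, (∀ y ∈ a.fix ⊓ b.mov, polar Q v y = 0) → v = 0 := fun v hv e =>
  eq_zero_of_polar h.nd (h.dec' (T := LinearMap.ker (Q.polarBilin v))
    (fun _ r => (polar_comm _ _ _).trans (orth h.two r.2 (h.mb.1 hv.2))) e
    (fun _ r => orth h.two hv.1 (h.ma.1 r.1)) fun _ r => orth h.two hv.1 (h.ma.1 r.1))

theorem exists_e : ∃ e ∈ a.fix ⊓ b.fix, Q e ≠ 0 ∧ (∀ y ∈ a.fix ⊓ b.fix, ∃ c : K, c • e = y) ∧
    ∀ g : O Q, g e ∈ a.fix ⊓ b.fix → ∃ c : K, c ^ 2 = 1 ∧ g e = c • e := by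
  obtain ⟨⟨e, he⟩, e0, sp⟩ := finrank_eq_one_iff'.1 h.dims.2
  have sp' : ∀ y ∈ a.fix ⊓ b.fix, ∃ c : K, c • e = y := fun y hy =>
    (sp ⟨y, hy⟩).imp fun _ r => congrArg Subtype.val r
  have q : Q e ≠ 0 := fun q => e0 (Subtype.ext (eq_zero_of_polar h.nd
    (h.dec' (T := LinearMap.ker (Q.polarBilin e)) (fun y r => by
      obtain ⟨c, rfl⟩ := sp' y r
      simp [q]) (fun _ r => orth h.two he.2 (h.mb.1 r.2))
      (fun _ r => orth h.two he.1 (h.ma.1 r.1)) fun _ r => orth h.two he.1 (h.ma.1 r.1))))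
  refine ⟨e, he, q, sp', fun g hg => ?_⟩
  obtain ⟨c, r⟩ := sp' _ hg
  have := g.map_Q e
  rw [← r, Q_smul] at this
  exact ⟨c, mul_right_cancel₀ q (by linear_combination this), r.symm⟩

omit h in
theorem fix_odd {e : V} {c : K} (c2 : c ^ 2 = 1) (r : g e = c • e) {n : ℕ} (o : Odd n)
    (hn : g ^ n = 1) : g e = e := by
  have k : ∀ n, (g ^ n) e = c ^ n • e := fun n => by
    induction n with
    | zero => simp
    | succ n ih => rw [pow_succ', O.mul_apply, ih, map_smul, r, smul_smul, pow_succ]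
  obtain ⟨j, rfl⟩ := o
  have := k (2 * j + 1)
  rw [hn, pow_succ, pow_mul, c2, one_pow, one_mul, O.one_apply] at this
  exact r.trans this.symm

theorem rk_le : W.rk ≤ 5 := by
  have m : ∀ v : ↥(a.fix ⊓ b.mov), (LinearMap.id + W.lin + W.lin ∘ₗ W.lin : V →ₗ[K] V) v ∈ W.fix :=
    fun v => by
      simp only [O.mem_fix, LinearMap.add_apply, LinearMap.id_apply, LinearMap.comp_apply, O.lin_apply,
        map_add, h.www]
      abel
  have := LinearMap.finrank_le_finrank_of_injective (f := LinearMap.codRestrict W.fix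
    ((LinearMap.id + W.lin + W.lin ∘ₗ W.lin : V →ₗ[K] V) ∘ₗ (a.fix ⊓ b.mov).subtype) m)
    ((injective_iff_map_eq_zero _).2 fun v e => Subtype.ext (neg_self h.two (by
      have e0 : v.1 + W v + W (W v) = 0 := congrArg Subtype.val e
      have e1 := congrArg a e0
      have m1 := (h.m01 _).1 v.2
      rw [map_add, map_add, O.mem_fix.1 v.2.1, h.ma.1 m1.1, h.ma.1 ((h.m12 _).1 m1).1, map_zero] at e1
      linear_combination (norm := module) e0 + e1)))
  have e5 := W.rk_add_finrank_fix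
  rw [h.dims.1] at this
  rw [h.dim] at e5
  omega

theorem le_rk : 4 ≤ W.rk := by
  have m : ∀ v : W.fix, (LinearMap.id + a.lin : V →ₗ[K] V) v ∈ a.fix := fun v => by
    simp only [O.mem_fix, LinearMap.add_apply, LinearMap.id_apply, O.lin_apply, map_add]
    rw [← O.mul_apply, h.aa, O.one_apply, add_comm]
  have := LinearMap.finrank_le_finrank_of_injective (f := LinearMap.codRestrict a.fix
    ((LinearMap.id + a.lin : V →ₗ[K] V) ∘ₗ W.fix.subtype) m)
    ((injective_iff_map_eq_zero _).2 fun v e => Subtype.ext (neg_self h.two (by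
      have e0 : a v = -v.1 := eq_neg_of_add_eq_zero_right (congrArg Subtype.val e)
      have w : W v = v := O.mem_fix.1 v.2
      have e1 := h.bw v
      have e2 := h.aw v
      rw [w, e0, map_neg, w] at e1
      rw [w, e0, map_neg, e1, neg_neg, w] at e2
      exact e2.symm)))
  have e5 := W.rk_add_finrank_fix
  have e6 := a.rk_add_finrank_fix
  rw [h.rk] at e6
  have := h.dim
  omega

theorem rk_six (h1 : g ≠ 1) (h3 : g ^ 3 = 1) (ca : Commute g a) (cw : Commute g W) : 6 ≤ g.rk := by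
  have cb : Commute g b := by
    rw [show b = W * a * W⁻¹ by rw [h.wa]; group]
    exact (cw.mul_right ca).mul_right cw.inv_right
  have gw : ∀ v, g (W v) = W (g v) := fun v => by rw [← O.mul_apply, cw.eq, O.mul_apply]
  obtain ⟨e, he, q, sp, pm⟩ := h.exists_e
  obtain ⟨c, c2, r⟩ := pm g ⟨comm_mem_fix ca he.1, comm_mem_fix cb he.2⟩
  have ge := fix_odd c2 r (by decide) h3
  have k0 : ∀ v ∈ g.fix, v ∈ a.fix ⊓ b.mov → v = 0 := fun v hv m => by
    by_contra n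
    have t0 : a.fix ⊓ b.mov ≤ g.fix := fun _ r => O.mem_fix.2 (plane3 h.two h.dims.1 h.nd0
      (fun _ r => ⟨comm_mem_fix ca r.1, comm_mem_mov cb r.2⟩) h3 m n (O.mem_fix.1 hv) r)
    have t1 : a.mov ⊓ b.fix ≤ g.fix := fun y hy => by
      obtain ⟨y, rfl⟩ := W.surjective y
      exact comm_mem_fix cw.symm (t0 ((h.m01 y).2 hy))
    refine h1 (O.ext fun v => O.mem_fix.1 (h.dec' (T := g.fix) (fun y hy => ?_) t0 t1 (fun y hy => ?_) v))
    · obtain ⟨c, rfl⟩ := sp y hy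
      exact g.fix.smul_mem c (O.mem_fix.2 ge)
    · obtain ⟨y, rfl⟩ := W.surjective y
      exact comm_mem_fix cw.symm (t1 ((h.m12 y).2 hy))
  have k1 : ∀ v ∈ g.fix, v ∈ a.mov ⊓ b.fix → v = 0 := fun v hv m => by
    obtain ⟨v, rfl⟩ := W.surjective v
    rw [k0 v (O.mem_fix.2 (W.injective ((gw v).symm.trans (O.mem_fix.1 hv)))) ((h.m01 v).2 m), map_zero]
  have k2 : ∀ v ∈ g.fix, v ∈ a.mov ⊓ b.mov → v = 0 := fun v hv m => by
    obtain ⟨v, rfl⟩ := W.surjective v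
    rw [k1 v (O.mem_fix.2 (W.injective ((gw v).symm.trans (O.mem_fix.1 hv)))) ((h.m12 v).2 m), map_zero]
  have := Submodule.finrank_mono (show g.fix ≤ a.fix ⊓ b.fix from fun v hv =>
    h.dec (P := g.fix) (fun _ r => ⟨comm_mem_fix ca.symm r, comm_mem_fix cb.symm r⟩) hv
      (fun _ _ r => r) (fun y m r => k0 y m r ▸ zero_mem _) (fun y m r => k1 y m r ▸ zero_mem _)
      fun y m r => k2 y m r ▸ zero_mem _)
  have e5 := g.rk_add_finrank_fix
  have := h.dims.2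
  have := h.dim
  omega

end F4

variable {Γ : Type} [Group Γ] {p : ℕ} {ρ : Γ →* O Q} {z w : Γ}

theorem f4_of (h : Rp p ρ) (A : A4 z w) (r : (ρ z).rk = 4) : F4 (ρ z) (ρ (cp w 1 z)) (ρ w) := by
  have s : cp w 1 z * cp w 1 z = 1 := by rw [← cp_mul, A.sq]; simp [cp]
  have e : cp w 2 z = z * cp w 1 z := by
    rw [← inv_eq_of_mul_eq_one_right A.prod, inv_eq_iff_mul_eq_one, mul_assoc, ← mul_assoc (cp w 1 z),
      ← A.comm.eq, mul_assoc, s, mul_one, A.sq]
  refine ⟨h.two, h.dim, h.nd, by rw [← map_mul, A.sq, map_one], by rw [← map_mul, s, map_one],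
    A.comm.map ρ, ?_, ?_, by rw [← map_pow, A.w3, map_one], r⟩
  · rw [← map_mul, ← map_mul, cp_one, inv_mul_cancel_right]
  · rw [← map_mul, ← map_mul, ← map_mul, ← e, ← cp_cp w z 1 1, cp_one w (cp w 1 z), inv_mul_cancel_right]

theorem jobC7 : JobC7.{u} := by
  intro p K _ V _ _ _ Q Γ _ _ ρ h z w A r
  have F := f4_of h A r
  refine ⟨?_, fun a h1 h3 cz cw => le_antisymm (h.rk_le a) (F.rk_six (mt h.eq_one.1 h1)
    (by rw [← map_pow, h3, map_one]) (cz.map ρ) (cw.map ρ))⟩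
  have := F.rk_le
  have := F.le_rk
  obtain ⟨k, e⟩ := h.rk_even w
  omega

theorem jobTL0 : JobTL0.{u} := by
  intro p K _ V _ _ _ Q Γ _ _ ρ h _ z w A r
  have F := f4_of h A r
  obtain ⟨e, he, q, -, pm⟩ := F.exists_e
  obtain ⟨v, v', H0⟩ := exists_hp F.two F.dims.1 F.nd0
  have H1 := H0.map _ F.m01
  have H2 := H1.map _ F.m12
  have we : ρ w e = e := by
    obtain ⟨c, c2, r⟩ := pm _ (F.mE e he)
    exact F4.fix_odd c2 r (by decide) F.w3
  have o01 : ∀ {x y}, x ∈ (ρ z).fix → y ∈ (ρ z).mov → polar Q x y = 0 := fun hx hy =>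
    orth F.two hx (F.ma.1 hy)
  have o12 : ∀ {x y}, x ∈ (ρ (cp w 1 z)).fix → y ∈ (ρ (cp w 1 z)).mov → polar Q x y = 0 := fun hx hy =>
    orth F.two hx (F.mb.1 hy)
  have sy : ∀ {x y}, polar Q x y = 0 → polar Q y x = 0 := fun r => (polar_comm _ _ _).trans r
  have ss : ∀ {x}, Q x = 0 → polar Q x x = 0 := fun r => by rw [polar_self', r, mul_zero]
  refine ⟨e, ![v, ρ w v, ρ w (ρ w v)], ![v', ρ w v', ρ w (ρ w v')], ⟨q, ?_, ?_, ?_, ?_, ?_⟩, ⟨we, ?_⟩,
    ⟨O.mem_fix.1 he.1, ?_⟩, fun a c1 c2 o => ?_, fun x m xm T => ?_⟩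
  · intro i; fin_cases i
    exacts [o12 he.2 H0.l.2, o01 he.1 H1.l.1, o01 he.1 H2.l.1]
  · intro i; fin_cases i
    exacts [o12 he.2 H0.r.2, o01 he.1 H1.r.1, o01 he.1 H2.r.1]
  · intro i j; fin_cases i <;> fin_cases j
    exacts [ss H0.ql, o01 H0.l.1 H1.l.1, o01 H0.l.1 H2.l.1, sy (o01 H0.l.1 H1.l.1), ss H1.ql,
      o12 H1.l.2 H2.l.2, sy (o01 H0.l.1 H2.l.1), sy (o12 H1.l.2 H2.l.2), ss H2.ql]
  · intro i j; fin_cases i <;> fin_cases j
    exacts [ss H0.qr, o01 H0.r.1 H1.r.1, o01 H0.r.1 H2.r.1, sy (o01 H0.r.1 H1.r.1), ss H1.qr,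
      o12 H1.r.2 H2.r.2, sy (o01 H0.r.1 H2.r.1), sy (o12 H1.r.2 H2.r.2), ss H2.qr]
  · intro i j; fin_cases i <;> fin_cases j
    exacts [H0.p, o01 H0.l.1 H1.r.1, o01 H0.l.1 H2.r.1, sy (o01 H0.r.1 H1.l.1), H1.p,
      o12 H1.l.2 H2.r.2, sy (o01 H0.r.1 H2.l.1), sy (o12 H1.r.2 H2.l.2), H2.p]
  · intro i; fin_cases i
    exacts [⟨rfl, rfl⟩, ⟨rfl, rfl⟩, ⟨F.www v, F.www v'⟩]
  · intro i; fin_cases i
    · simpa using ⟨O.mem_fix.1 H0.l.1, O.mem_fix.1 H0.r.1⟩
    · simpa using ⟨F.ma.1 H1.l.1, F.ma.1 H1.r.1⟩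
    · simpa using ⟨F.ma.1 H2.l.1, F.ma.1 H2.r.1⟩
  · have ca := c1.map ρ
    have cb := c2.map ρ
    have a1 : ρ a ^ orderOf a = 1 := by rw [← map_pow, pow_orderOf_eq_one, map_one]
    have k : ∀ {U v v'}, Hp Q U v v' → (∀ y ∈ U, ρ a y ∈ U) →
        ∃ l : K, l ≠ 0 ∧ ρ a v = l • v ∧ ρ a v' = l⁻¹ • v' := fun H hU =>
      (H.dg hU).resolve_right fun c => by
        rcases c (orderOf a) with ⟨-, e⟩ | ⟨l, e⟩
        · exact Nat.not_even_iff_odd.2 o e
        · exact H.ne l (by rw [← e, a1, O.one_apply])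
    obtain ⟨l0, r0⟩ := k H0 fun _ r => ⟨comm_mem_fix ca r.1, comm_mem_mov cb r.2⟩
    obtain ⟨l1, r1⟩ := k H1 fun _ r => ⟨comm_mem_mov ca r.1, comm_mem_fix cb r.2⟩
    obtain ⟨l2, r2⟩ := k H2 fun _ r => ⟨comm_mem_mov ca r.1, comm_mem_mov cb r.2⟩
    obtain ⟨c, c2, r⟩ := pm (ρ a) ⟨comm_mem_fix ca he.1, comm_mem_fix cb he.2⟩
    refine ⟨![l0, l1, l2], F4.fix_odd c2 r o a1, fun i => ?_⟩
    fin_cases i
    exacts [r0, r1, r2]
  · have ca : Commute (ρ x) (ρ z) := (xm ▸ Commute.self_pow x m).map ρ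
    have cb : Commute (ρ x) (ρ (cp w 1 z)) := Commute.map (by rw [← xm, cp_pow]; exact T.comm.pow_right m) ρ
    have k : ∀ {U v v'}, Hp Q U v v' → v ∈ (ρ z).mov → (∀ y ∈ U, ρ x y ∈ U) →
        ∃ l : K, l ≠ 0 ∧ ρ x v = l • v ∧ ρ x v' = l⁻¹ • v' := fun H hv hU =>
      (H.dg hU).resolve_right fun c => by
        have n := F.ma.1 hv
        rcases c m with ⟨e, -⟩ | ⟨l, e⟩ <;> rw [← map_pow, xm, n] at e
        · exact H.ne 0 (by rw [zero_smul, neg_self F.two e.symm])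
        · exact H.ne (-l) (by rw [neg_smul, ← e, neg_neg])
    obtain ⟨l1, n1, r1⟩ := k H1 H1.l.1 fun _ r => ⟨comm_mem_mov ca r.1, comm_mem_fix cb r.2⟩
    obtain ⟨l2, n2, r2⟩ := k H2 H2.l.1 fun _ r => ⟨comm_mem_mov ca r.1, comm_mem_mov cb r.2⟩
    obtain ⟨c, c2, r⟩ := pm (ρ x) ⟨comm_mem_fix ca he.1, comm_mem_fix cb he.2⟩
    have P : ∀ y, ρ x (ρ w (ρ x (ρ w (ρ x (ρ w y))))) = y := fun y => by
      have : x * w * x * w * x * w = 1 := by
        rw [← T.prod, show x * cp w 1 x * cp w 2 x = x * w * x * w * x * w * (w ^ 3)⁻¹ by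
          simp only [cp]; group, T.w3, inv_one, mul_one]
      simpa using congrArg (fun g => ρ g y) this
    have t : ∀ (y : V) (s1 s2 : K), ρ x (ρ w y) = s1 • ρ w y → ρ x (ρ w (ρ w y)) = s2 • ρ w (ρ w y) →
        s1 * s2 ≠ 0 → ρ x y = (s1 * s2)⁻¹ • y := fun y s1 s2 e1 e2 n => by
      have := P y
      rw [e1, map_smul, map_smul, e2, map_smul, map_smul, map_smul, map_smul, F.www, smul_smul] at this
      rw [eq_inv_smul_iff₀ n, this]
    refine ⟨![(l1 * l2)⁻¹, l1, l2], ⟨?_, fun i => ?_⟩, by simp; field_simp⟩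
    · have := P e
      simp only [we, r, map_smul, smul_smul] at this
      rw [show c * c * c = c by linear_combination c * c2] at this
      exact r.trans this
    · fin_cases i
      exacts [⟨inv_ne_zero (mul_ne_zero n1 n2), t _ _ _ r1.1 r2.1 (mul_ne_zero n1 n2), by
        simpa [mul_comm] using t _ _ _ r1.2 r2.2 (by simp [n1, n2])⟩, ⟨n1, r1⟩, ⟨n2, r2⟩]

end H29.O7
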