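import Cfsg.Agent.H47.O8Sp
import Cfsg.Agent.H52.L3W

/-! `blueprints/LOCAL3C.md` 5.12: `JobS33`. -/

set_option autoImplicit false
set_option linter.unusedSectionVars false
set_option maxRecDepth 10000

namespace H29.O8

open _root_.Cfsg Subgroup H14 H98 H44 H56.L3 H42.L3 H47.O8 H52.L3

universe u

def c3 : S3 := finRotate 3
def s2 : S3 := Equiv.swap 0 1

theorem c3_ne : c3 ≠ 1 := by decide
theorem c3_cube : c3 ^ 3 = 1 := by decide
theorem c3_conj : ∀ a : S3, a * c3 * a⁻¹ = c3 ∨ a * c3 * a⁻¹ = c3⁻¹ := by decide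
theorem c3_cen (a : S3) (h : a * c3 * a⁻¹ = c3) : a ∈ zpowers c3 := by
  rcases (by decide : ∀ a : S3, a * c3 * a⁻¹ = c3 → a = 1 ∨ a = c3 ∨ a = c3⁻¹) a h with
    rfl | rfl | rfl
  exacts [one_mem _, mem_zpowers _, inv_mem (mem_zpowers _)]
theorem s2_cen (a : S3) (h : a * s2 = s2 * a) : a ∈ zpowers s2 := by
  rcases (by decide : ∀ a : S3, a * s2 = s2 * a → a = 1 ∨ a = s2) a h with rfl | rfl
  exacts [one_mem _, mem_zpowers _]

theorem E_cube {X : Type*} [Group X] {x y e : X} (xy : x * y = y * x) (x3 : x ^ 3 = 1)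
    (y3 : y ^ 3 = 1) (he : e ∈ zpowers x ⊔ zpowers y) : e ^ 3 = 1 := by
  obtain ⟨a, ⟨i, rfl⟩, b, ⟨j, rfl⟩, rfl⟩ := (mem_E xy).1 he
  rw [((Commute.zpow_zpow xy i j)).mul_pow, ← zpow_natCast, ← zpow_natCast, ← zpow_mul, ← zpow_mul,
    mul_comm i, mul_comm j, zpow_mul, zpow_mul, zpow_natCast, zpow_natCast, x3, y3]
  simp

theorem E_comm {X : Type*} [Group X] {x y : X} (xy : x * y = y * x) :
    IsMulCommutative (zpowers x ⊔ zpowers y : Subgroup X) := ⟨⟨fun a b => Subtype.ext (by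
  obtain ⟨_, ⟨i, rfl⟩, _, ⟨j, rfl⟩, e1⟩ := (mem_E xy).1 a.2
  obtain ⟨_, ⟨k, rfl⟩, _, ⟨l, rfl⟩, e2⟩ := (mem_E xy).1 b.2
  have c : Commute x y := xy
  rw [coe_mul, coe_mul, e1, e2]
  exact (((Commute.refl _).zpow_zpow i k).mul_right (c.zpow_zpow i l)).mul_left
    ((c.symm.zpow_zpow j k).mul_right ((Commute.refl _).zpow_zpow j l)))⟩⟩

theorem E_nc {X : Type*} [Group X] {x y : X} (xy : x * y = y * x) (x3 : x ^ 3 = 1)
    (y3 : y ^ 3 = 1) (x1 : x ≠ 1) (y1 : y ≠ 1) (n1 : x ≠ y) (n2 : x ≠ y⁻¹) :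
    ¬ IsCyclic (zpowers x ⊔ zpowers y : Subgroup X) := fun hc => by
  obtain ⟨g, hg⟩ := hc.exists_generator
  have g3 : (g : X) ^ 3 = 1 := E_cube xy x3 y3 g.2
  have k : ∀ a ∈ zpowers x ⊔ zpowers y, a ∈ zpowers (g : X) := fun a ha =>
    (hg ⟨a, ha⟩).imp fun i e => congrArg Subtype.val e
  have a := mem_zp3 g3 (k x (mem_sup_left (mem_zpowers _)))
  have b := mem_zp3 g3 (k y (mem_sup_right (mem_zpowers _)))
  generalize (g : X) = g at a b
  rcases a with rfl | rfl | rfl <;> rcases b with rfl | rfl | rfl <;> simp_all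

/-- the hypothesis of `JobS33` -/
structure SE {X : Type u} [Group X] (β : S3 × S3 × S3 →* X) : Prop where
  inj : Function.Injective β
  se : ∀ a a' g, a ^ 3 = 1 → a ≠ 1 → g * β a * g⁻¹ = β a' → g ∈ β.range

variable {X : Type u} [Group X] [Finite X] {β : S3 × S3 × S3 →* X}

/-- exchange of the first two factors -/
def sw : S3 × S3 × S3 ≃* S3 × S3 × S3 where
  toFun a := (a.2.1, a.1, a.2.2)
  invFun a := (a.2.1, a.1, a.2.2)
  left_inv _ := rfl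
  right_inv _ := rfl
  map_mul' _ _ := rfl

theorem range_sw : (β.comp sw.toMonoidHom).range = β.range := by
  rw [MonoidHom.range_comp, MonoidHom.range_eq_top.2 sw.surjective, ← MonoidHom.range_eq_map]

namespace SE
variable (h : SE β)
include h

theorem swap : SE (β.comp sw.toMonoidHom) :=
  ⟨h.inj.comp sw.injective, fun a a' g a3 a1 e => range_sw (β := β) ▸ h.se (sw a) (sw a') g
    (by rw [← map_pow, a3, map_one]) (by simpa using a1) e⟩

theorem se' {x g : X} (hx : x ∈ β.range) (x3 : x ^ 3 = 1) (x1 : x ≠ 1)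
    (e : g * x * g⁻¹ ∈ β.range) : g ∈ β.range := by
  obtain ⟨a, rfl⟩ := hx
  obtain ⟨a', e⟩ := e
  exact h.se a a' g (h.inj (by rw [map_pow, x3, map_one])) (fun o => x1 (by rw [o, map_one])) e.symm

theorem ne {a : S3 × S3 × S3} (a1 : a ≠ 1) : β a ≠ 1 := fun e => a1 (h.inj (by rw [e, map_one]))

theorem cen_tau : Ce (β (s2, 1, 1)) ≤ β.range := by
  have cm : ∀ a, a * (s2, 1, 1) = (s2, 1, 1) * a → β a ∈ Ce (β (s2, 1, 1)) ⊓ β.range := fun a e =>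
    ⟨mem_Ce.2 (by rw [← map_mul, e, map_mul]), a, rfl⟩
  have x3 : β (1, c3, 1) ^ 3 = 1 := by rw [← map_pow, ← map_one β]; exact congrArg β (by decide)
  have y3 : β (1, 1, c3) ^ 3 = 1 := by rw [← map_pow, ← map_one β]; exact congrArg β (by decide)
  have xy : β (1, c3, 1) * β (1, 1, c3) = β (1, 1, c3) * β (1, c3, 1) := by
    rw [← map_mul, ← map_mul]; exact congrArg β (by decide)
  have zl : zpowers (β (s2, 1, 1)) ≤ Ce (β (s2, 1, 1)) ⊓ β.range := zpowers_le.2 (cm _ rfl)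
  have el : zpowers (β (1, c3, 1)) ⊔ zpowers (β (1, 1, c3)) ≤ β.range :=
    sup_le (zpowers_le.2 ⟨_, rfl⟩) (zpowers_le.2 ⟨_, rfl⟩)
  refine le_of_diag (Z := zpowers (β (s2, 1, 1))) (x := β (1, c3, 1)) (y := β (1, 1, c3)) zl ?_
    (cm _ (by decide)) (cm _ (by decide)) x3 y3 xy ?_ (h.ne (by decide)) (h.ne (by decide)) ?_ ?_
  · rintro g hg _ ⟨k, rfl⟩
    exact (Commute.zpow_right (mem_Ce.1 hg) k).symm
  · rintro _ ⟨i, rfl⟩ _ ⟨j, rfl⟩ ⟨k, e⟩
    simp only [← map_zpow, ← map_mul] at e ⊢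
    have e := h.inj e
    simp only [Prod.pow_mk, one_zpow, Prod.mk_mul_mk, mul_one, one_mul, Prod.mk.injEq] at e ⊢
    rw [← e.2.1, ← e.2.2]
    exact ⟨map_one β, map_one β⟩
  · rintro _ ⟨hw, ⟨a, b, c⟩, rfl⟩
    have hw := h.inj (by rw [map_mul, map_mul]; exact mem_Ce.1 hw :
      β ((a, b, c) * (s2, 1, 1)) = β ((s2, 1, 1) * (a, b, c)))
    simp only [← map_inv, ← map_mul, h.inj.eq_iff, Prod.mk_mul_mk, Prod.inv_mk, mul_one, one_mul,
      mul_inv_cancel, inv_one, Prod.mk.injEq, true_and, and_true] at hw ⊢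
    refine ⟨c3_conj b, c3_conj c, fun e1 e2 => ?_⟩
    obtain ⟨i, rfl⟩ := s2_cen a hw
    obtain ⟨j, rfl⟩ := c3_cen b e1
    obtain ⟨k, rfl⟩ := c3_cen c e2
    have := mul_mem_sup (mul_mem_sup (zpow_mem_zpowers (β (1, c3, 1)) j)
      (zpow_mem_zpowers (β (1, 1, c3)) k)) (zpow_mem_zpowers (β (s2, 1, 1)) i)
    simpa [← map_zpow, ← map_mul] using this
  · intro e he e1 g _ hg
    exact h.se' (el he) (E_cube xy x3 y3 he) e1 (sup_le el (zl.trans inf_le_right) hg)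

theorem fus {g : X} {m x : S3 × S3 × S3} (e : g * β (s2, 1, 1) * g⁻¹ = β m) (x3 : x ^ 3 = 1)
    (x1 : x ≠ 1) (c : x * m = m * x) : g ∈ β.range := by
  refine inv_mem_iff.1 (h.se' ⟨x, rfl⟩ (by rw [← map_pow, x3, map_one]) (h.ne x1)
    (h.cen_tau (mem_Ce.2 ?_)))
  have := congrArg β c
  rw [map_mul, map_mul, ← e] at this
  calc _ = g⁻¹ * (β x * (g * β (s2, 1, 1) * g⁻¹)) * g := by group
    _ = _ := by rw [this]; group

theorem alt : (∀ g, g * β (s2, 1, 1) * g⁻¹ ∈ β.range → g ∈ β.range) ∨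
    IsConj (β (s2, 1, 1)) (β (s2, s2, s2)) := by
  refine or_iff_not_imp_left.2 fun n => ?_
  push Not at n
  obtain ⟨g, ⟨⟨a, b, c⟩, e⟩, n⟩ := n
  have m2 : (a, b, c) * (a, b, c) = 1 := h.inj (by
    rw [map_mul, e, conj_mul, ← map_mul, show ((s2, 1, 1) * (s2, 1, 1) : S3 × S3 × S3) = 1 by decide]
    simp)
  simp only [Prod.mk_mul_mk, Prod.mk_eq_one] at m2
  have k : ∀ a : S3, a * a = 1 → a ≠ 1 → ∃ r, r * a * r⁻¹ = s2 := by decide
  obtain ⟨p, hp⟩ := k a m2.1 fun o => n (h.fus (x := (c3, 1, 1)) e.symm (by decide) (by decide)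
    (by simp [o]))
  obtain ⟨q, hq⟩ := k b m2.2.1 fun o => n (h.fus (x := (1, c3, 1)) e.symm (by decide) (by decide)
    (by simp [o]))
  obtain ⟨r, hr⟩ := k c m2.2.2 fun o => n (h.fus (x := (1, 1, c3)) e.symm (by decide) (by decide)
    (by simp [o]))
  refine (isConj_iff.2 ⟨g, e.symm⟩).trans (isConj_iff.2 ⟨β (p, q, r), ?_⟩)
  rw [← map_inv, ← map_mul, ← map_mul]
  exact congrArg β (Prod.ext hp (Prod.ext hq hr))

theorem exists_N (hf : ∀ g, g * β (s2, 1, 1) * g⁻¹ ∈ β.range → g ∈ β.range)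
    (π : S3 × S3 × S3 →* S3) (ι : S3 →* S3 × S3 × S3) (h1 : ∀ a, π (ι a) = a)
    (h2 : π (s2, 1, 1) = 1) :
    ∃ N : Subgroup X, ⊤ ≤ nr N ∧ β (s2, 1, 1) ∈ N ∧ ∀ m, β m ∈ N → π m = 1 := by
  let e := MonoidHom.ofInjective h.inj
  have e1 : ∀ m (hm : β m ∈ β.range), e.symm ⟨β m, hm⟩ = m := fun m _ => e.symm_apply_apply m
  obtain ⟨N, -, n1, n2, n3⟩ := bs_sub (C := ⊤) (H := β.range) le_top (π.comp e.symm.toMonoidHom)
    (fun a => ⟨⟨_, ι a, rfl⟩, (congrArg π (e1 _ _)).trans (h1 a)⟩)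
    (fun x hx o g _ => h.se' hx (o ▸ pow_orderOf_eq_one x) fun c => by simp [c] at o)
    (v := β (s2, 1, 1)) trivial (by simp only [← map_mul, ← map_one β]; exact congrArg β (by decide))
    (fun g _ => mem_Ce.2 (by
      rw [← map_mul, show ((s2, 1, 1) * (s2, 1, 1) : S3 × S3 × S3) = 1 by decide]; simp)) (by
      rintro g - ⟨_, m, rfl⟩ c
      obtain ⟨k, rfl⟩ := hf g ⟨m, c.symm⟩
      have : k * (s2, 1, 1) * k⁻¹ = m := h.inj (by rw [map_mul, map_mul, map_inv]; exact c)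
      rw [show (π.comp e.symm.toMonoidHom) ⟨β m, m, rfl⟩ = π m from congrArg π (e1 _ _), ← this]
      simp [h2])
  have n4 : ∀ m, π m ^ 3 = 1 → π m ≠ 1 → β m ∉ N := fun m a b => n3 ⟨_, m, rfl⟩
    ((congrArg (fun x => orderOf (π x)) (e1 _ _)).trans (orderOf_eq_prime a b))
  refine ⟨N, n1, n2, fun m hm => by_contra fun c => ?_⟩
  rcases (by decide : ∀ b : S3, b ≠ 1 → b ^ 3 = 1 ∨ (c3 * b * c3⁻¹ * b⁻¹) ^ 3 = 1 ∧
    c3 * b * c3⁻¹ * b⁻¹ ≠ 1) _ c with o | ⟨o, o'⟩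
  · exact n4 m o c hm
  · refine n4 (ι c3 * m * (ι c3)⁻¹ * m⁻¹) (by simpa [h1] using o) (by simpa [h1] using o') ?_
    simp only [map_mul, map_inv]
    exact mul_mem (conj_mem_of_mem_normalizer (n1 trivial) hm) (inv_mem hm)

theorem top_of (hf : ∀ g, g * β (s2, 1, 1) * g⁻¹ ∈ β.range → g ∈ β.range) : β.range = ⊤ := by
  obtain ⟨N₁, a1, a2, a3⟩ := h.exists_N hf ((MonoidHom.fst _ _).comp (MonoidHom.snd _ _))
    ((MonoidHom.inr _ _).comp (MonoidHom.inl _ _)) (fun _ => rfl) rfl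
  obtain ⟨N₂, b1, b2, b3⟩ := h.exists_N hf ((MonoidHom.snd _ _).comp (MonoidHom.snd _ _))
    ((MonoidHom.inr _ _).comp (MonoidHom.inr _ _)) (fun _ => rfl) rfl
  have nN : ∀ g, ∀ x ∈ N₁ ⊓ N₂, g * x * g⁻¹ ∈ N₁ ⊓ N₂ := fun g x hx =>
    ⟨conj_mem_of_mem_normalizer (a1 trivial) hx.1, conj_mem_of_mem_normalizer (b1 trivial) hx.2⟩
  have fs : ∀ g ∈ N₁ ⊓ N₂, g ∈ β.range → ∃ a, g = β (a, 1, 1) := by
    rintro _ hg ⟨⟨a, b, c⟩, rfl⟩
    exact ⟨a, congrArg β (Prod.ext rfl (Prod.ext (a3 _ hg.1) (b3 _ hg.2)))⟩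
  have x3 : β (c3, 1, 1) ^ 3 = 1 := by rw [← map_pow, ← map_one β]; exact congrArg β (by decide)
  have y3 : β (1, c3, 1) ^ 3 = 1 := by rw [← map_pow, ← map_one β]; exact congrArg β (by decide)
  have x1 : β (c3, 1, 1) ≠ 1 := h.ne (by decide)
  have xy : β (c3, 1, 1) * β (1, c3, 1) = β (1, c3, 1) * β (c3, 1, 1) := by
    rw [← map_mul, ← map_mul]; exact congrArg β (by decide)
  have xN : β (c3, 1, 1) ∈ N₁ ⊓ N₂ := by
    have := mul_mem (nN (β (c3, 1, 1))⁻¹ _ ⟨a2, b2⟩) (show β (s2, 1, 1) ∈ N₁ ⊓ N₂ from ⟨a2, b2⟩)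
    simp only [← map_inv, ← map_mul] at this
    rwa [show ((c3, 1, 1)⁻¹ * (s2, 1, 1) * (c3, 1, 1)⁻¹⁻¹ * (s2, 1, 1) : S3 × S3 × S3) = (c3, 1, 1) by
      decide] at this
  let J := zpowers (β (c3, 1, 1)) ⊔ zpowers (β (1, c3, 1))
  have JH : J ≤ β.range := sup_le (zpowers_le.2 ⟨_, rfl⟩) (zpowers_le.2 ⟨_, rfl⟩)
  have J3 : ∀ e ∈ J, e ^ 3 = 1 := fun e => E_cube xy x3 y3
  have pJ : IsPGroup 3 J := isPGroup_iff_forall.2 fun a ha => ⟨1, J3 a ha⟩
  have xJ : β (c3, 1, 1) ∈ J := mem_sup_left (mem_zpowers _)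
  have : IsMulCommutative J := E_comm xy
  have nc : ¬ IsCyclic J := E_nc xy x3 y3 x1 (h.ne (by decide)) (h.inj.ne (by decide))
    (by rw [← map_inv]; exact h.inj.ne (by decide))
  have cx : ∀ g ∈ N₁ ⊓ N₂, g * β (c3, 1, 1) = β (c3, 1, 1) * g → g ∈ zpowers (β (c3, 1, 1)) :=
    fun g hg e => by
      obtain ⟨a, rfl⟩ := fs g hg (h.se' ⟨_, rfl⟩ x3 x1 ⟨_, (mul_inv_eq_iff_eq_mul.2 e).symm⟩)
      obtain ⟨i, rfl⟩ := c3_cen a (mul_inv_eq_iff_eq_mul.2 (congrArg Prod.fst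
        (h.inj (by rw [map_mul, map_mul]; exact e) : ((a, 1, 1) * (c3, 1, 1) : S3 × S3 × S3) =
          (c3, 1, 1) * (a, 1, 1))))
      exact ⟨i, by simp [← map_zpow]⟩
  have NH : N₁ ⊓ N₂ ≤ β.range := fun g hg => h.se' ⟨_, rfl⟩ x3 x1 (by
    rcases tools.ft1 X (N₁ ⊓ N₂) ⊥ J _ ⟨bot_le, by simp, by simp, xN, orderOf_eq_prime x3 x1,
      fun g hg e => mem_sup_right (cx g hg e)⟩ pJ
      (fun j _ => mem_normalizer_fintype fun x hx => nN j x hx) (fun R lR cR nR r hr => by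
        obtain ⟨n, cJ⟩ := IsPGroup.iff_card.1 pJ
        have h0 : ∀ r ∈ R, r ^ 3 = 1 → r = 1 := fun r hr he =>
          orderOf_eq_one_iff.1 (Nat.eq_one_of_dvd_coprimes cR (R.orderOf_dvd_natCard hr)
            (orderOf_dvd_of_pow_eq_one he))
        obtain ⟨a, rfl⟩ := fs r (lR hr) (H1.le_of_noncyclic_centralizer_le nc
          (fun j hj => mem_normalizer_fintype fun x hx => nR j hj x hx)
          (by rw [cJ]; exact cR.symm.pow_left n) β.range (fun a ha a1 g hg =>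
            h.se' (JH ha) (J3 a ha) a1 (by rw [mem_Ce'.1 hg.2]; exact JH ha)) hr)
        have k : ∀ a : S3, (c3 * a * c3⁻¹ * a⁻¹) ^ 3 = 1 ∧
          (c3 * a * c3⁻¹ * a⁻¹ = 1 → a ^ 3 = 1) := by decide
        have e := h0 _ (mul_mem (nR _ xJ _ hr) (inv_mem hr)) (by
          simp only [← map_inv, ← map_mul, ← map_pow]
          rw [← map_one β]
          exact congrArg β (Prod.ext (k a).1 (by simp)))
        simp only [← map_inv, ← map_mul] at e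
        refine h0 _ hr ?_
        rw [← map_pow, ← map_one β]
        exact congrArg β (Prod.ext ((k a).2 (congrArg Prod.fst (h.inj (e.trans (map_one β).symm))))
          (by simp))) g hg with e | e <;> rw [e]
    exacts [⟨_, rfl⟩, inv_mem ⟨_, rfl⟩])
  exact eq_top_iff.2 fun g _ => h.se' ⟨_, rfl⟩ x3 x1 (NH (nN g _ xN))

end SE

theorem jobS33 : JobS33.{u} := by
  intro X _ _ β hi se
  have h : SE β := ⟨hi, se⟩
  rcases h.alt with a | a
  · exact h.top_of a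
  rcases h.swap.alt with b | b
  · exact range_sw (β := β) ▸ h.swap.top_of b
  obtain ⟨g, e⟩ := isConj_iff.1 (a.trans b.symm)
  obtain ⟨k, rfl⟩ := h.fus (m := (1, s2, 1)) (x := (c3, 1, 1)) e (by decide) (by decide) (by decide)
  have : k * (s2, 1, 1) * k⁻¹ = (1, s2, 1) := hi (by rw [map_mul, map_mul, map_inv]; exact e)
  exact absurd (conj_eq_one_iff.1 (congrArg Prod.fst this)) (by decide)

end H29.O8
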