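/- Tower R5 (S3194), slot CB: a common centraliser order is impossible. -/
import Cfsg.Agent.H34.R5Spec
import Cfsg.Agent.S4033
import Cfsg.Agent.S4034

set_option autoImplicit false

open Cfsg Subgroup H41.IT H34.R5

namespace H29.R5B

universe u

section
variable {G : Type*} [Group G] [Finite G]

omit [Finite G] in
theorem ncard_cls (x : G) : (ConjClasses.mk x).carrier.ncard = (C x).index := by
  rw [show (ConjClasses.mk x).carrier = {y | IsConj x y} from Set.ext fun y =>
    ConjClasses.mem_carrier_iff_mk_eq.trans (ConjClasses.mk_eq_mk_iff_isConj.trans isConj_comm),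
    H4.ncard_isConj]

theorem exists_central {q : ℕ} (hq : q.Prime) (h : q ∣ Nat.card G) :
    ∃ z : G, orderOf z = q ∧ ¬ q ∣ (C z).index := by
  have := Fact.mk hq
  obtain ⟨P⟩ : Nonempty (Sylow q G) := inferInstance
  have : Nontrivial P := (nontrivial_iff_ne_bot _).2 (P.ne_bot_of_dvd_card h)
  have := P.isPGroup'.center_nontrivial
  obtain ⟨z, hz⟩ := exists_prime_orderOf_dvd_card' (G := center P) q
    ((P.isPGroup'.to_subgroup (center P)).card_eq_or_dvd.resolve_left Finite.one_lt_card.ne')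
  refine ⟨z.1.1, by rw [orderOf_coe, orderOf_coe, hz], fun k => P.not_dvd_index (k.trans
    (index_dvd_of_le fun g hg => mem_C.2 ?_))⟩
  exact congrArg Subtype.val (mem_center_iff.1 z.2 ⟨g, hg⟩)

omit [Finite G] in
theorem exists_conj {p : ℕ} (hp : p.Prime) {z : G} (hz : orderOf z = p) {H : Subgroup G}
    (h : ¬ p ∣ H.index) : ∃ z' ∈ H, orderOf z' = p ∧ c z' = c z := by
  have := Fact.mk hp
  obtain ⟨v, hv⟩ := (IsPGroup.of_card (G := zpowers z) (n := 1) (by
    rw [Nat.card_zpowers, hz, pow_one])).nonempty_fixed_point_of_prime_not_dvd_card (G ⧸ H) h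
  obtain ⟨g, rfl⟩ := QuotientGroup.mk_surjective v
  have h1 : ((z * g : G) : G ⧸ H) = g := hv ⟨z, mem_zpowers z⟩
  refine ⟨MulAut.conj g⁻¹ z, ?_, by rw [MulEquiv.orderOf_eq, hz], c_map _ z⟩
  simpa [mul_assoc] using QuotientGroup.eq.1 h1.symm

theorem fact_lt {q : ℕ} (hq : q.Prime) {H K : Subgroup G} (h : ¬ q ∣ H.index) (k : q ∣ K.index) :
    (Nat.card K).factorization q < (Nat.card H).factorization q := by
  have e := congrArg (fun n => n.factorization q) (H.card_mul_index.trans K.card_mul_index.symm)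
  simp only [Nat.factorization_mul Nat.card_pos.ne' index_ne_zero_of_finite, Finsupp.add_apply,
    Nat.factorization_eq_zero_of_not_dvd h] at e
  have := hq.factorization_pos_of_dvd index_ne_zero_of_finite k
  omega

theorem not_dvd_of_lt {q a b : ℕ} (hb : b ≠ 0) (h : b.factorization q < a.factorization q) :
    ¬ a ∣ b := fun k =>
  h.not_ge ((Nat.factorization_le_iff_dvd (ne_zero_of_dvd_ne_zero hb k) hb).2 k q)

theorem dvd_of_lt {q f m b : ℕ} (hb : b ≠ 0) (hm : m ≠ 0) (hf : f ∣ b)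
    (h : b.factorization q < (f * m).factorization q) : q ∣ m := by
  by_contra k
  have f0 := ne_zero_of_dvd_ne_zero hb hf
  rw [Nat.factorization_mul f0 hm, Finsupp.add_apply, Nat.factorization_eq_zero_of_not_dvd k] at h
  exact h.not_ge ((Nat.factorization_le_iff_dvd f0 hb).2 hf q)

/-- The primes of the class size of an element of prime order, two `r`-regular class sizes. -/
theorem two_sizes {r m : ℕ} (hr : r.Prime) {y : G} (hy : (orderOf y).Prime)
    (hc : (orderOf y).Coprime r) (m1 : m ≠ 1) (hm : (C y).index = m)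
    (h : ∀ g : G, (orderOf g).Coprime r → (C g).index = 1 ∨ (C g).index = m) {q : ℕ} (hq : q.Prime)
    (hd : q ∣ m) : q = r ∨ q = orderOf y := by
  have := Fact.mk hr
  have h2 : Set.range (fun x : {x : G // (orderOf x).Coprime r} =>
      (ConjClasses.mk (x : G)).carrier.ncard) = {1, m} := by
    ext k
    simp only [ncard_cls, Set.mem_range, Set.mem_insert_iff, Set.mem_singleton_iff]
    refine ⟨fun ⟨g, e⟩ => e ▸ h g.1 g.2, ?_⟩
    rintro (rfl | rfl)
    · exact ⟨⟨1, by simp⟩, by simp⟩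
    · exact ⟨⟨y, hc⟩, hm⟩
  rcases Cfsg.Agent.S4033.result hr (h2 ▸ Set.ncard_pair m1.symm) with
    k | ⟨t, ht, P, Q, A, -, a1, a2, a3, -, a5⟩
  · obtain ⟨k, e⟩ := (Cfsg.Agent.S4034.result hr).2 k y hc
    rw [ncard_cls, hm] at e
    exact .inl ((Nat.prime_dvd_prime_iff_eq hq hr).1 (hq.dvd_of_dvd_pow (e ▸ hd)))
  · have nA : A.Normal := ⟨fun a ha g => by
      rwa [mem_center_iff.1 (a1 ha) g, mul_inv_cancel_right]⟩
    have i1 : A.index ∣ r ^ (Nat.card G).factorization r * t ^ (Nat.card G).factorization t := by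
      rw [← P.card_eq_multiplicity, ← Q.card_eq_multiplicity, ← a2, ← relIndex_top_right, ← a5,
        relIndex_sup_right]
      exact relIndex_dvd_card _ _
    have pr : ∀ {l : ℕ}, l.Prime → l ∣ A.index → l = r ∨ l = t := fun hl k =>
      (hl.dvd_mul.1 (k.trans i1)).imp
        (fun k => (Nat.prime_dvd_prime_iff_eq hl hr).1 (hl.dvd_of_dvd_pow k))
        fun k => (Nat.prime_dvd_prime_iff_eq hl ht.1).1 (hl.dvd_of_dvd_pow k)
    have i2 : m ∣ A.index := hm ▸ index_dvd_of_le fun a ha =>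
      mem_C.2 (mem_center_iff.1 (a1 ha) y).symm
    refine (pr hq (hd.trans i2)).imp id fun e => e.trans ?_
    by_contra k
    have c1 : (orderOf y).Coprime A.index := (hy.coprime_iff_not_dvd).2 fun l =>
      (pr hy l).elim (fun e => hr.one_lt.ne' (by simpa [e] using hc)) fun e => k e.symm
    have c2 : y ∈ A := (zpowers_le.2 (A.pow_index_mem y)) (mem_zpowers_pow_iff.2 c1.symm)
    exact m1 (hm ▸ index_eq_one.2 (eq_top_iff.2 fun g _ => mem_C.2 (mem_center_iff.1 (a1 c2) g)))

omit [Finite G] in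
theorem comm_of {w x : G} (h : C (w * x) = C w ⊓ C x) : Commute w x := by
  have h1 : w * x ∈ C x := (h.le (mem_C.2 (Commute.refl _))).2
  exact mul_right_cancel (b := x) (by simpa only [mul_assoc] using (mem_C.1 h1).eq)

omit [Finite G] in
theorem index_C {w g : G} (hg : g ∈ C w) :
    Nat.card ↥(C w ⊓ C g) * (C (⟨g, hg⟩ : C w)).index = c w := by
  have : C (⟨g, hg⟩ : C w) = (C w ⊓ C g).subgroupOf (C w) := by
    ext h
    simp only [mem_subgroupOf, mem_inf, h.2, true_and, mem_centralizer_singleton_iff,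
      Subtype.ext_iff, coe_mul]
  rw [this, ← Nat.card_congr (subgroupOfEquivOfLe (inf_le_left : C w ⊓ C g ≤ C w)).toEquiv,
    card_mul_index]

end

theorem jobCB : JobCB.{u} := by
  intro ca G _ _ x y k sx sy sz hx hy d e f val da eb db ea ne fa fb ⟨g0, g1, gf⟩
  have c0 : ∀ g : G, c g ≠ 0 := fun _ => Nat.card_pos.ne'
  have star : ∀ g : G, g ≠ 1 → c g ∣ c x → c g ∣ c y → c g = f := fun g h h1 h2 => by
    rcases val g h with m | m | m | m | m
    exacts [absurd (ea.trans (m ▸ h2)) eb, absurd (db.trans (m ▸ h1)) da, absurd (m ▸ h1) da,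
      absurd (m ▸ h2) eb, m]
  have meet : ∀ u v : G, u * v ≠ 1 → C (u * v) = C u ⊓ C v → (c u ∣ c x ∧ c v ∣ c y ∨
      c u ∣ c y ∧ c v ∣ c x) → c (u * v) = f ∧ orderOf v ∣ f := fun u v h1 h2 h3 => by
    have l1 : c (u * v) ∣ c u := card_dvd_of_le (h2 ▸ inf_le_left)
    have l2 : c (u * v) ∣ c v := card_dvd_of_le (h2 ▸ inf_le_right)
    have := h3.elim (fun h => star _ h1 (l1.trans h.1) (l2.trans h.2))
      fun h => star _ h1 (l2.trans h.2) (l1.trans h.1)
    exact ⟨this, this ▸ ord_dvd_c (mem_C.2 ((comm_of h2).symm.mul_right (Commute.refl v)))⟩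
  have rb := (ca G x y k sx hx).1
  have sa := (ca G y x k.symm sy hy).1
  have cop : ∀ {p : ℕ}, p.Prime → p ∣ (C x).index → ¬ p ∣ (C y).index := fun hp h1 h2 =>
    hp.one_lt.ne' (Nat.eq_one_of_dvd_coprimes sx.cop h1 h2)
  have A : ∀ z : G, z ≠ 1 → c z = c x → (orderOf z).Prime → ∀ p : ℕ, p.Prime → p ∣ c x →
      p ∣ (C x).index → orderOf z ∣ f := fun z z1 hz pz p hp h1 h2 => by
    have iz : (C z).index = (C x).index := Nat.eq_of_mul_eq_mul_left (Nat.pos_of_ne_zero (c0 x))
      (by rw [card_mul_index, ← hz, card_mul_index])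
    obtain ⟨w, -, -, -, h3, -, h4, h5⟩ := (ca G z y ⟨z1, k.y1, hz ▸ k.mx, k.my, hz ▸ k.cov⟩
      (sz z z1 hz) pz).2 p hp (hz ▸ h1) (iz ▸ h2)
    exact (meet w z h4 h5 (.inr ⟨h3, hz.dvd⟩)).2
  have A' : ∀ p : ℕ, p.Prime → p ∣ c y → p ∣ (C y).index → ∃ w : G, w ≠ 1 ∧ PE p w ∧ c w = e ∧
      (c y).factorization p < e.factorization p ∧ Commute w y ∧ Nat.card ↥(C w ⊓ C y) = f ∧
      orderOf y ∣ f := fun p hp h1 h2 => by
    obtain ⟨w, w1, pw, h3, h4, h5, h6, h7⟩ := (ca G y x k.symm sy hy).2 p hp h1 h2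
    have h8 := not_dvd_of_lt (c0 y) h3
    have h9 := meet w y h6 h7 (.inl ⟨h4, dvd_rfl⟩)
    have we : c w = e := by
      rcases val w w1 with m | m | m | m | m
      exacts [absurd m h5, absurd m.dvd h8, absurd (m ▸ db) h8, m, absurd (m ▸ fb) h8]
    exact ⟨w, w1, pw, we, we ▸ h3, comm_of h7, h7 ▸ h9.1, h9.2⟩
  have As : orderOf y ∣ f → orderOf x ∣ f := fun h => A x k.x1 rfl hx _ hy (h.trans fa) sa
  have rf : orderOf x ∣ f := by
    obtain ⟨p, hp, pf⟩ := Nat.exists_prime_and_dvd (n := f) (fun h => g1 (orderOf_eq_one_iff.1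
      (Nat.dvd_one.1 (h ▸ gf ▸ ord_dvd_c (mem_C.2 (Commute.refl g0))))))
    by_cases h1 : p ∣ (C x).index
    · exact A x k.x1 rfl hx p hp (pf.trans fa) h1
    by_cases h2 : p ∣ (C y).index
    · obtain ⟨_, -, -, -, -, -, -, h⟩ := A' p hp (pf.trans fb) h2
      exact As h
    have := Fact.mk hp
    obtain ⟨z, hz⟩ := exists_prime_orderOf_dvd_card' (G := G) p
      ((pf.trans fa).trans (card_subgroup_dvd_card _))
    have z1 : ∀ z : G, orderOf z = p → z ≠ 1 := fun z h e => hp.one_lt.ne' (by rw [← h, e, orderOf_one])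
    rcases k.cov z (z1 z hz) with h | h
    · obtain ⟨v, hv, ov, cv⟩ := exists_conj hp hz h2
      have co : (orderOf v).Coprime (orderOf y) :=
        ov ▸ (Nat.coprime_primes hp hy).2 fun e => h1 (e ▸ sa)
      exact As (meet v y (mul_ne_one' (z1 v ov) co) (C_mul (mem_C.1 hv) co)
        (.inl ⟨cv ▸ h, dvd_rfl⟩)).2
    · obtain ⟨v, hv, ov, cv⟩ := exists_conj hp hz h1
      have co : (orderOf v).Coprime (orderOf x) :=
        ov ▸ (Nat.coprime_primes hp hx).2 fun e => h2 (e ▸ rb)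
      exact (meet v x (mul_ne_one' (z1 v ov) co) (C_mul (mem_C.1 hv) co)
        (.inr ⟨cv ▸ h, dvd_rfl⟩)).2
  obtain ⟨w, w1, ⟨j, pw⟩, we, -, wy, wf, sf⟩ := A' _ hx (rf.trans fb) rb
  have yw : y ∈ C w := mem_C.2 wy.symm
  have em := index_C yw
  rw [wf, we] at em
  have f0 : f ≠ 0 := ne_zero_of_dvd_ne_zero (c0 x) fa
  have key : ∀ q : ℕ, q.Prime → q ∣ (C (⟨y, yw⟩ : C w)).index → q = orderOf x ∨ q = orderOf y := by
    intro q hq hd
    refine (two_sizes hx (y := (⟨y, yw⟩ : C w)) (by simpa using hy) ?_ (fun h => ?_) rfl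
      (fun g hg => ?_) hq hd).imp id fun h => by simpa using h
    · rw [← orderOf_coe]
      exact (Nat.coprime_primes hy hx).2 fun e => cop hy sa (by rw [e]; exact rb)
    · rw [h, mul_one] at em
      exact eb (em ▸ fb)
    · have co : (orderOf w).Coprime (orderOf (g : G)) := by
        rw [pw, orderOf_coe]; exact hg.symm.pow_left j
      have e1 := C_mul (mem_C.1 g.2).symm co
      have e2 := index_C g.2
      have l1 : c (w * g) ∣ e := we ▸ card_dvd_of_le (e1 ▸ inf_le_left)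
      rw [← e1, we] at e2
      change c (w * g) * (C g).index = e at e2
      rcases val _ (mul_ne_one' w1 co) with m | m | m | m | m
      · exact absurd (Nat.dvd_antisymm ea (m ▸ l1)) ne
      · exact absurd (db.trans ((m ▸ l1).trans ea)) da
      · exact absurd ((m ▸ l1).trans ea) da
      · exact .inl (Nat.eq_of_mul_eq_mul_left (Nat.pos_of_ne_zero (we ▸ c0 w))
          (by rw [mul_one]; exact m ▸ e2))
      · exact .inr (Nat.eq_of_mul_eq_mul_left (Nat.pos_of_ne_zero f0) ((m ▸ e2).trans em.symm))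
  obtain ⟨q, hq, qb, qr⟩ : ∃ q : ℕ, q.Prime ∧ q ∣ (C y).index ∧ q ≠ orderOf x := by
    by_contra h
    push Not at h
    exact sy.np _ _ hx (Nat.eq_prime_pow_of_unique_prime_dvd index_ne_zero_of_finite
      fun hd h1 => h _ hd h1)
  have fin : ¬ (c y).factorization q < e.factorization q := fun h =>
    (key q hq (dvd_of_lt (c0 y) index_ne_zero_of_finite fb (em ▸ h))).elim qr
      fun e => cop hy sa (e ▸ qb)
  obtain ⟨z, oz, hz⟩ := exists_central hq (qb.trans (index_dvd_card _))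
  have z1 : z ≠ 1 := fun e => hq.one_lt.ne' (by rw [← oz, e, orderOf_one])
  have lt := fact_lt hq hz qb
  have nd : ¬ c z ∣ c y := not_dvd_of_lt (c0 y) lt
  rcases val z z1 with m | m | m | m | m
  · obtain ⟨_, -, -, -, h, -⟩ := A' q hq
      ((oz ▸ A z z1 m (oz ▸ hq) _ hy (sf.trans fa) sa).trans fb) qb
    exact fin h
  · exact nd m.dvd
  · exact nd (m ▸ db)
  · exact fin (m ▸ lt)
  · exact nd (m ▸ fb)

end H29.R5B
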