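import Cfsg.Agent.H87.S4K

/-! SP4 tower: kit for the jobs NZ, V3, P2, W. -/

set_option autoImplicit false
set_option linter.unusedSectionVars false

namespace H29.S4
open _root_.Cfsg H92 H93 Subgroup H87.S4

universe v

section gen
variable {N : Type*} [AddCommGroup N]

/-- setwise stabiliser -/
def stb (S : Set N) : Subgroup (A N) where
  carrier := {g | ∀ v, v ∈ S ↔ g v ∈ S}
  one_mem' := fun _ => Iff.rfl
  mul_mem' := fun {_ b} ha hb v => (hb v).trans (ha (b v))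
  inv_mem' := fun {a} ha v => by
    have := ha (a⁻¹ v)
    rw [A.self_inv] at this
    exact this.symm

theorem mem_stb_of [Finite N] {S : Set N} {g : A N} (h : ∀ v ∈ S, g v ∈ S) : g ∈ stb S := fun v =>
  ⟨h v, fun hv => by
    have e : g '' S = S := Set.eq_of_subset_of_ncard_le (Set.image_subset_iff.2 h)
      (Set.ncard_image_of_injective S g.injective).ge
    obtain ⟨x, hx, e'⟩ : g v ∈ g '' S := e.symm ▸ hv
    exact g.injective e' ▸ hx⟩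

/-- pointwise stabiliser -/
def fixS (S : Set N) : Subgroup (A N) where
  carrier := {g | ∀ v ∈ S, g v = v}
  one_mem' := fun _ _ => rfl
  mul_mem' := fun {a b} ha hb v hv => by rw [A.mul_apply, hb v hv, ha v hv]
  inv_mem' := fun {a} ha v hv => by conv_lhs => rw [← ha v hv, A.inv_self]

theorem conj_fixS {S : Set N} {g k : A N} (hg : g ∈ stb S) (hk : k ∈ fixS S) : g * k * g⁻¹ ∈ fixS S := fun v hv => by
  rw [A.mul_apply, A.mul_apply, hk _ (((stb S).inv_mem hg v).1 hv), A.self_inv]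

/-- trivial on the three layers of `L ≤ M ≤ N` -/
def Tr (L M : AddSubgroup N) : Subgroup (A N) where
  carrier := {g | (∀ v, g v - v ∈ M) ∧ (∀ v ∈ M, g v - v ∈ L) ∧ ∀ v ∈ L, g v = v}
  one_mem' := ⟨fun v => by simp [A.one_apply], fun v _ => by simp [A.one_apply], fun _ _ => rfl⟩
  mul_mem' := fun {a b} ha hb => ⟨fun v => by
      simpa [A.mul_apply] using add_mem (ha.1 (b v)) (hb.1 v), fun v hv => by
      have := add_mem (ha.2.1 v hv) (hb.2.1 v hv)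
      rwa [← ha.2.2 _ (hb.2.1 v hv), map_sub, sub_add_sub_cancel'] at this,
    fun v hv => by rw [A.mul_apply, hb.2.2 v hv, ha.2.2 v hv]⟩
  inv_mem' := fun {a} ha => by
    have h3 : ∀ v ∈ L, a⁻¹ v = v := fun v hv => by conv_lhs => rw [← ha.2.2 v hv, A.inv_self]
    refine ⟨fun v => by simpa using neg_mem (ha.1 (a⁻¹ v)), fun v hv => ?_, h3⟩
    have := neg_mem (ha.2.1 v hv)
    rwa [← h3 _ (ha.2.1 v hv), map_sub, A.inv_self, neg_sub] at this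

theorem pow_two_step {L : AddSubgroup N} {g : A N} (h : ∀ v ∈ L, g v = v) {v : N} (hv : g v - v ∈ L) (n : ℕ) :
    (g ^ n) v = v + n • (g v - v) := by
  induction n with
  | zero => simp [A.one_apply]
  | succ n ih => rw [pow_succ', A.mul_apply, ih, map_add, h _ (nsmul_mem hv n), succ_nsmul]; abel

theorem pg_Tr {p : ℕ} (hp : ∀ v : N, p • v = 0) (L M : AddSubgroup N) : IsPGroup p (Tr L M) :=
  isPGroup_iff_forall.2 fun g hg => ⟨2, LinearEquiv.ext fun v => by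
    have h1 : ∀ v ∈ M, (g ^ p) v = v := fun v hv => by rw [pow_two_step hg.2.2 (hg.2.1 v hv), hp, add_zero]
    rw [sq, pow_mul, pow_two_step h1 ((pow_mem hg p).1 v), hp, add_zero]; rfl⟩

theorem conj_Tr {L M : AddSubgroup N} {g k : A N} (hL : g ∈ stb (L : Set N)) (hM : g ∈ stb (M : Set N))
    (hk : k ∈ Tr L M) : g * k * g⁻¹ ∈ Tr L M := by
  have e : ∀ v, (g * k * g⁻¹) v - v = g (k (g⁻¹ v) - g⁻¹ v) := fun v => by
    rw [map_sub, A.self_inv]; rfl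
  refine ⟨fun v => ?_, fun v hv => ?_, conj_fixS hL hk.2.2⟩ <;> rw [e]
  · exact (hM _).1 (hk.1 _)
  · exact (hL _).1 (hk.2.1 _ (((stb _).inv_mem hM v).1 hv))

/-- the fixed points of a `p`-element stabilising `S` -/
theorem fix_of_syl {p : ℕ} [Fact p.Prime] [Finite N] {Γ U : Subgroup (A N)} {S : Set N} (hU : SylIn p U Γ)
    (h : ∀ u ∈ U, u ≠ 1 → ∀ v, u v = v ↔ v ∈ S) {g u : A N} (hg : g ∈ Γ) (hu : u ∈ U) (h1 : u ≠ 1)
    (hS : g⁻¹ * u * g ∈ stb S) : g ∈ stb S := by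
  have hle : U ≤ stb S := fun w hw => mem_stb_of fun v hv => by
    by_cases e : w = 1
    · rw [e]; exact hv
    · rwa [(h w hw e v).2 hv]
  obtain ⟨b, hb, e⟩ := (hU.mono (le_inf hU.le hle) inf_le_left).exists_conj
    (C := zpowers (g⁻¹ * u * g)) ((isPGroup_cj g⁻¹ hU.isPGroup).to_le (zpowers_le.2 (by
      simpa using conj_mem_cj g⁻¹ hu)))
    (zpowers_le.2 (mem_inf.2 ⟨Γ.mul_mem (Γ.mul_mem (Γ.inv_mem hg) (hU.le hu)) hg, hS⟩))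
  have h2 := h _ (e _ (mem_zpowers _)) (fun e' => h1 (by
    have := conj_eq_one_iff.1 e'
    rwa [show g⁻¹ * u * g = g⁻¹ * u * g⁻¹⁻¹ by rw [inv_inv], conj_eq_one_iff] at this))
  intro v
  rw [hb.2 v, ← h2, ← h u hu h1]
  simp only [A.mul_apply, A.inv_self, EmbeddingLike.apply_eq_iff_eq]
  exact ⟨fun e => by conv_rhs => rw [← e, A.self_inv], fun e => by rw [e, A.inv_self]⟩

end gen

variable {K : Type v} [Field K]

def Zs : AddSubgroup (K × K × K) := AddSubgroup.prod ⊥ (AddSubgroup.prod ⊥ ⊤)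
def Ys : AddSubgroup (K × K × K) := AddSubgroup.prod ⊥ ⊤

theorem mem_Zs {v : K × K × K} : v ∈ Zs ↔ v.1 = 0 ∧ v.2.1 = 0 := by simp [Zs, AddSubgroup.mem_prod]
theorem mem_Ys {v : K × K × K} : v ∈ Ys ↔ v.1 = 0 := by simp [Ys, AddSubgroup.mem_prod]
theorem mem_Zs' {v : K × K × K} : v ∈ Zs ↔ ∃ w, v = (0, 0, w) :=
  mem_Zs.trans ⟨fun h => ⟨v.2.2, Prod.ext h.1 (Prod.ext h.2 rfl)⟩, by rintro ⟨w, rfl⟩; exact ⟨rfl, rfl⟩⟩
theorem mem_Ys' {v : K × K × K} : v ∈ Ys ↔ ∃ y w, v = (0, y, w) :=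
  mem_Ys.trans ⟨fun h => ⟨v.2.1, v.2.2, Prod.ext h rfl⟩, by rintro ⟨y, w, rfl⟩; rfl⟩

theorem fix_Zs {g : A (K × K × K)} : g ∈ fixS ((Zs : AddSubgroup (K × K × K)) : Set _) ↔ ∀ w, g (0, 0, w) = (0, 0, w) :=
  ⟨fun h w => h _ (mem_Zs'.2 ⟨w, rfl⟩), fun h v hv => by obtain ⟨w, rfl⟩ := mem_Zs'.1 hv; exact h w⟩

theorem pr2_eq {v v' : K × K × K} (h : pr2 v = pr2 v') : v.1 = v'.1 ∧ v.2.1 = v'.2.1 :=
  Prod.ext_iff.1 (show (v.1, v.2.1) = (v'.1, v'.2.1) from h)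

theorem psmul (p : ℕ) [CharP K p] (v : K × K × K) : p • v = 0 := by
  ext <;> simp

variable [Finite K]

theorem pz_iff {g : A (K × K × K)} : PZ g ↔ g ∈ stb ((Zs : AddSubgroup (K × K × K)) : Set _) :=
  ⟨fun h => mem_stb_of fun v hv => by obtain ⟨w, rfl⟩ := mem_Zs'.1 hv; exact mem_Zs'.2 (h w),
    fun h w => mem_Zs'.1 ((h _).1 (mem_Zs'.2 ⟨w, rfl⟩))⟩

theorem py_iff {g : A (K × K × K)} : PY g ↔ g ∈ stb ((Ys : AddSubgroup (K × K × K)) : Set _) :=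
  ⟨fun h => mem_stb_of fun v hv => by obtain ⟨y, w, rfl⟩ := mem_Ys'.1 hv; exact mem_Ys.2 (h y w),
    fun h y w => mem_Ys.1 ((h _).1 (mem_Ys'.2 ⟨y, w, rfl⟩))⟩

variable {p : ℕ} [Fact p.Prime] [CharP K p] {Γ U : Subgroup (A (K × K × K))}

/-- trivial on `V / Z` and on `Z` -/
theorem mem_K0 (hU : SylIn p U Γ) (hΓ : ∀ g ∈ Γ, PZ g) {k : A (K × K × K)} (hk : k ∈ Γ)
    (h1 : ∀ v, pr2 (k v) = pr2 v) (h2 : ∀ w, k (0, 0, w) = (0, 0, w)) : k ∈ U := by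
  have h3 : ∀ v, k v - v ∈ Zs := fun v => mem_Zs.2
    ⟨sub_eq_zero.2 (pr2_eq (h1 v)).1, sub_eq_zero.2 (pr2_eq (h1 v)).2⟩
  refine hU.pCoreOf_le (le_pCoreOf (N := Γ ⊓ Tr Zs Zs) inf_le_left (fun b hb n hn =>
    ⟨Γ.mul_mem (Γ.mul_mem hb hn.1) (Γ.inv_mem hb), conj_Tr (pz_iff.1 (hΓ b hb)) (pz_iff.1 (hΓ b hb)) hn.2⟩)
    (pg_Tr (psmul p) _ _).to_inf_right ⟨hk, h3, fun v _ => h3 v, fix_Zs.2 h2⟩)

/-- the spread lemma on `V / Z` -/
theorem spq (sp : JobSP.{v}) (hU : SylIn p U Γ) (hΓ : ∀ g ∈ Γ, PZ g)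
    (u1 : ∀ u ∈ U, ∃ a, ∀ x y w, pr2 (u (x, y, w)) = (x, y + a * x))
    (u2' : ∀ a, ∃ u ∈ U, ∀ x y w, pr2 (u (x, y, w)) = (x, y + a * x)) (u3' : ∀ u ∈ U, ∀ w, u (0, 0, w) = (0, 0, w))
    (mv : ∃ g ∈ Γ, ¬ PY g) : ∃ φ : K →+ K,
    (∀ g ∈ Γ, PY g ∨ ∃ a, ∀ y w, (g (0, y, w)).2.1 = φ (g (0, y, w)).1 + a * (g (0, y, w)).1) ∧
    (∀ s, s ≠ 0 → ∃ g ∈ Γ, (∀ w, g (0, 0, w) = (0, 0, w)) ∧
      ∀ x y w, pr2 (g (x, y + φ x, w)) = (s⁻¹ * x, s * y + φ (s⁻¹ * x))) ∧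
    ∃ g ∈ Γ, (∀ w, g (0, 0, w) = (0, 0, w)) ∧ ∀ x y w, pr2 (g (x, y + φ x, w)) = (y, -x + φ y) := by
  obtain ⟨I, hI⟩ := exists_quot p (pr2 (K := K)) pr2_surj (H := Γ) fun g hg v hv => by
    obtain ⟨w, e⟩ := hΓ g hg v.2.2
    rw [show v = (0, 0, v.2.2) from Prod.ext (pr2_eq (v' := 0) hv).1 (Prod.ext (pr2_eq (v' := 0) hv).2 rfl), e]
    rfl
  let C := Γ ⊓ fixS ((Zs : AddSubgroup (K × K × K)) : Set _)
  obtain ⟨φ, a1, a2, a3⟩ := sp p K (I Γ) (I C) (I U) (fun γ => by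
      rw [hI.mem U hU.le]
      constructor
      · rintro ⟨u, hu, e⟩
        obtain ⟨a, ha⟩ := u1 u hu
        exact ⟨a, fun x y => (e (x, y, 0)).trans (ha x y 0)⟩
      · rintro ⟨a, ha⟩
        obtain ⟨u, hu, e⟩ := u2' a
        exact ⟨u, hu, fun v => (ha v.1 v.2.1).trans (e v.1 v.2.1 v.2.2).symm⟩)
    (hI.syl le_rfl ⟨hU.le, hU.not_dvd_relIndex⟩ (hI.pg U hU.le hU.isPGroup))
    (hI.mono _ _ fun u hu => ⟨hU.le hu, fix_Zs.2 (u3' u hu)⟩)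
    (hI.nm C Γ inf_le_left le_rfl fun g hg => mem_Nm_of_conj fun k hk =>
      ⟨Γ.mul_mem (Γ.mul_mem hg hk.1) (Γ.inv_mem hg), conj_fixS (pz_iff.1 (hΓ g hg)) hk.2⟩) (by
      obtain ⟨g, hg, h⟩ := mv
      obtain ⟨γ, e⟩ := hI.ex g hg
      simp only [PY, not_forall] at h
      obtain ⟨y, w, h⟩ := h
      exact ⟨γ, (hI.mem Γ le_rfl γ).2 ⟨g, hg, e⟩, y, fun e' => h ((congrArg Prod.fst (e (0, y, w))).symm.trans e')⟩)
  refine ⟨φ, fun g hg => ?_, fun s hs => ?_, ?_⟩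
  · obtain ⟨γ, e⟩ := hI.ex g hg
    rcases a1 γ ((hI.mem Γ le_rfl γ).2 ⟨g, hg, e⟩) with h | ⟨a, h⟩
    · exact .inl fun y w => (congrArg Prod.fst (e (0, y, w))).symm.trans (h y)
    · refine .inr ⟨a, fun y w => ?_⟩
      have := h y
      rwa [show γ (0, y) = pr2 (g (0, y, w)) from e (0, y, w)] at this
  · obtain ⟨γ, h, e⟩ := a2 s hs
    obtain ⟨g, hg, e'⟩ := (hI.mem C inf_le_left γ).1 h
    exact ⟨g, hg.1, fix_Zs.1 hg.2, fun x y w => (e' (x, y + φ x, w)).symm.trans (e x y)⟩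
  · obtain ⟨γ, h, e⟩ := a3
    obtain ⟨g, hg, e'⟩ := (hI.mem C inf_le_left γ).1 h
    exact ⟨g, hg.1, fix_Zs.1 hg.2, fun x y w => (e' (x, y + φ x, w)).symm.trans (e x y)⟩

end H29.S4
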