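import Cfsg.Agent.H29.S4A

/-! SP4 tower: jobs NZ and W. -/

set_option autoImplicit false

namespace H29.S4
open _root_.Cfsg H92 H93 Subgroup H87.S4

universe v

theorem two_ne {K : Type*} [Field K] {p : ℕ} [Fact p.Prime] [CharP K p] (hp : p ≠ 2) : (2 : K) ≠ 0 := fun h =>
  hp ((Nat.prime_dvd_prime_iff_eq Fact.out Nat.prime_two).1
    ((CharP.cast_eq_zero_iff K p 2).1 (by exact_mod_cast h)))

theorem u3_z {K : Type*} [Field K] (a w : K) : u3 a (0, 0, w) = (0, 0, w) := by simp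

theorem u3_zero {K : Type*} [Field K] : u3 (0 : K) = 1 := LinearEquiv.ext fun ⟨c, y, w⟩ => by
  simp [A.one_apply]

theorem jobNZ : JobNZ.{v} := by
  intro sp p _ K _ _ _ Γ U hp h g hg hz
  by_contra hy
  have h2 : (2 : K) ≠ 0 := two_ne hp
  let H := Γ ⊓ stb ((Zs : AddSubgroup (K × K × K)) : Set _)
  have hH : ∀ k ∈ H, PZ k := fun k hk => pz_iff.2 hk.2
  have hU : SylIn p U H := h.syl.mono (le_inf h.syl.le fun u hu => by
    obtain ⟨a, rfl⟩ := h.mem.1 hu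
    exact pz_iff.1 fun w => ⟨w, u3_z a w⟩) inf_le_left
  obtain ⟨φ, -, a2, -⟩ := spq sp hU hH
    (fun u hu => by obtain ⟨a, rfl⟩ := h.mem.1 hu; exact ⟨a, fun _ _ _ => rfl⟩)
    (fun a => ⟨u3 a, h.mem.2 ⟨a, rfl⟩, fun _ _ _ => rfl⟩)
    (fun u hu => by obtain ⟨a, rfl⟩ := h.mem.1 hu; exact u3_z a) ⟨g, ⟨hg, pz_iff.1 hz⟩, hy⟩
  obtain ⟨σ, hσ, fz, e⟩ := a2 (-1) (by simp)
  have e' : ∀ v, pr2 (σ v) = - pr2 v := fun ⟨x, y, w⟩ => by
    have := e x (y - φ x) w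
    rw [sub_add_cancel] at this
    rw [this]
    simp; ring
  have k0 : ∀ k ∈ H, (∀ v, pr2 (k v) = pr2 v) → (∀ w, k (0, 0, w) = (0, 0, w)) → k = 1 := fun k hk h1 h2 => by
    obtain ⟨a, rfl⟩ := h.mem.1 (mem_K0 hU hH hk h1 h2)
    have := (pr2_eq (h1 (1, 0, 0))).2
    simp only [u3_apply, zero_add, mul_one] at this
    rw [this, u3_zero]
  have s2 : σ * σ = 1 := k0 _ (H.mul_mem hσ hσ) (fun v => by rw [A.mul_apply, e', e', neg_neg])
    fun w => by rw [A.mul_apply, fz, fz]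
  have hu : u3 (1 : K) ∈ H := hU.le (h.mem.2 ⟨1, rfl⟩)
  have pu : ∀ v : K × K × K, pr2 (u3 1 v) = u2 1 (pr2 v) := fun _ => rfl
  have c : σ * u3 1 * σ * (u3 1)⁻¹ = 1 := k0 _ (H.mul_mem (H.mul_mem (H.mul_mem hσ hu) hσ) (H.inv_mem hu))
    (fun v => by
      simp only [A.mul_apply]
      rw [e', pu, e', map_neg, neg_neg, ← pu, A.self_inv])
    fun w => by
      simp only [A.mul_apply]
      conv_lhs => rw [← u3_z 1 w, A.inv_self, fz, u3_z, fz]
  have ss : ∀ v, σ (σ v) = v := fun v => LinearEquiv.congr_fun s2 v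
  have cc : ∀ v, σ (u3 1 (σ v)) = u3 1 v := fun v => LinearEquiv.congr_fun (mul_inv_eq_one.1 c) v
  obtain ⟨w, ew⟩ : ∃ w, σ (0, 1, 0) = (0, -1, w) := ⟨(σ (0, 1, 0)).2.2, by
    have := Prod.ext_iff.1 (e' (0, 1, 0))
    exact Prod.ext (this.1.trans (by simp)) (Prod.ext (this.2.trans (by simp)) rfl)⟩
  have e1 : σ (0, 2, -w) = -(0, 2, -w) := by
    have : ((0, 2, -w) : K × K × K) = (0, 1, 0) - σ (0, 1, 0) := by
      rw [ew]; ext <;> simp; norm_num
    rw [this, map_sub, ss, neg_sub]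
  have e2 := cc (σ (0, 2, -w))
  rw [ss, e1, map_neg, show u3 (1 : K) (0, 2, -w) = (0, 2, -w) + (0, 0, 4) by
    ext <;> simp; norm_num, map_add, e1, fz, neg_add, add_right_inj] at e2
  have e3 : (4 : K) = -4 := (Prod.ext_iff.1 (Prod.ext_iff.1 e2).2).2
  exact pow_ne_zero 3 h2 (by linear_combination e3)

theorem D2.th0 {K : Type*} [Field K] {θ : K → K → K} {Γ U : Subgroup (A (K × K × K))} (h : D2 θ Γ U) (x : K) :
    θ 0 x = 0 := by
  rcases h.th with e | e <;> simp [e]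

theorem D2.th0' {K : Type*} [Field K] {θ : K → K → K} {Γ U : Subgroup (A (K × K × K))} (h : D2 θ Γ U) (x : K) :
    θ x 0 = 0 := by
  rcases h.th with e | e <;> simp [e]

theorem D2.ex {K : Type*} [Field K] [CharP K 2] {θ : K → K → K} {Γ U : Subgroup (A (K × K × K))} (h : D2 θ Γ U)
    (t : K) : ∃ u ∈ U, ∀ x y w, u (x, y, w) = (x, y + t * x, w + θ t x) := by
  have : ∃ f : K →+ K, ∀ x, f x = θ t x := by
    refine ⟨AddMonoidHom.mk' (θ t) fun a b => ?_, fun _ => rfl⟩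
    rcases h.th with e | e
    · simp only [e, mul_add]
    · simp only [e, CharTwo.add_sq, mul_add]
  obtain ⟨f, hf⟩ := this
  have e : ∀ x y w, ut t f (x, y, w) = (x, y + t * x, w + θ t x) := fun x y w => by rw [ut_apply, hf]
  exact ⟨ut t f, (h.hU _).2 ⟨t, e⟩, e⟩

theorem jobW : JobW.{v} := by
  intro sp K _ _ _ θ Γ U h hΓ
  haveI : Fact (Nat.Prime 2) := ⟨Nat.prime_two⟩
  obtain ⟨φ, a1, a2, n, hn, fz, e⟩ := spq sp h.syl hΓ
    (fun u hu => by obtain ⟨a, ha⟩ := (h.hU u).1 hu; exact ⟨a, fun x y w => by rw [ha]; rfl⟩)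
    (fun a => by obtain ⟨u, hu, e⟩ := D2.ex h a; exact ⟨u, hu, fun x y w => by rw [e]; rfl⟩)
    (fun u hu w => by obtain ⟨a, ha⟩ := (h.hU u).1 hu; simp [ha, D2.th0' h]) h.mv
  have e' : ∀ v : K × K × K, pr2 (n v) = (v.2.1 - φ v.1, -v.1 + φ (v.2.1 - φ v.1)) := fun ⟨x, y, w⟩ => by
    have := e x (y - φ x) w
    rwa [sub_add_cancel] at this
  have f1 : ∀ v, (n v).1 = v.2.1 - φ v.1 := fun v => (Prod.ext_iff.1 (e' v)).1
  have f2 : ∀ v, (n v).2.1 = -v.1 + φ (v.2.1 - φ v.1) := fun v => (Prod.ext_iff.1 (e' v)).2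
  refine ⟨n, hn, ?_, fun y => by simp [f1], fz, fun g hg => ?_, fun s hs => ?_⟩
  · have h1 : ∀ v, pr2 ((n * n) v) = pr2 v := fun v => by
      rw [A.mul_apply, e', f1, f2]
      refine Prod.ext (by simp [pr2, CharTwo.neg_eq]) ?_
      simp [pr2, CharTwo.neg_eq, CharTwo.sub_eq_add, add_assoc, CharTwo.add_self_eq_zero]
    obtain ⟨t, ht⟩ := (h.hU _).1 (mem_K0 h.syl hΓ (Γ.mul_mem hn hn) h1 fun w => by rw [A.mul_apply, fz, fz])
    have := (pr2_eq (h1 (1, 0, 0))).2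
    rw [ht] at this
    simp only [zero_add, mul_one] at this
    exact LinearEquiv.ext fun ⟨x, y, w⟩ => by simp [ht, this, D2.th0 h, A.one_apply]
  · rcases a1 g hg with h1 | ⟨a, h1⟩
    · exact .inl h1
    · obtain ⟨u, hu, eu⟩ := D2.ex h a
      refine .inr ⟨u, hu, fun y w => ?_⟩
      rw [A.mul_apply, A.mul_apply, f1, show g (0, y, w) = ((g (0, y, w)).1, (g (0, y, w)).2.1, (g (0, y, w)).2.2)
        from rfl, eu, h1]
      simp [add_assoc, CharTwo.add_self_eq_zero]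
  · obtain ⟨d, hd, dz, ed⟩ := a2 s hs
    refine ⟨d, hd, fun x y w => ?_, fun y w => ?_, dz⟩
    · have := ed x (y - φ x) w
      rw [sub_add_cancel] at this
      exact (Prod.ext_iff.1 this).1
    · have := ed 0 y w
      rw [map_zero, add_zero] at this
      exact (Prod.ext_iff.1 this).2.trans (by simp)

end H29.S4
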