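import Cfsg.Agent.H29.S4NZ

/-! SP4 tower: job V3. -/

set_option autoImplicit false
set_option linter.unusedSectionVars false

namespace H29.S4
open _root_.Cfsg H92 H93 Subgroup H87.S4

universe v

variable {K : Type v} [Field K] [Finite K] {p : ℕ} [Fact p.Prime] [CharP K p] {Γ U : Subgroup (A (K × K × K))}

theorem u3_Tr (a : K) : u3 a ∈ Tr (Zs (K := K)) Ys :=
  ⟨fun ⟨c, y, w⟩ => mem_Ys.2 (by simp), fun v hv => by
    obtain ⟨y, w, rfl⟩ := mem_Ys'.1 hv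
    exact mem_Zs.2 (by simp), fun v hv => by
    obtain ⟨w, rfl⟩ := mem_Zs'.1 hv
    exact u3_z a w⟩

theorem mem_U (h : D3 p Γ U) {g : A (K × K × K)} (hg : g ∈ Γ) (ht : g ∈ Tr (Zs (K := K)) Ys) : ∃ a, g = u3 a := by
  have := (h.syl.mono (C := Γ ⊓ Tr Zs Ys) (le_inf h.syl.le fun u hu => by
    obtain ⟨a, rfl⟩ := h.mem.1 hu; exact u3_Tr a) inf_le_left).eq_of_isPGroup (pg_Tr (psmul p) _ _).to_inf_right
  exact h.mem.1 (this ▸ mem_inf.2 ⟨hg, ht⟩)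

theorem conj_u3 (h : D3 p Γ U) {g : A (K × K × K)} (hg : g ∈ Γ) (hy : PY g) (hz : ∀ w, g (0, 0, w) = (0, 0, w))
    (a : K) : ∃ b, ∀ v, g (u3 a v) = u3 b (g v) := by
  obtain ⟨b, e⟩ := mem_U h (Γ.mul_mem (Γ.mul_mem hg (h.syl.le (h.mem.2 ⟨a, rfl⟩))) (Γ.inv_mem hg))
    (conj_Tr (pz_iff.1 fun w => ⟨w, hz w⟩) (py_iff.1 hy) (u3_Tr a))
  exact ⟨b, fun v => by rw [← e, A.mul_apply, A.mul_apply, A.inv_self]⟩

theorem split3 (g : A (K × K × K)) (hz : ∀ w, g (0, 0, w) = (0, 0, w)) (c y w : K) :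
    g (c, y, w) = g (c, 0, 0) + g (0, y, 0) + (0, 0, w) := by
  rw [← hz w, ← map_add, ← map_add]; simp

theorem cmp1 {g : A (K × K × K)} (hy : PY g) (hz : ∀ w, g (0, 0, w) = (0, 0, w)) {a b : K}
    (e : ∀ v, g (u3 a v) = u3 b (g v)) (y : K) : 2 * a * y = 2 * b * (g (0, y, 0)).2.1 := by
  have h1 : (g (u3 a (0, y, 0))).2.2 =
      (g (0, y, 0)).2.2 + 2 * b * (g (0, y, 0)).2.1 + b ^ 2 * (g (0, y, 0)).1 := by rw [e]; rfl
  rw [u3_apply, split3 g hz, hy, show ((0, 0, 0) : K × K × K) = 0 from rfl, map_zero] at h1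
  simp only [mul_zero, add_zero, zero_add, Prod.snd_add] at h1
  linear_combination h1

theorem cmp2 {g : A (K × K × K)} (hz : ∀ w, g (0, 0, w) = (0, 0, w)) {a b : K}
    (e : ∀ v, g (u3 a v) = u3 b (g v)) (c : K) : (g (0, a * c, 0)).2.1 = b * (g (c, 0, 0)).1 ∧
      (g (0, a * c, 0)).2.2 + a ^ 2 * c = 2 * b * (g (c, 0, 0)).2.1 + b ^ 2 * (g (c, 0, 0)).1 := by
  have h1 : (g (u3 a (c, 0, 0))).2 = ((g (c, 0, 0)).2.1 + b * (g (c, 0, 0)).1,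
      (g (c, 0, 0)).2.2 + 2 * b * (g (c, 0, 0)).2.1 + b ^ 2 * (g (c, 0, 0)).1) := by rw [e]; rfl
  rw [u3_apply, split3 g hz, Prod.ext_iff] at h1
  simp only [mul_zero, add_zero, zero_add, Prod.snd_add, Prod.fst_add] at h1
  exact ⟨by linear_combination h1.1, by linear_combination h1.2⟩

theorem lay_of (hp : p ≠ 2) (h : D3 p Γ U) {g : A (K × K × K)} (hg : g ∈ Γ) (hy : PY g)
    (hz : ∀ w, g (0, 0, w) = (0, 0, w)) : ∃ s, s ≠ 0 ∧ Lay s g := by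
  have h2 : (2 : K) ≠ 0 := two_ne hp
  obtain ⟨b, e⟩ := conj_u3 h hg hy hz 1
  have e1 : ∀ y, y = b * (g (0, y, 0)).2.1 := fun y => mul_left_cancel₀ h2 (by linear_combination cmp1 hy hz e y)
  have b0 : b ≠ 0 := fun h0 => one_ne_zero (by rw [e1 1, h0, zero_mul])
  have e2 : ∀ y, (g (0, y, 0)).2.1 = b⁻¹ * y := fun y => by
    rw [eq_inv_mul_iff_mul_eq₀ b0]; exact (e1 y).symm
  refine ⟨b⁻¹, inv_ne_zero b0, fun c y w => ?_, fun y w => ?_, hz⟩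
  · have := (cmp2 hz e c).1
    rw [e2] at this
    rw [split3 g hz, Prod.fst_add, Prod.fst_add, hy]
    field_simp at this ⊢
    linear_combination -this
  · rw [split3 g hz, show ((0, 0, 0) : K × K × K) = 0 from rfl, map_zero]
    simp [e2]

theorem lay_Tr {s : K} (hs : s ≠ 0) {g d : A (K × K × K)} (hg : Lay s g) (hd : Lay s d) :
    g * d⁻¹ ∈ Tr (Zs (K := K)) Ys := by
  refine ⟨fun v => ?_, fun v hv => ?_, fun v hv => ?_⟩
  · obtain ⟨⟨c, y, w⟩, rfl⟩ := d.surjective v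
    rw [A.mul_apply, A.inv_self, mem_Ys, Prod.fst_sub, hg.1, hd.1, sub_self]
  · obtain ⟨⟨c, y, w⟩, rfl⟩ := d.surjective v
    rw [mem_Ys, hd.1] at hv
    obtain rfl : c = 0 := by simpa [hs] using hv
    rw [A.mul_apply, A.inv_self, mem_Zs, Prod.fst_sub, hg.1, hd.1, sub_self, Prod.snd_sub, Prod.fst_sub, hg.2.1, hd.2.1]
    exact ⟨rfl, sub_self _⟩
  · obtain ⟨w, rfl⟩ := mem_Zs'.1 hv
    conv_lhs => rw [A.mul_apply, ← hd.2.2, A.inv_self, hg.2.2]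

/-- `{w | (0,0,w) ∈ g Z}` -/
def Eg (g : A (K × K × K)) : AddSubgroup K where
  carrier := {w | ∃ w', g (0, 0, w') = (0, 0, w)}
  zero_mem' := ⟨0, map_zero g⟩
  add_mem' := by
    rintro a b ⟨a', ha⟩ ⟨b', hb⟩
    exact ⟨a' + b', by have := map_add g (0, 0, a') (0, 0, b'); rw [ha, hb] at this; simpa using this⟩
  neg_mem' := by
    rintro a ⟨a', ha⟩
    exact ⟨-a', by have := map_neg g (0, 0, a'); rw [ha] at this; simpa using this⟩

theorem v3' (nz : ∀ g ∈ Γ, PZ g → PY g) (dv : JobDiv.{v}) (nm : JobNum.{v}) (hp : p ≠ 2) (h : D3 p Γ U)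
    (tor : ∀ s, s ≠ 0 → ∃ d ∈ Γ, ∀ c y w, d (c, y, w) = (s ^ 2 * c, s * y, w)) {r : K} (hr : r ≠ 0)
    (hw : ∀ g ∈ Γ, ∃ w, g (0, 0, r) = (0, 0, w)) : ∀ g ∈ Γ, PZ g := by
  by_contra! h0
  obtain ⟨g₀, ⟨h₀, n₀⟩, mx⟩ := Set.exists_max_image {g | g ∈ Γ ∧ ¬ PZ g} (fun g => Nat.card (Eg g))
    (Set.toFinite _) h0
  have h2 : (2 : K) ≠ 0 := two_ne hp
  let Γ₁ := Γ ⊓ fixS {v | ∃ e ∈ Eg g₀, v = (0, 0, e)}
  have m1 : ∀ {g}, g ∈ Γ₁ ↔ g ∈ Γ ∧ ∀ e ∈ Eg g₀, g (0, 0, e) = (0, 0, e) := and_congr_right fun _ =>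
    ⟨fun h e he => h _ ⟨e, he, rfl⟩, fun h => by rintro _ ⟨e, he, rfl⟩; exact h e he⟩
  have D : Des p Γ₁ U (Eg g₀) := by
    refine ⟨⟨h.hU, h.syl.mono (fun u hu => m1.2 ⟨h.syl.le hu, fun e _ => ?_⟩) inf_le_left⟩,
      fun g hg => nz g hg.1, fun s hs => ?_, fun g hg hz => ?_, fun e => ?_, fun g hg => (m1.1 hg).2,
      fun g hg => ?_, g₀ * u3 1 * g₀⁻¹, m1.2 ⟨?_, ?_⟩, fun e => n₀ ?_⟩
    · obtain ⟨a, rfl⟩ := h.mem.1 hu; exact u3_z a e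
    · obtain ⟨d, hd, e⟩ := tor s hs
      exact ⟨d, m1.2 ⟨hd, fun w _ => by simp [e]⟩, e⟩
    · obtain ⟨s, hs, l⟩ := lay_of hp h hg.1 (nz g hg.1 fun w => ⟨w, hz w⟩) hz
      obtain ⟨d, hd, e⟩ := tor s hs
      obtain ⟨a, ha⟩ := mem_U h (Γ.mul_mem hg.1 (Γ.inv_mem hd)) (lay_Tr hs l
        ⟨fun _ _ _ => by rw [e], fun _ _ => by rw [e], fun _ => by simp [e]⟩)
      exact ⟨u3 a, h.mem.2 ⟨a, rfl⟩, s, hs, fun c y w => by rw [← ha, ← e, A.mul_apply, A.inv_self]⟩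
    · obtain ⟨w, e'⟩ := hw _ (Γ.inv_mem h₀)
      have : r ∈ Eg g₀ := ⟨w, by rw [← e', A.self_inv]⟩
      rw [e] at this
      exact hr this
    · refine or_iff_not_imp_left.2 fun n w w' e => ?_
      have := AddSubgroup.eq_of_le_of_card_ge (H := Eg g₀) (K := Eg g) (fun e he => ⟨e, (m1.1 hg).2 e he⟩)
        (mx g ⟨hg.1, n⟩)
      have h3 : w' ∈ Eg g₀ := this ▸ ⟨w, e⟩
      have h4 := g.injective (e.trans ((m1.1 hg).2 _ h3).symm)
      rwa [show w = w' by simpa using h4]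
    · exact Γ.mul_mem (Γ.mul_mem h₀ (h.syl.le (h.mem.2 ⟨1, rfl⟩))) (Γ.inv_mem h₀)
    · rintro e ⟨w, he⟩
      rw [← he, A.mul_apply, A.mul_apply, A.inv_self, u3_z]
    · refine pz_iff.2 ((stb _).inv_mem_iff.1 (fix_of_syl h.syl (fun u hu u1 ⟨c, y, w⟩ => ?_) (Γ.inv_mem h₀)
        (h.mem.2 ⟨1, rfl⟩) (fun e => ?_) (by rw [inv_inv]; exact pz_iff.1 e)))
      · obtain ⟨a, rfl⟩ := h.mem.1 hu
        have a0 : a ≠ 0 := fun e => u1 (by rw [e, u3_zero])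
        refine Iff.trans ?_ mem_Zs.symm
        simp only [u3_apply, Prod.mk.injEq, true_and, add_eq_left, mul_eq_zero, a0, false_or]
        refine and_congr_right fun e => ?_
        simp [e, h2, a0]
      · simpa [A.one_apply] using LinearEquiv.congr_fun e (1, 0, 0)
  exact nm p K Γ₁ U _ hp D (dv p K Γ₁ U _ hp D).1 (dv p K Γ₁ U _ hp D).2

theorem diag_of_lay (hp : p ≠ 2) (h : D3 p Γ U) {t : K} (ht : t ≠ 0) {δ : A (K × K × K)} (hδ : δ ∈ Γ)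
    (l : Lay t δ) : ∃ d ∈ Γ, ∃ H : K →+ K, ∀ c y w, d (c, y, w) = (t ^ 2 * c, t * y, w + H c) := by
  have h2 : (2 : K) ≠ 0 := two_ne hp
  have hy : PY δ := fun y w => by rw [l.1, mul_zero]
  have e1 : ∀ a c, t * (δ (0, a * c, 0)).2.2 = 2 * a * (δ (c, 0, 0)).2.1 := fun a c => by
    obtain ⟨b, e⟩ := conj_u3 h hδ hy l.2.2 a
    have e1 := cmp1 hy l.2.2 e 1
    have e2 := (cmp2 l.2.2 e c).2
    rw [l.2.1] at e1
    rw [l.1] at e2
    obtain rfl : a = b * t := mul_left_cancel₀ h2 (by linear_combination e1)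
    linear_combination t * e2
  obtain ⟨f, hf⟩ : ∃ f, f = (δ (1, 0, 0)).2.1 := ⟨_, rfl⟩
  have e2 : ∀ y, (δ (0, y, 0)).2.2 = 2 * y * f / t := fun y => by
    have := e1 y 1
    rw [mul_one, ← hf] at this
    field_simp
    linear_combination this
  have e3 : ∀ c, (δ (c, 0, 0)).2.1 = c * f := fun c => by
    have := e1 1 c
    rw [one_mul, e2] at this
    field_simp at this
    linear_combination -this
  refine ⟨u3 (-f / t ^ 2) * δ, Γ.mul_mem (h.syl.le (h.mem.2 ⟨_, rfl⟩)) hδ, AddMonoidHom.mk'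
    (fun c => ((u3 (-f / t ^ 2) * δ) (c, 0, 0)).2.2) fun a b => ?_, fun c y w => ?_⟩
  · rw [← Prod.snd_add, ← Prod.snd_add, ← map_add]; simp
  · have e4 : δ (0, y, 0) = (0, t * y, 2 * y * f / t) := Prod.ext (hy _ _) (Prod.ext (l.2.1 _ _) (e2 y))
    have e5 : δ (c, 0, 0) = (t ^ 2 * c, c * f, (δ (c, 0, 0)).2.2) := Prod.ext (l.1 _ _ _) (Prod.ext (e3 _) rfl)
    simp only [AddMonoidHom.mk'_apply, A.mul_apply]
    rw [split3 δ l.2.2, e4, e5]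
    simp only [Prod.mk_add_mk, u3_apply, Prod.mk.injEq]
    refine ⟨by ring, by field_simp; ring, by field_simp; ring⟩

theorem jobV3 : JobV3.{v} := by
  intro sp nz dv nm p _ K _ _ _ Γ U hp h lay r hr hw
  suffices H : ∀ g ∈ Γ, PZ g from fun g hg => ⟨H g hg, nz sp p K Γ U hp h g hg (H g hg)⟩
  obtain ⟨t, ht⟩ := IsCyclic.exists_monoid_generator (α := Kˣ)
  have gen : ∀ s : K, s ≠ 0 → ∃ n : ℕ, (t : K) ^ n = s := fun s hs => by
    obtain ⟨n, e⟩ := ht (Units.mk0 s hs)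
    exact ⟨n, by simpa using congrArg Units.val e⟩
  by_cases t2 : (t : K) ^ 2 - 1 = 0
  · intro g hg w
    by_cases w0 : w = 0
    · subst w0; exact ⟨0, map_zero g⟩
    obtain ⟨w', e⟩ := hw g hg
    obtain ⟨n, hn⟩ := gen (w / r) (div_ne_zero w0 hr)
    have : (w / r) ^ 2 = 1 := by rw [← hn, ← pow_mul, mul_comm, pow_mul, sub_eq_zero.1 t2, one_pow]
    rcases sq_eq_one_iff.1 this with e1 | e1
    · rw [(div_eq_one_iff_eq hr).1 e1]; exact ⟨w', e⟩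
    · have := map_neg g (0, 0, r)
      rw [e] at this
      rw [show w = -r by field_simp at e1; linear_combination e1]
      exact ⟨-w', by simpa using this⟩
  obtain ⟨δ, hδ, l⟩ := lay t t.ne_zero
  obtain ⟨d, hd, H, e⟩ := diag_of_lay hp h t.ne_zero hδ l
  let k : K →+ K := H.comp (AddMonoidHom.mulLeft ((t : K) ^ 2 - 1)⁻¹)
  have hk : ∀ c, k ((t : K) ^ 2 * c) = k c + H c := fun c => by
    rw [← sub_eq_iff_eq_add', ← map_sub]
    show H _ = H c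
    congr 1
    simp only [AddMonoidHom.coe_mulLeft]
    field_simp
  let ψ := ut 0 k
  have ψi : ∀ c y w, ψ⁻¹ (c, y, w) = (c, y, w - k c) := fun c y w => by
    rw [← ψ.injective.eq_iff, A.self_inv]; simp [ψ]
  have ψz : ∀ w, ψ (0, 0, w) = (0, 0, w) := fun w => by simp [ψ]
  have cm : ∀ a, ψ * u3 a * ψ⁻¹ = u3 a := fun a => mul_inv_eq_iff_eq_mul.2 (LinearEquiv.ext fun ⟨c, y, w⟩ => by
    simp only [A.mul_apply, ψ, u3_apply, ut_apply, zero_mul, add_zero, Prod.mk.injEq, true_and]; ring)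
  have h' : D3 p (cj ψ⁻¹ Γ) U := ⟨h.hU, by
    have := h.syl.map_equiv (MulAut.conj ψ⁻¹)
    rwa [show U.map (MulAut.conj ψ⁻¹).toMonoidHom = U from cj_eq_of_Nm ((Nm U).inv_mem (mem_Nm_of_conj fun u hu => by
      obtain ⟨a, rfl⟩ := h.mem.1 hu; rwa [cm]))] at this⟩
  have pz : ∀ g : A (K × K × K), PZ (ψ⁻¹ * g * ψ) → PZ g := fun g hg w => by
    obtain ⟨w', e⟩ := hg w
    rw [A.mul_apply, A.mul_apply, ψz] at e
    exact ⟨w', by rw [← ψz w', ← e, A.self_inv]⟩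
  refine fun g hg => pz g (v3' (nz sp p K _ U hp h') dv nm hp h' (fun s hs => ?_) hr (fun g hg => ?_) _
    (mem_cj_inv.2 (by simpa [mul_assoc] using hg)))
  · obtain ⟨n, rfl⟩ := gen s hs
    refine ⟨(ψ⁻¹ * d * ψ) ^ n, pow_mem (mem_cj_inv.2 (by simpa [mul_assoc] using hd)) n, ?_⟩
    clear hs
    induction n with
    | zero => simp [A.one_apply]
    | succ n ih =>
      intro c y w
      rw [pow_succ', A.mul_apply, ih]
      simp only [A.mul_apply, ψ, ut_apply, e, zero_mul, add_zero]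
      rw [ψi, hk]
      exact Prod.ext (by ring) (Prod.ext (by ring) (by ring))
  · obtain ⟨w, e⟩ := hw _ (mem_cj_inv.1 hg)
    rw [A.mul_apply, A.mul_apply, ← ψz r, A.inv_self, ← ψz w] at e
    exact ⟨w, ψ.injective e⟩

end H29.S4
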