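import Cfsg.Agent.H29.SARep
import Cfsg.Agent.H7.SylowIn
import Cfsg.Agent.H93.HlSU3
import Cfsg.Agent.S2644

/-! STD-A, job FF: central involutions of Sylow subgroups lie in the commutator subgroup. -/

set_option autoImplicit false
set_option linter.unusedSectionVars false

namespace H29.SA

open H64.SG (O2 Syl Cz Cs Ns cjs Is2 Inv2 fx)
open Matrix H67.SA Subgroup H54
open scoped commutatorElement

/-- involutions in the centre of a Sylow `2`-subgroup lie in the commutator subgroup -/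
def First (Γ : Type*) [Group Γ] : Prop := ∀ (P : Subgroup Γ) (y : Γ), IsPGroup 2 P → Odd P.index →
  (∀ s ∈ P, s * y = y * s) → y * y = 1 → y ∈ commutator Γ

section gen
variable {G Γ : Type*} [Group G] [Group Γ]

theorem First.of_perfect (h : commutator Γ = ⊤) : First Γ := fun _ _ _ _ _ _ => h ▸ mem_top _

theorem First.sub {H : Subgroup G} (e : H ≃* Γ) (h : First Γ) (P : Subgroup G) (y : G) (hP : Syl P H)
    (hy : y ∈ P) (hc : y ∈ Cs P) (h2 : y * y = 1) : y ∈ ⁅H, H⁆ := by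
  have h1 := h ((P.subgroupOf H).map e.toMonoidHom) (e ⟨y, hP.1 hy⟩) ((hP.2.1.comap_subtype).map _)
    (by rw [index_map_of_bijective e.bijective]; exact hP.2.2)
    (by
      rintro _ ⟨s, hs, rfl⟩
      change e s * _ = _ * e s
      rw [← map_mul, ← map_mul]
      exact congrArg e (Subtype.ext (mem_centralizer_iff.1 hc s hs)))
    (by rw [← map_mul, ← map_one e]; exact congrArg e (Subtype.ext h2))
  have h3 : (commutator Γ).map e.symm.toMonoidHom = commutator H := by
    rw [commutator_def, map_commutator, map_top_of_surjective _ e.symm.surjective, commutator_def]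
  rw [← map_subtype_commutator, ← h3]
  exact ⟨_, ⟨_, h1, rfl⟩, by simp⟩

end gen

theorem first_su3 {F : Type} [Field F] [Fintype F] [CharP F 2] (hF : Fintype.card F = 2 ^ 2) :
    First (Cfsg.SU 3 F 2) := fun _ y _ _ _ h2 => by
  by_cases y1 : y = 1
  · rw [y1]; exact one_mem _
  obtain ⟨e⟩ := H93.Su3.jobSU3 F hF
  obtain ⟨t, ht⟩ := exists_prime_orderOf_dvd_card' (G := commutator (Cfsg.SU 3 F 2)) 2 (by
    rw [← Nat.card_congr e.toEquiv, H20.Hl.card_Mdl]; norm_num)
  have t2 : (t : Cfsg.SU 3 F 2) * t = 1 := by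
    have := pow_orderOf_eq_one t
    rw [ht, sq] at this
    exact congrArg Subtype.val this
  have t1 : (t : Cfsg.SU 3 F 2) ≠ 1 := fun h => by
    rw [show t = 1 from Subtype.ext h, orderOf_one] at ht; omega
  have two : (2 : F) = 0 := CharTwo.two_eq_zero
  obtain ⟨g, rfl⟩ := isConj_iff.1 (Cfsg.Agent.S2644.result hF le_rfl t y
    (H58.QE.tv_of_inv two le_rfl ⟨fun e => t1 (Subtype.ext e), congrArg Subtype.val t2⟩)
    (H58.QE.tv_of_inv two le_rfl ⟨fun e => y1 (Subtype.ext e), congrArg Subtype.val h2⟩))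
  exact Normal.conj_mem inferInstance _ t.2 g

section Sp
variable {l : Type} [Fintype l] [DecidableEq l] {F : Type} [Field F] [CharP F 2] {r : l ⊕ l → F}

local notation "B" => spB l F

/-- the elements of `O₂` of the stabiliser of `r` -/
def E (r w : l ⊕ l → F) (a : F) : symplecticGroup l F := H54.tv w 1 * H54.tv (w + r) 1 * H54.tv r (a + 1)

theorem B_swap (u v : l ⊕ l → F) : B u v = B v u := by rw [spB_swap, CharTwo.neg_eq]

theorem E_smul {w : l ⊕ l → F} (h : B w r = 0) (a : F) (v : l ⊕ l → F) :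
    E r w a • v = v + B v r • w + (B v w + a * B v r) • r := by
  have h' : B r w = 0 := by rw [B_swap, h]
  simp only [E, mul_smul, tv_smul, map_add, map_smul, LinearMap.add_apply, LinearMap.smul_apply, smul_eq_mul,
    spB_self, h']
  ext i
  simp only [Pi.add_apply, Pi.smul_apply, smul_eq_mul]
  linear_combination (B v r * r i + B v w * w i) * CharTwo.two_eq_zero (R := F)

theorem E_fix {w : l ⊕ l → F} (h : B w r = 0) (a : F) : E r w a • r = r := by
  rw [E_smul h, B_swap r w, h, spB_self]; simp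

theorem E_mul {w w' : l ⊕ l → F} (h : B w r = 0) (h' : B w' r = 0) (a a' : F) :
    E r w a * E r w' a' = E r (w + w') (a + a' + B w' w) := sp_ext fun v => by
  rw [mul_smul, E_smul h', E_smul h, E_smul (by simp [h, h'])]
  simp only [map_add, map_smul, LinearMap.add_apply, LinearMap.smul_apply, smul_eq_mul, spB_self, h', B_swap r w, h]
  ext i
  simp only [Pi.add_apply, Pi.smul_apply, smul_eq_mul]
  ring

theorem E_line (c a : F) : E r (c • r) a = H54.tv r a := sp_ext fun v => by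
  rw [E_smul (by simp [spB_self]), tv_smul]
  ext i
  simp only [map_smul, Pi.add_apply, Pi.smul_apply, smul_eq_mul]
  linear_combination (B v r * c * r i) * CharTwo.two_eq_zero (R := F)

theorem E_zero (a : F) : E r 0 a = H54.tv r a := by rw [← E_line 0 a, zero_smul]

theorem add_self_vec (w : l ⊕ l → F) : w + w = 0 := by ext i; exact CharTwo.add_self_eq_zero _

theorem E_sq {w : l ⊕ l → F} (h : B w r = 0) (a : F) : E r w a * E r w a = 1 := by
  rw [E_mul h h, add_self_vec, spB_self, CharTwo.add_self_eq_zero, add_zero, E_zero, tv_zero]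

theorem E_conj {g : symplecticGroup l F} (hg : g • r = r) (w : l ⊕ l → F) (a : F) :
    g * E r w a * g⁻¹ = E r (g • w) a := by
  have a1 := tv_conj g (w + r) 1
  have a2 := tv_conj g r (a + 1)
  rw [smul_add, hg] at a1
  rw [hg] at a2
  rw [E, E, ← tv_conj, ← a1]
  conv_rhs => rw [← a2]
  group

theorem eq_E (hr : r ≠ 0) {g : symplecticGroup l F} (hg : g • r = r)
    (h : ∀ w, B w r = 0 → ∃ c : F, g • w = w + c • r) : ∃ w a, B w r = 0 ∧ g = E r w a := by
  obtain ⟨v0, h0⟩ := exists_spB_eq hr 1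
  have h0' : B v0 r = 1 := by rw [B_swap, h0]
  obtain ⟨w0, e0⟩ : ∃ w0, g • v0 = v0 + w0 := ⟨g • v0 - v0, by abel⟩
  have h1 : B w0 r = 0 := by
    have := spB_smul g v0 r
    rwa [hg, e0, map_add, LinearMap.add_apply, add_eq_left] at this
  refine ⟨w0, B v0 w0, h1, sp_ext fun v => ?_⟩
  obtain ⟨w, t, hw, rfl⟩ : ∃ w, ∃ t : F, B w r = 0 ∧ v = w + t • v0 :=
    ⟨v - B v r • v0, B v r, by simp [h0'], by abel⟩
  obtain ⟨c, hc⟩ := h w hw
  have h2 := spB_smul g w v0
  rw [hc, e0] at h2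
  simp only [map_add, map_smul, LinearMap.add_apply, LinearMap.smul_apply, smul_eq_mul, h0, B_swap r w0, h1] at h2
  rw [smul_add, sp_smul_smul, hc, e0, E_smul h1]
  simp only [map_add, map_smul, LinearMap.add_apply, LinearMap.smul_apply, smul_eq_mul, h0', hw]
  ext i
  simp only [Pi.add_apply, Pi.smul_apply, smul_eq_mul]
  linear_combination r i * h2 - (r i * B w w0 + t * B v0 w0 * r i) * CharTwo.two_eq_zero (R := F)

theorem exists_perp (hr : r ≠ 0) {u : l ⊕ l → F} (hu : ∀ c : F, u ≠ c • r) (b : F) : ∃ w, B w r = 0 ∧ B w u = b := by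
  obtain ⟨v0, h0⟩ := exists_spB_eq hr 1
  have h0' : B v0 r = 1 := by rw [B_swap, h0]
  obtain ⟨v, hv⟩ := exists_spB_eq (sub_ne_zero.2 (hu (B v0 u))) b
  refine ⟨v - B v r • v0, by simp [h0'], ?_⟩
  rw [B_swap] at hv
  simp only [map_sub, map_smul, LinearMap.sub_apply, LinearMap.smul_apply, smul_eq_mul] at hv ⊢
  linear_combination hv

variable [Finite F]

theorem first_cen (hr : r ≠ 0) {u u' : l ⊕ l → F} (h1 : B u r = 0) (h2 : B u' r = 0) (h3 : B u' u = 0)
    (n1 : ∀ c : F, u ≠ c • r) (n2 : ∀ c : F, u' ≠ c • r) (n3 : ∀ c : F, u + u' ≠ c • r) :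
    First (centralizer {H54.tv r 1}) := by
  set C := centralizer {H54.tv r 1}
  have mem : ∀ g, g ∈ C ↔ g • r = r := H58.mem_centralizer_tv_iff hr
  have k1 : ∀ u, B u r = 0 → (∀ c : F, u ≠ c • r) → ∀ b, b ≠ 0 → E r u b ∈ ⁅C, C⁆ := fun u hu hn b hb => by
    obtain ⟨w, w1, w2⟩ := exists_perp hr hn b
    have t1 : H54.tv u b⁻¹ • r = r := tv_smul_of_ortho _ (by rw [B_swap, hu])
    have := commutator_mem_commutator ((mem _).2 t1) ((mem _).2 (E_fix w1 0))
    rwa [commutatorElement_def, E_conj t1, inv_eq_of_mul_eq_one_right (E_sq w1 0), tv_smul, w2,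
      inv_mul_cancel₀ hb, one_smul, E_mul (by simp [w1, hu]) w1, map_add, spB_self, w2, add_right_comm w,
      add_self_vec, zero_add, zero_add, zero_add, zero_add] at this
  have k2 : ∀ b, H54.tv r b ∈ ⁅C, C⁆ := fun b => by
    by_cases hb : b = 0
    · rw [hb, tv_zero]; exact one_mem _
    have h4 : B (u + u') r = 0 := by simp [h1, h2]
    have := mul_mem (mul_mem (k1 u h1 n1 b hb) (k1 u' h2 n2 1 one_ne_zero)) (k1 _ h4 n3 1 one_ne_zero)
    rwa [E_mul h1 h2, E_mul h4 h4, add_self_vec, h3, spB_self, add_zero, add_zero, add_assoc,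
      CharTwo.add_self_eq_zero, add_zero, E_zero] at this
  have k3 : ∀ w a, B w r = 0 → E r w a ∈ ⁅C, C⁆ := fun w a hw => by
    by_cases hc : ∃ c : F, w = c • r
    · obtain ⟨c, rfl⟩ := hc
      rw [E_line]; exact k2 a
    have := mul_mem (k1 w hw (not_exists.1 hc) 1 one_ne_zero) (k2 (1 + a))
    rwa [← E_zero, E_mul hw (by simp), add_zero, map_zero, LinearMap.zero_apply, add_zero, ← add_assoc,
      CharTwo.add_self_eq_zero, zero_add] at this
  let Q : Subgroup C :=
    { carrier := {g | ∃ w a, B w r = 0 ∧ g.1 = E r w a}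
      one_mem' := ⟨0, 0, by simp, by rw [E_zero, tv_zero]; rfl⟩
      mul_mem' := by
        rintro a b ⟨w, c, hw, e⟩ ⟨w', c', hw', e'⟩
        exact ⟨w + w', _, by simp [hw, hw'], by rw [Subgroup.coe_mul, e, e', E_mul hw hw']⟩
      inv_mem' := by
        rintro a ⟨w, c, hw, e⟩
        exact ⟨w, c, hw, by rw [Subgroup.coe_inv, e, inv_eq_of_mul_eq_one_right (E_sq hw c)]⟩ }
  have hQ : Q.Normal := ⟨by
    rintro a ⟨w, c, hw, e⟩ g
    refine ⟨g.1 • w, c, by rw [← (mem _).1 g.2, spB_smul, hw], ?_⟩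
    rw [Subgroup.coe_mul, Subgroup.coe_mul, Subgroup.coe_inv, e, E_conj ((mem _).1 g.2)]⟩
  have pQ : IsPGroup 2 Q := by
    rintro ⟨a, w, c, hw, e⟩
    refine ⟨1, Subtype.ext (Subtype.ext ?_)⟩
    change a.1 ^ 2 ^ 1 = 1
    rw [pow_one, sq, e, E_sq hw]
  intro P y pP oP hc _
  have hP : H7.IsSylowIn 2 P ⊤ := ⟨le_top, pP, by
    rw [relIndex_top_right]; exact fun e => Nat.not_even_iff_odd.2 oP (even_iff_two_dvd.2 e)⟩
  have hQP : Q ≤ P := hP.le_of_le_normalizer pQ le_top (by rw [normalizer_eq_top]; exact le_top)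
  obtain ⟨w, a, hw, e⟩ := eq_E hr ((mem _).1 y.2) fun w hw => by
    have e1 := congrArg Subtype.val (hc ⟨E r w 0, (mem _).2 (E_fix hw 0)⟩ (hQP ⟨w, 0, hw, rfl⟩))
    have e2 : E r (y.1 • w) 0 = E r w 0 := by
      rw [← E_conj ((mem _).1 y.2), mul_inv_eq_iff_eq_mul]; exact e1.symm
    obtain ⟨v0, h0⟩ := exists_spB_eq hr 1
    have e3 := congrArg (· • v0) e2
    simp only [E_smul hw, E_smul (show B (y.1 • w) r = 0 by rw [← (mem _).1 y.2, spB_smul, hw]), B_swap v0 r, h0,
      one_smul, zero_mul, add_zero] at e3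
    refine ⟨B v0 w - B v0 (y.1 • w), ?_⟩
    rw [sub_smul]
    linear_combination (exp := 1) e3
  have := k3 w a hw
  rw [← e, ← map_subtype_commutator] at this
  obtain ⟨z, hz, ez⟩ := this
  rwa [← Subtype.ext ez]

theorem first_cen' {k : ℕ} {r : Fin k ⊕ Fin k → F} (hr : r ≠ 0) (h2 : 2 ≤ k) (h : 3 ≤ k ∨ 4 ≤ Nat.card F) :
    First (centralizer {H54.tv r 1}) := by
  obtain ⟨k, rfl⟩ : ∃ j, k = j + 2 := ⟨k - 2, by omega⟩
  obtain ⟨j, c, j0, c0, hc⟩ : ∃ (j : Fin (k + 2)) (c : F), j ≠ 0 ∧ c ≠ 0 ∧ (j ≠ 1 ∨ c ≠ -1) := by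
    rcases h with h | h
    · exact ⟨⟨2, by omega⟩, 1, by simp [Fin.ext_iff], one_ne_zero, .inl (by simp [Fin.ext_iff])⟩
    · obtain ⟨a, a0, a1⟩ := exists_ne_zero_ne_neg_one_of_three_le (F := F) (by omega)
      exact ⟨1, a, by simp, a0, .inr a1⟩
  obtain ⟨g, rfl⟩ := sp_exists_smul_eq (v := (Pi.single (Sum.inl 0) 1 : Fin (k + 2) ⊕ Fin (k + 2) → F))
    (by simp) hr
  have key : ∀ (u : Fin (k + 2) ⊕ Fin (k + 2) → F) (i : Fin (k + 2)), i ≠ 0 → u (.inl i) ≠ 0 → ∀ d : F,
      g • u ≠ d • g • (Pi.single (Sum.inl 0) 1 : Fin (k + 2) ⊕ Fin (k + 2) → F) := fun u i i0 hu d e => by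
    rw [← sp_smul_smul, smul_left_cancel_iff] at e
    exact hu (by simp [e, i0])
  refine first_cen hr (u := g • Pi.single (Sum.inl 1) 1) (u' := g • Pi.single (Sum.inl j) c)
    (by rw [spB_smul, spB_single_inl_inl]) (by rw [spB_smul, spB_single_inl_inl])
    (by rw [spB_smul, spB_single_inl_inl]) (key _ 1 (by simp) (by simp)) (key _ j j0 (by simpa)) ?_
  rw [← smul_add]
  refine key _ 1 (by simp) ?_
  by_cases hj : j = 1
  · subst hj
    simpa [add_eq_zero_iff_neg_eq, eq_comm (a := c)] using hc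
  · simp [Ne.symm hj]

end Sp

end H29.SA
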