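import Cfsg.Agent.H86.TP.Spec
import Cfsg.Agent.H14.FEKit
import Cfsg.Agent.H14.Tight
import Cfsg.Agent.H14.Std

/-! Tower NF (S1308), chapter TP, job `TG0`: the geometry of points. -/

set_option autoImplicit false

open Cfsg Subgroup MulAction H14 H98 H1.Gold H31.S2 H14.GC H14.FE H14.NF H86.TP
open scoped commutatorElement

namespace H29.TPG

universe u

theorem jTG0 : JobTG0.{u} := by
  intro cjq rv gq0 so mnf cl px G _ _ Q h E hE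
  have gq := gq0 G Q h
  have so3 := (so G Q gq E hE).2.2
  have gv : ∀ Q₁ E₁, Pt Q E Q₁ E₁ → GQ Q₁ := fun Q₁ E₁ p => gq0 G Q₁ (cjq G Q h Q₁ (so3 _ _ p).1)
  obtain ⟨R, hR, rfl⟩ := id hE
  have l : OZ R ≤ Q := fun z hz => hR.le hz.1
  refine ⟨l, fun z hz => hz.2.1, gq.four R hR, fun g d hd d2 c hc => ?_, fun g k ne d hd d2 => ne ?_,
    fun Q₁ E₁ Q₂ E₂ p1 p2 s hs s1 sn => ?_, fun Q₁ E₁ Q₂ E₂ c => ?_,
    fun Q₁ E₁ Q₂ E₂ c U h1 h2 h3 => ((cl G Q h _ hE _ _ _ _ c).1.eq_of_le h2 h3 h1).le,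
    fun Q₁ E₁ Q₂ E₂ c Y h1 h2 h3 => ?_⟩
  · refine te_mem_normalizer (te_cj h.te g) (inv_iff.1 d2) hd ?_
    have := conj_mem_cj (g := c) hd
    rwa [mem_cen1.1 hc, mul_inv_cancel_right] at this
  · have h1 := te_mem_normalizer (te_cj h.te k) (g := g * k⁻¹) (inv_iff.1 d2) hd.2
      (by rw [cj_cj, inv_mul_cancel_right]; exact hd.1)
    have h2 := cj_eq_self_iff.2 h1
    rwa [cj_cj, inv_mul_cancel_right] at h2
  · obtain ⟨g, e⟩ := (so3 _ _ p2).1.exists_cj (so3 _ _ p1).1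
    obtain ⟨R₁, r1, rfl⟩ := (so3 _ _ p1).2.1
    exact mnf G Q₂ (gv _ _ p2) E₂ Q₁ (so3 _ _ p2).2.1 ⟨g, e.symm⟩ s (r1.le hs.1) ⟨s1, hs.2.1⟩ sn
  · obtain ⟨R₁, P, L, -⟩ := (cl G Q h _ hE _ _ _ _ c).2 ⊥ IsPGroup.of_bot bot_le fun a _ b hb => by
      rw [mem_bot.1 hb, commutatorElement_one_right]; exact one_mem _
    obtain ⟨R', P', L'⟩ := rv G Q₁ _ _ _ _ L.toLD
    obtain ⟨y, yP, yE⟩ := SetLike.exists_of_lt L'.ltP
    obtain ⟨yR, cm⟩ := (L'.mem y).1 yP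
    obtain ⟨d, dE, d2⟩ := four_exists_inv L'.four
    refine ⟨c.p2, c.p1, c.ne.symm, le_centralizer_iff.1 c.comm, y, ⟨L'.sylR.le yR, L'.cenE yP⟩, ?_,
      cm, fun e => L'.nd y yP yE d dE d2.1 (commutatorElement_eq_one_iff_mul_comm.2 (e d dE))⟩
    obtain ⟨k, hk⟩ := L'.sylR.isPGroup ⟨y, yR⟩
    exact ⟨k, congrArg Subtype.val hk⟩
  · obtain ⟨R₁, P, L, n⟩ := (cl G Q h _ hE _ _ _ _ c).2 Y h2 h1 h3
    exact ⟨P, px G Q₁ _ _ _ _ P Y L ((gv _ _ c.p1).ld _ _ _ _ _ L).2.1 h1 h3 n⟩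

end H29.TPG
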