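/- Tower STD-UM, slot FQ: the field lemmas. -/
import Cfsg.Agent.H67.UASpec

set_option autoImplicit false
set_option linter.unusedSectionVars false

namespace H29.UM
open H67.UA

variable {K : Type} [Field K] [StarRing K] [CharP K 2] [Finite K] {η : K}

theorem eta (h : ∃ a : K, star a ≠ a) : ∃ η : K, tr η = 1 := by
  obtain ⟨a, ha⟩ := h
  have n : tr a ≠ 0 := fun e => ha (tr_eq_zero.1 e)
  exact ⟨a / tr a, by rw [tr, star_div₀, star_tr, ← add_div, div_self n]⟩

theorem star_eta (h : tr η = 1) : star η = η + 1 := by linear_combination h - η * two0 K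

theorem dec2 (h : tr η = 1) (a : K) : ∃ x y : K, star x = x ∧ star y = y ∧ a = x + y * η :=
  ⟨a + tr a * η, tr a, by
    rw [star_add, star_mul', star_tr, star_eta h]; linear_combination star a * two0 K, star_tr a,
    by linear_combination -(tr a * η) * two0 K⟩

theorem card (h : tr η = 1) : Nat.card K = qK K ^ 2 := by
  rw [qK, sq, ← Nat.card_prod]
  refine (Nat.card_congr (Equiv.ofBijective (fun v : selfAdjoint K × selfAdjoint K => v.1.1 + v.2.1 * η)
    ⟨fun v w e => ?_, fun a => ?_⟩)).symm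
  · have e' := congrArg star e
    simp only [star_add, star_mul', selfAdjoint.star_val_eq, star_eta h] at e e'
    have : v.2.1 = w.2.1 := by linear_combination e' - e
    exact Prod.ext (Subtype.ext (by rw [this] at e; exact add_right_cancel e)) (Subtype.ext this)
  · obtain ⟨x, y, hx, hy, e⟩ := dec2 h a
    exact ⟨(⟨x, hx⟩, ⟨y, hy⟩), e.symm⟩

theorem pow2 (h : tr η = 1) : ∃ f, 1 ≤ f ∧ qK K = 2 ^ f := by
  have := Fintype.ofFinite K
  obtain ⟨m, -, e⟩ := FiniteField.card K 2
  have c := card h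
  rw [← Nat.card_eq_fintype_card] at e
  obtain ⟨f, -, hf⟩ := (Nat.dvd_prime_pow Nat.prime_two).1
    ((dvd_pow_self (qK K) two_ne_zero).trans (c.symm.trans e).dvd)
  refine ⟨f, Nat.one_le_iff_ne_zero.2 ?_, hf⟩
  rintro rfl
  have := Finite.one_lt_card (α := K)
  rw [c, hf] at this
  simp at this

theorem root2 {a b : K} (e : a ^ 2 + a = b ^ 2 + b) : a = b ∨ a = b + 1 := by
  have : (a - b) * (a - (b + 1)) = 0 := by linear_combination e + (b ^ 2 + b - a - a * b) * two0 K
  simpa [sub_eq_zero] using this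

theorem star_nm' (h : tr η = 1) : star (η ^ 2 + η) = η ^ 2 + η := by
  rw [star_add, star_pow, star_eta h]; linear_combination (η + 1) * two0 K

theorem gal (h : tr η = 1) (σ : RingAut K) (e : ∀ a, star a = a → σ a = a) : σ = 1 ∨ σ = sg K := by
  have := e _ (star_nm' h)
  rw [map_add, map_pow] at this
  refine (root2 this).imp (fun r => RingEquiv.ext fun a => ?_) fun r => RingEquiv.ext fun a => ?_ <;>
    obtain ⟨x, y, hx, hy, rfl⟩ := dec2 h a
  · rw [map_add, map_mul, e x hx, e y hy, r]; rfl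
  · rw [map_add, map_mul, e x hx, e y hy, r]
    show _ = star (x + y * η)
    rw [star_add, star_mul', hx, hy, star_eta h]

theorem star_eq (h : tr η = 1) (a : K) : star a = a ^ qK K := by
  obtain ⟨f, f1, hf⟩ := pow2 h
  have := Fintype.ofFinite K
  have := Fintype.ofFinite (selfAdjoint K)
  have q1 : 1 < qK K := hf ▸ Nat.one_lt_two_pow (by omega)
  have k : ∀ a : K, iterateFrobeniusEquiv K 2 f a = a ^ qK K := fun a => by rw [hf]; rfl
  rcases gal h (iterateFrobeniusEquiv K 2 f) (fun a ha => by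
    have := congrArg Subtype.val (FiniteField.pow_card (⟨a, ha⟩ : selfAdjoint K))
    rwa [← Nat.card_eq_fintype_card, selfAdjoint.val_pow, ← qK, ← k] at this) with r | r
  · obtain ⟨g, hg⟩ := IsCyclic.exists_ofOrder_eq_natCard (α := Kˣ)
    have e : g ^ (qK K - 1) = 1 := by
      have := k g
      rw [r] at this
      refine mul_right_cancel (b := g) (Units.ext ?_)
      rw [← pow_succ, Nat.sub_add_cancel q1.le, one_mul, Units.val_pow_eq_pow_val, ← this]; rfl
    have := Nat.le_of_dvd (by omega) (orderOf_dvd_of_pow_eq_one e)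
    rw [hg, Nat.card_units, card h] at this
    have : qK K < qK K ^ 2 := by nlinarith
    omega
  · rw [← k, r]; rfl

theorem star_rt (a : K) : star (rt a) = rt (star a) := sq_inj (by rw [← star_pow, rt_sq, rt_sq])

theorem odd (a : K) (h : a ≠ 0) : Odd (orderOf a) := by
  have := Fintype.ofFinite K
  obtain ⟨m, -, e⟩ := FiniteField.card K 2
  refine Odd.of_dvd_nat ?_ (orderOf_dvd_of_pow_eq_one (FiniteField.pow_card_sub_one_eq_one a h))
  rw [e]
  exact Nat.Even.sub_odd Nat.one_le_two_pow (Nat.even_pow.2 ⟨even_two, m.2.ne'⟩) odd_one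

theorem eta_ne (h : tr η = 1) : η + 1 ≠ 0 := fun e => by
  have := star_eta h
  rw [e, star_eq_zero] at this
  simp [this] at e

theorem nm_eta (h : tr η = 1) : nm (η / (η + 1)) = 1 := by
  have e := eta_ne h
  have e' : η ≠ 0 := by rintro rfl; simp at h
  rw [nm, star_div₀, star_add, star_one, star_eta h, show η + 1 + 1 = η by linear_combination two0 K]
  field_simp

theorem n1 (h : tr η = 1) : ∃ a : K, nm a = 1 ∧ a ≠ 1 :=
  ⟨_, nm_eta h, fun e => by simpa using (div_eq_one_iff_eq (eta_ne h)).1 e⟩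

theorem n7 (h : tr η = 1) : ∃ a : K, nm a = 1 ∧ a ^ 7 ≠ 1 := by
  obtain ⟨a, ha, a1⟩ := n1 h
  refine ⟨a, ha, fun e => ?_⟩
  have := Fact.mk (by norm_num : Nat.Prime 7)
  obtain ⟨f, -, hf⟩ := pow2 h
  rw [nm, star_eq h, ← pow_succ', hf] at ha
  have d := orderOf_dvd_of_pow_eq_one ha
  rw [orderOf_eq_prime e a1] at d
  have : ∀ f : ℕ, 2 ^ f % 7 = 1 ∨ 2 ^ f % 7 = 2 ∨ 2 ^ f % 7 = 4 := fun f => by
    induction f with
    | zero => simp
    | succ f ih => omega
  have := this f
  omega

theorem core (h : tr η = 1) (R : Subring K) (e : ∀ a, nm a = 1 → a ∈ R) : R = ⊤ := by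
  have k : ∀ η : K, tr η = 1 → η ∈ R := fun η h => by
    have n := eta_ne h
    have a : (η + 1)⁻¹ ∈ R := by
      convert R.add_mem (e _ (nm_eta h)) R.one_mem using 1
      field_simp
      linear_combination -η * two0 K
    have b := R.pow_mem a (orderOf (η + 1)⁻¹ - 1)
    have c : (η + 1)⁻¹ ^ (orderOf (η + 1)⁻¹ - 1) * (η + 1)⁻¹ = 1 := by
      rw [← pow_succ, Nat.sub_add_cancel (odd _ (inv_ne_zero n)).pos, pow_orderOf_eq_one]
    rw [eq_inv_of_mul_eq_one_left c, inv_inv] at b
    simpa using R.sub_mem b R.one_mem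
  have f : ∀ c : K, star c = c → c ∈ R := fun c hc => by
    simpa using R.sub_mem (k (η + c) (by rw [tr, star_add, hc]; linear_combination h + c * two0 K)) (k η h)
  refine eq_top_iff.2 fun a _ => ?_
  obtain ⟨x, y, hx, hy, rfl⟩ := dec2 h a
  exact R.add_mem (f x hx) (R.mul_mem (f y hy) (k η h))

theorem art (h : tr η = 1) (d : K) (hd : star d = d) :
    ∃ η, η ^ 2 + η = d ∧ (star η = η ∨ star η = η + 1) := by
  let p : selfAdjoint K →+ selfAdjoint K := AddMonoidHom.mk' (fun x => x ^ 2 + x) fun x y =>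
    Subtype.ext (by simp; linear_combination (x.1 * y.1) * two0 K)
  have pv : ∀ x, (p x).1 = x.1 ^ 2 + x.1 := fun _ => rfl
  have ck : Nat.card p.ker = 2 := by
    refine Nat.card_eq_two_iff.2 ⟨0, ⟨1, Subtype.ext ?_⟩, by simp [Subtype.ext_iff], ?_⟩
    · rw [pv]; simpa using CharTwo.add_self_eq_zero (1 : K)
    · refine Set.eq_univ_of_forall fun x => ?_
      have e : x.1.1 ^ 2 + x.1.1 = 0 := congrArg Subtype.val (AddMonoidHom.mem_ker.1 x.2)
      rcases root2 (a := x.1.1) (b := 0) (by simpa using e) with r | r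
      · exact Or.inl (Subtype.ext (Subtype.ext r))
      · exact Or.inr (Subtype.ext (Subtype.ext (r.trans (zero_add 1))))
  have i2 : p.range.index = 2 := by
    have a := p.range.card_mul_index
    have b := p.ker.card_mul_index
    rw [AddSubgroup.index_ker, ck, ← a, mul_comm] at b
    exact (Nat.eq_of_mul_eq_mul_left Nat.card_pos b).symm
  have n : (⟨_, star_nm' h⟩ : selfAdjoint K) ∉ p.range := by
    rintro ⟨x, e⟩
    have s : star x.1 = x.1 := x.2
    have t := star_eta h
    rcases root2 ((pv x).symm.trans (congrArg Subtype.val e)) with r | r <;> rw [r] at s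
    · simp [s] at t
    · rw [star_add, star_one, add_left_inj] at s
      simp [s] at t
  by_cases c : (⟨d, hd⟩ : selfAdjoint K) ∈ p.range
  · obtain ⟨x, e⟩ := c
    exact ⟨x, congrArg Subtype.val e, Or.inl x.2⟩
  · obtain ⟨x, e⟩ := (AddSubgroup.add_mem_iff_of_index_two i2).2 (iff_of_false c n)
    have e' : x.1 ^ 2 + x.1 = d + (η ^ 2 + η) := congrArg Subtype.val e
    refine ⟨x + η, by linear_combination e' + (η ^ 2 + η + x.1 * η) * two0 K, Or.inr ?_⟩
    rw [star_add, selfAdjoint.star_val_eq, star_eta h, add_assoc]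

theorem fq (h : ∃ a : K, star a ≠ a) : FQ K := by
  obtain ⟨η, h⟩ := eta h
  refine ⟨card h, pow2 h, star_eq h, H81.SU.aut_star, gal h, star_rt, ⟨η, h⟩, fun c hc => ⟨c * η, ?_⟩,
    fun a e => ?_, fun a => ?_, fun c hc => ?_, n1 h, n7 h, odd, core h, art h⟩
  · rw [tr, star_mul', hc]; linear_combination c * h
  · by_contra n
    have := e (η / a)
    rw [div_mul_cancel₀ _ n, h] at this
    exact one_ne_zero this
  · by_cases n : a = 0
    · exact ⟨1, by simp, sq_inj (by simp [n, rt_sq])⟩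
    · have n' : nm a ≠ 0 := mul_ne_zero n (star_ne_zero.2 n)
      refine ⟨a / rt (nm a), ?_, by rw [mul_div_cancel₀ _ (rt_ne n')]⟩
      rw [nm, star_div₀, star_rt, star_nm, div_mul_div_comm, ← sq, rt_sq, div_self n']
  · by_cases n : c = 1
    · exact ⟨1, one_ne_zero, by simp [n]⟩
    · refine ⟨1 + c, fun e => n (CharTwo.add_eq_zero.1 e).symm, ?_⟩
      rw [star_add, star_one]; linear_combination hc

theorem jobFQ : JobFQ := fun _ _ _ _ _ _ hp => fq hp.ne

end H29.UM
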