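import Cfsg.Agent.H53.WUKit
import Cfsg.Agent.H29.WUZa

/-! The Weil representation of `GU_n(q)` (`H53.WU.JobZ`). -/

set_option autoImplicit false

namespace H29.WUZ

open _root_.Cfsg H28 H59 H53.WU Module
open scoped ComplexConjugate

/-- The Heisenberg group. -/
@[ext] structure Hs (S : HS) where
  v : S.V
  a : S.F

namespace Hs

variable {S : HS}

instance : Mul (Hs S) := ⟨fun x y => ⟨x.v + y.v, x.a + y.a + S.B x.v y.v⟩⟩
instance : One (Hs S) := ⟨⟨0, 0⟩⟩
instance : Inv (Hs S) := ⟨fun x => ⟨-x.v, -x.a + S.B x.v x.v⟩⟩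
@[simp] theorem mul_v (x y : Hs S) : (x * y).v = x.v + y.v := rfl
@[simp] theorem mul_a (x y : Hs S) : (x * y).a = x.a + y.a + S.B x.v y.v := rfl
@[simp] theorem one_v : (1 : Hs S).v = 0 := rfl
@[simp] theorem one_a : (1 : Hs S).a = 0 := rfl
@[simp] theorem inv_v (x : Hs S) : x⁻¹.v = -x.v := rfl
@[simp] theorem inv_a (x : Hs S) : x⁻¹.a = -x.a + S.B x.v x.v := rfl

instance : Group (Hs S) := Group.ofLeftAxioms
  (fun x y z => by ext <;> simp <;> abel) (fun x => by ext <;> simp) fun x => by ext <;> simp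

def eqv (S : HS) : Hs S ≃ S.F × S.V := ⟨fun x => (x.a, x.v), fun x => ⟨x.2, x.1⟩, fun _ => rfl, fun _ => rfl⟩

instance : Finite (Hs S) := Finite.of_equiv _ (eqv S).symm

/-- The action of the isometry group. -/
def act (S : HS) : S.Γ →* MulAut (Hs S) where
  toFun g :=
    { toFun := fun x => ⟨g.1 x.v, x.a⟩
      invFun := fun x => ⟨g.1.symm x.v, x.a⟩
      left_inv := fun x => by ext <;> simp
      right_inv := fun x => by ext <;> simp
      map_mul' := fun x y => by ext <;> simp [g.2 x.v y.v] }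
  map_one' := rfl
  map_mul' _ _ := rfl

@[simp] theorem act_v (g : S.Γ) (x : Hs S) : (act S g x).v = g.1 x.v := rfl
@[simp] theorem act_a (g : S.Γ) (x : Hs S) : (act S g x).a = x.a := rfl

/-- `g - 1` -/
noncomputable abbrev uu (g : S.Γ) : End S.F S.V := (g.1 : End S.F S.V) - 1

theorem act_mul_inv (g : S.Γ) (h : Hs S) :
    act S g h * h⁻¹ = ⟨uu g h.v, -S.B (uu g h.v) h.v⟩ := by
  ext
  · simp [sub_eq_add_neg]
  · simp; abel

theorem uu_iso (g : S.Γ) (v : S.V) :
    S.B (uu g v) (uu g v) + S.B (uu g v) v + S.B v (uu g v) = 0 := by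
  simp [g.2 v v]; abel

theorem sum_v [Fintype (Hs S)] [Fintype S.V] {M : Type*} [AddCommMonoid M] (f : S.V → M) :
    ∑ h : Hs S, f h.v = Fintype.card S.F • ∑ v, f v := by
  rw [← (eqv S).symm.sum_comp, Fintype.sum_prod_type]
  simp [eqv]

theorem card_V [Fintype S.V] : Fintype.card S.V = S.q ^ (2 * S.n) := by
  rw [← Nat.card_eq_fintype_card, Module.natCard_eq_pow_finrank (K := S.F), Nat.card_eq_fintype_card,
    S.hF, pow_mul]

theorem card [Fintype (Hs S)] : Fintype.card (Hs S) = Fintype.card S.F * S.q ^ (2 * S.n) := by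
  have := Fintype.ofFinite S.V
  rw [Fintype.card_congr (eqv S), Fintype.card_prod, card_V]

open Classical in
/-- The irreducible representation of degree `q ^ n`. -/
theorem exists_rep (S : HS) : ∃ (k : ℕ) (ρ : Representation ℂ (Hs S) (Fin k → ℂ)) (ψ : AddChar S.F ℂ),
    ρ.IsIrreducible ∧ (∃ c, c + frob S.hF c = 0 ∧ ψ c ≠ 1) ∧
    ∀ x, ρ.character x = if x.v = 0 then (S.q : ℂ) ^ S.n * ψ x.a else 0 := by
  obtain ⟨c, c0, hc⟩ := exists_trace_zero_ne_zero S.h.ne_id S.h.invol
  obtain ⟨χ, hχ, hz⟩ := exists_irr_not_mem_charKer (g := (⟨0, c⟩ : Hs S)) fun e => c0 (congrArg Hs.a e)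
  rw [hχ.mem_charKer] at hz
  have := Fintype.ofFinite (Hs S)
  have hs := hχ.classInner_self
  obtain ⟨k, ρ, hρ, rfl⟩ := hχ
  have h1 : ∀ a : S.F, ∃ t : ℂ, ρ ⟨0, a⟩ = t • 1 := fun a => exists_eq_smul_id_of_comm ρ _ fun g => by
    change _ * ρ g = ρ g * _
    rw [← map_mul, ← map_mul]
    congr 1
    ext <;> simp [add_comm]
  choose t ht using h1
  have h2 : ∀ a, ρ.character ⟨0, a⟩ = t a * k := fun a => by
    rw [Representation.character, ht]; simp
  have hk : ρ.character 1 = k := by simp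
  have k0 : (k : ℂ) ≠ 0 := fun e => hz (by rw [h2, hk, e, mul_zero])
  let ψ : AddChar S.F ℂ :=
    { toFun := t
      map_zero_eq_one' := mul_right_cancel₀ k0 (by rw [← h2, one_mul, ← hk]; rfl)
      map_add_eq_mul' := fun a b => mul_right_cancel₀ k0 (by
        rw [← h2, show (⟨0, a + b⟩ : Hs S) = ⟨0, a⟩ * ⟨0, b⟩ by ext <;> simp, Representation.character,
          map_mul, ht, ht]
        simp [mul_assoc, mul_left_comm]) }
  have hc1 : t c ≠ 1 := fun e => hz (by rw [h2, hk, e, one_mul])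
  have h3 : ∀ x : Hs S, ρ.character x = if x.v = 0 then k * ψ x.a else 0 := fun x => by
    split_ifs with h
    · rw [show x = ⟨0, x.a⟩ from Hs.ext h rfl, h2, mul_comm]; rfl
    · obtain ⟨w, hw⟩ := not_forall.1 fun e => h (S.h.nondeg _ e)
      obtain ⟨s, hs⟩ := exists_sub_eq_of_trace_zero S.h.ne_id S.h.invol hc
      have h4 : S.B x.v ((-s / S.B x.v w) • w) = -s := by
        rw [map_smul, smul_eq_mul, div_mul_cancel₀ _ hw]
      refine char_eq_zero_of_conj ρ (y' := ⟨(-s / S.B x.v w) • w, 0⟩) hc1 (ht c) ?_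
      generalize (-s / S.B x.v w) • w = y at h4
      ext
      · simp
      · simp [← S.h.symm x.v y, h4, ← hs]; abel
  have := Fintype.ofFinite S.V
  have h4 : k = S.q ^ S.n := by
    rw [classInner, Nat.card_eq_fintype_card, Finset.sum_congr rfl
      (g := fun x : Hs S => if x.v = 0 then (k : ℂ) ^ 2 else 0) fun x _ => by
        rw [h3]
        split_ifs
        · rw [map_mul, ← AddChar.map_neg_eq_conj, mul_mul_mul_comm, ← AddChar.map_add_eq_mul]
          simp [sq]
        · simp, sum_v fun v => if v = 0 then (k : ℂ) ^ 2 else 0, card, Finset.sum_ite_eq',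
      if_pos (Finset.mem_univ _), nsmul_eq_mul, inv_mul_eq_one₀ (Nat.cast_ne_zero.2 (by
        have := S.two_le_q
        have := Fintype.card_pos (α := S.F)
        positivity)), Nat.cast_mul, mul_right_inj' (Nat.cast_ne_zero.2 Fintype.card_ne_zero)] at hs
    exact Nat.pow_left_injective two_ne_zero (by
      simp only [← pow_mul]
      rw [mul_comm]; exact_mod_cast hs.symm)
  exact ⟨k, ρ, ψ, hρ, ⟨c, hc, hc1⟩, fun x => by rw [h3, h4, Nat.cast_pow]⟩

/-- The pairs that contribute to the trace of a product. -/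
noncomputable def K (a b : S.Γ) : Submodule S.F (S.V × S.V) :=
  LinearMap.ker (uu a ∘ₗ LinearMap.fst _ _ _ + uu b ∘ₗ LinearMap.snd _ _ _)

/-- The skew-hermitian form on `K`. -/
noncomputable def C (a b : S.Γ) : K a b →ₛₗ[frob S.hF] K a b →ₗ[S.F] S.F :=
  (-(S.B.comp (uu a ∘ₗ LinearMap.fst _ _ _)).compl₂ (LinearMap.fst _ _ _) -
    (S.B.comp (uu b ∘ₗ LinearMap.snd _ _ _)).compl₂ (LinearMap.snd _ _ _) +
    (S.B.comp (uu a ∘ₗ LinearMap.fst _ _ _)).compl₂ (uu b ∘ₗ LinearMap.snd _ _ _)).domRestrict₁₂ _ _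

theorem C_apply {a b : S.Γ} (x : K a b) : C a b x x = -S.B (uu a x.1.1) x.1.1 +
    -S.B (uu b x.1.2) x.1.2 + S.B (uu a x.1.1) (uu b x.1.2) := by
  rw [← sub_eq_add_neg]; rfl

theorem C_skew {a b : S.Γ} (x : K a b) : C a b x x + frob S.hF (C a b x x) = 0 := by
  have h1 : uu a x.1.1 + uu b x.1.2 = 0 := x.2
  have h2 : S.B (uu a x.1.1 + uu b x.1.2) (uu a x.1.1 + uu b x.1.2) = 0 := by rw [h1, map_zero]
  simp only [map_add, LinearMap.add_apply] at h2
  rw [C_apply]
  simp only [map_add, map_neg, S.h.symm]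
  linear_combination h2 - uu_iso a x.1.1 - uu_iso b x.1.2

end Hs

open Hs in
theorem jobZ (gs : JobGs) : JobZ := fun S => by
  classical
  obtain ⟨k, ρ, ψ, hρ, hψ, h⟩ := exists_rep S
  have := Fintype.ofFinite (Hs S)
  have := Fintype.ofFinite S.V
  have hT : ∀ g, T ρ (act S) g =
      Fintype.card S.F • ∑ v, ρ ⟨uu g v, -S.B (uu g v) v⟩ := fun g => by
    rw [T, ← sum_v]
    exact Finset.sum_congr rfl fun h _ => by rw [act_mul_inv]
  refine isCharacter ρ (act S) (κ := Fintype.card S.F) S.two_le_q Fintype.card_ne_zero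
    (d := fun g => finrank S.F (LinearMap.ker (uu g))) ?_ card (by simpa using h 1) (fun g => ?_)
    fun a b => ?_
  · rw [show uu (1 : S.Γ) = 0 from sub_self _, LinearMap.ker_zero, finrank_top]
  · rw [hT, map_nsmul, map_sum, Finset.sum_congr rfl
      (g := fun v => if v ∈ LinearMap.ker (uu g) then (S.q : ℂ) ^ S.n else 0) fun v _ => by
        refine (h _).trans (if_ctx_congr Iff.rfl (fun e => ?_) fun _ => rfl)
        have e : uu g v = 0 := e
        simp only [e, map_zero, LinearMap.zero_apply, neg_zero, AddChar.map_zero_eq_one, mul_one],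
      ← Finset.sum_filter, Finset.sum_const, ← Fintype.card_subtype,
      ← Nat.card_eq_fintype_card (α := LinearMap.ker (uu g)), S.card_V]
    simp only [nsmul_eq_mul]
    push_cast
    ring
  · obtain ⟨m, hm⟩ := gs S.F S.q S.hF (K a b) (C a b) ψ C_skew hψ
    refine ⟨m, ?_⟩
    rw [finsum_eq_sum_of_fintype] at hm
    rw [hT, hT, smul_mul_smul_comm, map_nsmul, Finset.sum_mul_sum, ← Fintype.sum_prod_type', map_sum,
      ← hm, Finset.sum_congr rfl (g := fun x : S.V × S.V => if x ∈ K a b then (S.q : ℂ) ^ S.n *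
        ψ (-S.B (uu a x.1) x.1 + -S.B (uu b x.2) x.2 + S.B (uu a x.1) (uu b x.2)) else 0)
        fun x _ => by rw [← map_mul]; exact h _,
      ← Finset.sum_filter, Finset.sum_subtype (p := (· ∈ K a b)) _ (by simp), ← Finset.mul_sum]
    simp only [C_apply, nsmul_eq_mul]
    push_cast
    ring

end H29.WUZ
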