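import Cfsg.Agent.H87.XPT

/-! XP-B2b, part 1: linear algebra of Siegel transformations. -/

set_option autoImplicit false
set_option linter.unusedSectionVars false

namespace H29.XPB

variable {K V : Type*} [Field K] [AddCommGroup V] [Module K V] {ζ ν x y : V} {f f' : V →ₗ[K] K}
  {T T₁ T' R : V →ₗ[K] V}

/-- a hyperbolic pair with its coordinates -/
structure Bs (ζ ν : V) (f f' : V →ₗ[K] K) : Prop where
  fz : f ζ = 1
  fv : f ν = 0
  gz : f' ζ = 0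
  gv : f' ν = 1

theorem Bs.symm (b : Bs ζ ν f f') : Bs ν ζ f' f := ⟨b.gv, b.gz, b.fv, b.fz⟩

/-- a Siegel transformation with centre `ζ` -/
structure Un (ζ ν : V) (f f' : V →ₗ[K] K) (T : V →ₗ[K] V) : Prop where
  l1 : ∀ x, f' x = 0 → T x = x + f (T x - x) • ζ
  l2 : ∀ x, f' (T x - x) = 0
  z : T ζ = ζ
  hy : 2 * f (T ν - ν) = f (T (T ν - ν) - (T ν - ν))

def bb (f : V →ₗ[K] K) (T : V →ₗ[K] V) : V →ₗ[K] K := f ∘ₗ (T - LinearMap.id)

theorem bb_def : bb f T x = f (T x - x) := rfl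

def nn (ζ ν : V) (f : V →ₗ[K] K) (T : V →ₗ[K] V) : V := T ν - ν - bb f T ν • ζ

theorem nn_f (b : Bs ζ ν f f') : f (nn ζ ν f T) = 0 := by
  rw [nn, map_sub, map_smul, b.fz, bb_def, smul_eq_mul, mul_one, sub_self]

theorem nn_g (b : Bs ζ ν f f') (u : Un ζ ν f f' T) : f' (nn ζ ν f T) = 0 := by
  rw [nn, map_sub, map_smul, b.gz, u.l2, smul_zero, sub_zero]

theorem Un.v (T : V →ₗ[K] V) : T ν = ν + nn ζ ν f T + bb f T ν • ζ := by rw [nn]; abel

theorem Un.m (u : Un ζ ν f f' T) (h : f' x = 0) : T x = x + bb f T x • ζ := u.l1 x h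

theorem Un.bz (u : Un ζ ν f f' T) : bb f T ζ = 0 := by rw [bb_def, u.z, sub_self, map_zero]

theorem Un.bn (u : Un ζ ν f f' T) : bb f T (nn ζ ν f T) = 2 * bb f T ν := by
  rw [nn, map_sub, map_smul, u.bz, smul_zero, sub_zero]
  exact u.hy.symm

theorem Un.vv (b : Bs ζ ν f f') (u : Un ζ ν f f' T) (T₁ : V →ₗ[K] V) (u₁ : Un ζ ν f f' T₁) :
    T (T₁ ν) = ν + nn ζ ν f T + nn ζ ν f T₁ +
      (bb f T ν + bb f T₁ ν + bb f T (nn ζ ν f T₁)) • ζ := by
  rw [Un.v (ζ := ζ) (f := f) T₁, map_add, map_add, map_smul, u.z, u.m (nn_g b u₁)]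
  conv_lhs => rw [Un.v (ζ := ζ) (f := f) T]
  module

theorem Un.sym (b : Bs ζ ν f f') (u : Un ζ ν f f' T) (u₁ : Un ζ ν f f' T₁)
    (c : T (T₁ ν) = T₁ (T ν)) : bb f T (nn ζ ν f T₁) = bb f T₁ (nn ζ ν f T) := by
  have := congrArg f c
  rw [u.vv b _ u₁, u₁.vv b _ u] at this
  simp only [map_add, map_smul, nn_f b, b.fz, smul_eq_mul] at this
  linear_combination this

theorem Un.nmul (b : Bs ζ ν f f') (u : Un ζ ν f f' T) (u₁ : Un ζ ν f f' T₁)
    (c : R ν = T (T₁ ν)) : nn ζ ν f R = nn ζ ν f T + nn ζ ν f T₁ := by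
  rw [nn, bb_def, c, u.vv b _ u₁]
  simp only [map_add, map_sub, map_smul, nn_f b, b.fz, smul_eq_mul]
  module

theorem Un.bmul (b : Bs ζ ν f f') (u : Un ζ ν f f' T) (u₁ : Un ζ ν f f' T₁) (h : f' x = 0)
    (c : R x = T (T₁ x)) : bb f R x = bb f T x + bb f T₁ x := by
  rw [bb_def, c, u₁.m h, map_add, map_smul, u.z, u.m h]
  simp only [map_add, map_sub, map_smul, b.fz, smul_eq_mul]
  ring

theorem cross (two : (2 : K) ≠ 0) (b : Bs ζ ν f f') (u : Un ζ ν f f' T) (u' : Un ν ζ f' f T')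
    (hR : ∀ x, R (T x) = x) (q : bb f T ν ≠ 0)
    (h : f (R ((2 : ℕ) • (T' (T ν) - T ν) - (T' (T' (T ν) - T ν) - (T' (T ν) - T ν)))) = 0) :
    bb f' T' (nn ζ ν f T) = bb f T (nn ν ζ f' T') := by
  set n := nn ζ ν f T
  set n' := nn ν ζ f' T'
  have e0 : T ν = ν + n + bb f T ν • ζ := Un.v T
  have e1 : T' ζ = ζ + n' + bb f' T' ζ • ν := Un.v T'
  have e2 : T' n = n + bb f' T' n • ν := u'.m (nn_f b)
  have e3 : T' n' = n' + (2 * bb f' T' ζ) • ν := u'.bn ▸ u'.m (nn_g b.symm u')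
  have e4 : T n = n + (2 * bb f T ν) • ζ := u.bn ▸ u.m (nn_g b u)
  have e5 : T n' = n' + bb f T n' • ζ := u.m (nn_f b.symm)
  have e6 : T' (T ν) - T ν = bb f T ν • n' + (bb f' T' n + bb f T ν * bb f' T' ζ) • ν := by
    rw [e0, map_add, map_add, map_smul, u'.z, e1, e2]; module
  have e7 : (2 : ℕ) • (T' (T ν) - T ν) - (T' (T' (T ν) - T ν) - (T' (T ν) - T ν)) =
      T ((2 * bb f' T' n) • (ν - n + bb f T ν • ζ) + (2 * bb f T ν) • (n' - bb f T n' • ζ)) := by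
    rw [e6]
    simp only [map_add, map_sub, map_smul, u.z, u'.z, e3, e4]
    rw [e5, e0]
    module
  rw [e7, hR] at h
  simp only [map_add, map_sub, map_smul, b.fz, b.fv, n, n', nn_f b, nn_g b.symm u', smul_eq_mul] at h
  refine mul_left_cancel₀ (mul_ne_zero two q) ?_
  linear_combination h

theorem weyl (two : (2 : K) ≠ 0) (b : Bs ζ ν f f') (u : Un ζ ν f f' T) (u' : Un ν ζ f' f T')
    (q : bb f T ν ≠ 0) (e : nn ν ζ f' T' = -(bb f T ν)⁻¹ • nn ζ ν f T)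
    (c : bb f' T' (nn ζ ν f T) = bb f T (nn ν ζ f' T')) :
    T' (T ν) = bb f T ν • ζ ∧ ∀ y, f y = 0 → f' y = 0 → bb f' T' y = -(bb f T ν)⁻¹ * bb f T y →
      T' (T y) = y - (bb f T y / bb f T ν) • nn ζ ν f T + bb f T y • ζ := by
  have c1 : bb f' T' (nn ζ ν f T) = -2 := by
    rw [c, e, map_smul, u.bn, smul_eq_mul]; field_simp
  have c2 : bb f' T' ζ = (bb f T ν)⁻¹ := mul_left_cancel₀ two (by
    rw [← u'.bn, e, map_smul, c1, smul_eq_mul]; ring)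
  have e1 : T' ζ = ζ + nn ν ζ f' T' + bb f' T' ζ • ν := Un.v T'
  rw [e, c2] at e1
  refine ⟨?_, fun y h1 h2 h3 => ?_⟩
  · conv_lhs => rw [Un.v (ζ := ζ) (f := f) T]
    rw [map_add, map_add, map_smul, u'.z, e1, u'.m (nn_f b), c1]
    match_scalars <;> field_simp <;> ring
  · rw [u.m h2, map_add, map_smul, e1, u'.m h1, h3]
    match_scalars <;> field_simp <;> ring

end H29.XPB
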