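import Cfsg.Agent.H29.XPB1

/-! XP-B2b, part 2: the action on `E` in linear coordinates. -/

set_option autoImplicit false
set_option linter.unusedSectionVars false

namespace H29.XPB
open _root_.Cfsg H92 H93 Subgroup H92.Es H92.P5 H87.F3 H87.XP
open scoped commutatorElement

universe u

variable {Ω : Type u} [Group Ω] [Finite Ω] {p : ℕ} [hp : Fact p.Prime] {V : Type} [AddCommGroup V]
  [Module (ZMod p) V] {π : Ω → V} {ρ : Ω → V →ₗ[ZMod p] V} {S Q Z E G M M' : Subgroup Ω}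
  {a g h v w y z : Ω} {f f' : V →ₗ[ZMod p] ZMod p}

/-- linear coordinates on `E` -/
structure Rp (p : ℕ) {V : Type} [AddCommGroup V] [Module (ZMod p) V] (E : Subgroup Ω) (π : Ω → V)
    (ρ : Ω → V →ₗ[ZMod p] V) : Prop where
  co : H9.Coord E ⊥ π
  act : ∀ g ∈ Nm E, ∀ y ∈ E, ρ g (π y) = π (g * y * g⁻¹)

theorem exists_rp (el : El p E ⊥) :
    ∃ (d : ℕ) (π : Ω → Fin d → ZMod p) (ρ : Ω → (Fin d → ZMod p) →ₗ[ZMod p] (Fin d → ZMod p)),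
      Rp p E π ρ := by
  obtain ⟨d, π, co, -⟩ := H9.exists_coord p (Q := E) (B := ⊥)
    (fun y hy z hz => com_of_tv (el.ab hy) hz) el.pw
  have : ∀ g : Ω, ∃ L : (Fin d → ZMod p) →ₗ[ZMod p] (Fin d → ZMod p),
      g ∈ Nm E → ∀ y ∈ E, L (π y) = π (g * y * g⁻¹) := fun g => by
    by_cases hg : g ∈ Nm E
    · obtain ⟨L, hL⟩ := co.exists_lin (p := p) (f := fun y => g * y * g⁻¹)
        (fun x _ y _ => conj_mul.symm) (fun y hy => conj_mem_of_Nm hg hy)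
        fun y _ hy => conj_mem_of_Nm (nm_bot g) hy
      exact ⟨L, fun _ => hL⟩
    · exact ⟨0, fun c => (hg c).elim⟩
  choose ρ hρ using this
  exact ⟨d, π, ρ, co, hρ⟩

theorem add_pow' {W : Type*} [AddCommGroup W] {F : Ω → W}
    (e : ∀ g ∈ Q, ∀ h ∈ Q, F (g * h) = F g + F h) (hg : g ∈ Q) (j : ℕ) : F (g ^ j) = j • F g := by
  induction j with
  | zero => simpa using e 1 (one_mem _) 1 (one_mem _)
  | succ j ih => rw [pow_succ, e _ (pow_mem hg j) _ hg, ih, succ_nsmul]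

namespace Rp
variable (r : Rp p E π ρ)
include r

theorem mul (hg : g ∈ Nm E) (hh : h ∈ Nm E) (x : V) : ρ (g * h) x = ρ g (ρ h x) := by
  obtain ⟨y, hy, rfl⟩ := r.co.surj x
  rw [r.act _ (mul_mem hg hh) y hy, r.act h hh y hy, r.act g hg _ (conj_mem_of_Nm hh hy)]
  congr 1; group

theorem ct (hg : g ∈ Ct E) (x : V) : ρ g x = x := by
  obtain ⟨y, hy, rfl⟩ := r.co.surj x
  rw [r.act g (Ct_le_Nm E hg) y hy, conj_eq_of_Ct hg hy]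

theorem inv (hg : g ∈ Nm E) (x : V) : ρ g⁻¹ (ρ g x) = x := by
  rw [← r.mul (inv_mem hg) hg, inv_mul_cancel, r.ct (one_mem _)]

theorem com (hg : g ∈ Nm E) (hy : y ∈ E) : π ⁅g, y⁆ = ρ g (π y) - π y := by
  rw [commutatorElement_def, r.co.add _ (conj_mem_of_Nm hg hy) _ (inv_mem hy), r.co.inv hy,
    r.act g hg y hy, sub_eq_add_neg]

theorem comE (hg : g ∈ Nm E) (hy : y ∈ E) : ⁅g, y⁆ ∈ E :=
  mul_mem (conj_mem_of_Nm hg hy) (inv_mem hy)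

theorem inj (hy : y ∈ E) (hw : w ∈ E) (e : π y = π w) : y = w :=
  inv_mul_eq_one.1 (mem_bot.1 ((r.co.eq_iff hy hw).1 e))

theorem memZ (hz : z ∈ E) (hy : y ∈ E) : y ∈ zpowers z ↔ ∃ k : ZMod p, π y = k • π z := by
  refine ⟨?_, fun ⟨k, e⟩ => ⟨k.val, r.inj (zpow_mem hz _) hy ?_⟩⟩
  · rintro ⟨k, rfl⟩
    exact ⟨k, by rw [r.co.zpow hz, Int.cast_smul_eq_zsmul]⟩
  · rw [r.co.zpow hz, e, ← Int.cast_smul_eq_zsmul (ZMod p), Int.cast_natCast, ZMod.natCast_zmod_val]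

theorem exf (s : Sp p E M) (hv : v ∈ E) (nv : v ∉ M) :
    ∃ f : V →ₗ[ZMod p] ZMod p, f (π v) = 1 ∧ ∀ y ∈ E, f (π y) = 0 ↔ y ∈ M := by
  let N : AddSubgroup V :=
    { carrier := {x | ∃ m ∈ M, π m = x}
      zero_mem' := ⟨1, one_mem _, r.co.one⟩
      add_mem' := by
        rintro _ _ ⟨m, hm, rfl⟩ ⟨n, hn, rfl⟩
        exact ⟨_, mul_mem hm hn, r.co.add m (s.le hm) n (s.le hn)⟩
      neg_mem' := by
        rintro _ ⟨m, hm, rfl⟩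
        exact ⟨_, inv_mem hm, r.co.inv (s.le hm)⟩ }
  obtain ⟨f, h1, h2⟩ := LinearMap.exists_extend_of_notMem
    (0 : (AddSubgroup.toZModSubmodule p N) →ₗ[ZMod p] ZMod p) (v := π v)
    (fun ⟨m, hm, e⟩ => nv (r.inj (s.le hm) hv e ▸ hm)) 1
  have h3 : ∀ y ∈ M, f (π y) = 0 := fun y hy =>
    congrArg (fun L : (AddSubgroup.toZModSubmodule p N) →ₗ[ZMod p] ZMod p => L ⟨π y, y, hy, rfl⟩) h1
  refine ⟨f, h2, fun y hy => ⟨fun e => ?_, h3 y⟩⟩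
  obtain ⟨k, hk⟩ := s.dec hv nv hy
  have := h3 _ hk
  rw [r.co.inv_mul (zpow_mem hv k) hy, r.co.zpow hv, map_sub, e, map_zsmul, h2, zero_sub,
    neg_eq_zero, zsmul_eq_mul, mul_one] at this
  rwa [r.inj (zpow_mem hv k) (one_mem _) (by
    rw [r.co.zpow hv, ← Int.cast_smul_eq_zsmul (ZMod p), this, zero_smul, r.co.one]), inv_one,
    one_mul] at hk

theorem hyp (hg : g ∈ Nm E) (hw : w ∈ E) : π (⁅g, w⁆ ^ 2 * ⁅g, ⁅g, w⁆⁆⁻¹) =
    (2 : ℕ) • (ρ g (π w) - π w) - (ρ g (ρ g (π w) - π w) - (ρ g (π w) - π w)) := by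
  have m := r.comE hg hw
  rw [r.co.add _ (pow_mem m 2) _ (inv_mem (r.comE hg m)), r.co.pow m, r.co.inv (r.comE hg m),
    r.com hg m, r.com hg hw, ← sub_eq_add_neg]

end Rp

/-- the action of `Q` on `E` -/
structure Sd (E Q M Z : Subgroup Ω) : Prop where
  nm : Q ≤ Nm E
  lM : M ≤ E
  c0 : Q ≤ Ct Z
  c1 : ∀ g ∈ Q, ∀ m ∈ M, ⁅g, m⁆ ∈ Z
  c2 : ∀ g ∈ Q, ∀ e ∈ E, ⁅g, e⁆ ∈ M
  surj : ∀ w ∈ E, w ∉ M → ∀ m ∈ M, ∃ g ∈ Q, m⁻¹ * ⁅g, w⁆ ∈ Z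

theorem com_cj' (a x y : Ω) : a⁻¹ * ⁅x, y⁆ * a = ⁅a⁻¹ * x * a, a⁻¹ * y * a⁆ := by
  simp only [commutatorElement_def]; group

theorem Sd.cj (s : Sd E Q M Z) (ha : a ∈ Nm E) : Sd E (cj a Q) (cj a M) (cj a Z) where
  nm := by rw [← cj_eq_of_Nm ha, ← cj_Nm]; exact cj_mono a s.nm
  lM := by rw [← cj_eq_of_Nm ha]; exact cj_mono a s.lM
  c0 := by rw [← cj_Ct]; exact cj_mono a s.c0
  c1 g hg m hm := mem_cj.2 (com_cj' a g m ▸ s.c1 _ (mem_cj.1 hg) _ (mem_cj.1 hm))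
  c2 g hg e he := mem_cj.2 (com_cj' a g e ▸ s.c2 _ (mem_cj.1 hg) _ (conj_mem_of_Nm' ha he))
  surj w hw n m hm := by
    obtain ⟨g, hg, e⟩ := s.surj _ (conj_mem_of_Nm' ha hw) (fun c => n (mem_cj.2 c)) _ (mem_cj.1 hm)
    refine ⟨_, conj_mem_cj a hg, mem_cj.2 ?_⟩
    convert e using 1
    simp only [commutatorElement_def]; group

section
variable (r : Rp p E π ρ) (s : Sd E Q M Z) (eZ : Z = zpowers z) (hz : z ∈ E) (hv : v ∈ E)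
  (b : Bs (π z) (π v) f f') (hf : ∀ y ∈ E, f (π y) = 0 ↔ y ∈ M')
  (hf' : ∀ y ∈ E, f' (π y) = 0 ↔ y ∈ M)
include r s eZ hz hv b hf hf'

theorem Sd.un (hg : g ∈ Q) (e : ⁅g, v⁆ ^ 2 * ⁅g, ⁅g, v⁆⁆⁻¹ ∈ M') : Un (π z) (π v) f f' (ρ g) where
  l1 x hx := by
    obtain ⟨y, hy, rfl⟩ := r.co.surj x
    obtain ⟨k, hk⟩ := (r.memZ hz (r.comE (s.nm hg) hy)).1 (eZ ▸ s.c1 g hg y ((hf' y hy).1 hx))
    rw [r.com (s.nm hg) hy] at hk
    rw [hk, map_smul, b.fz, smul_eq_mul, mul_one, ← hk, add_sub_cancel]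
  l2 x := by
    obtain ⟨y, hy, rfl⟩ := r.co.surj x
    rw [← r.com (s.nm hg) hy]
    exact (hf' _ (r.comE (s.nm hg) hy)).2 (s.c2 g hg y hy)
  z := by rw [r.act g (s.nm hg) z hz, conj_eq_of_Ct (s.c0 hg) (eZ ▸ mem_zpowers z)]
  hy := by
    have m := r.comE (s.nm hg) hv
    have := (hf _ (mul_mem (pow_mem m 2) (inv_mem (r.comE (s.nm hg) m)))).2 e
    rw [r.hyp (s.nm hg) hv, map_sub, map_nsmul, sub_eq_zero, nsmul_eq_mul] at this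
    exact_mod_cast this

theorem Sd.onto {x : V} (h1 : f x = 0) (h2 : f' x = 0) : ∃ g ∈ Q, nn (π z) (π v) f (ρ g) = x := by
  obtain ⟨y, hy, rfl⟩ := r.co.surj x
  obtain ⟨g, hg, e⟩ := s.surj v hv (fun c => one_ne_zero (b.gv.symm.trans ((hf' v hv).2 c))) y
    ((hf' y hy).1 h2)
  have m := r.comE (s.nm hg) hv
  obtain ⟨k, hk⟩ := (r.memZ hz (mul_mem (inv_mem hy) m)).1 (eZ ▸ e)
  rw [r.co.inv_mul hy m, r.com (s.nm hg) hv, sub_eq_iff_eq_add] at hk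
  refine ⟨g, hg, ?_⟩
  rw [nn, bb_def, hk, map_add, map_smul, b.fz, h1, smul_eq_mul, mul_one, add_zero, add_sub_cancel_left]

end

theorem CB_sM (h : CB p S Q Z E G a v) : Sp p E (E ⊓ Q) := by
  have hv : v ∈ E := cj_eq_of_Nm (h.nm h.ha) ▸ cj_mono a h.zE (h.ev ▸ mem_zpowers v)
  refine (sp_of_card_le (h.pg.to_le h.lE) inf_le_left ?_).resolve_left fun c => h.nv (c ▸ hv).2
  have := relIndex_le_of_le_right (H := Q) h.lE index_ne_zero_of_finite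
  rw [h.sp.idx] at this
  rw [← card_mul_index ((E ⊓ Q).subgroupOf E), Nat.card_congr (subgroupOfEquivOfLe inf_le_left).toEquiv,
    mul_comm]
  exact Nat.mul_le_mul_right _ ((inf_relIndex_left E Q).le.trans this)

theorem CB_sd (h : CB p S Q Z E G a v) (h' : CB' p Q Z E G) : Sd E Q (E ⊓ Q) Z := by
  have nm : Q ≤ Nm E := h.lQ.trans h.nE
  have c2 : ∀ g ∈ Q, ∀ e ∈ E, ⁅g, e⁆ ∈ E ⊓ Q := fun g hg e he =>
    mem_inf.2 ⟨mul_mem (conj_mem_of_Nm (nm hg) he) (inv_mem he), com_symm (h.com_Q (h.lE he) hg)⟩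
  refine ⟨nm, inf_le_left, h.lQ.trans h.cen, fun g hg m hm => h.com hg hm.2, c2, fun w hw n m hm => ?_⟩
  obtain ⟨d, κ, co, e⟩ := H9.exists_coord p (Q := E ⊓ Q) (B := Z)
    (fun y hy z hz => h.com hy.2 hz.2) fun y hy => h.pw y hy.2
  have cM : Nat.card ↥(E ⊓ Q) = p ^ 3 := (CB_sM h).card_down h'.cE
  let ψ : Q →* Multiplicative (Fin d → ZMod p) :=
    MonoidHom.mk' (fun g => Multiplicative.ofAdd (κ ⁅(g : Ω), w⁆)) fun g g' => by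
      have m' := c2 _ g'.2 w hw
      have m2 : (g : Ω) * ⁅(g' : Ω), w⁆ * (g : Ω)⁻¹ ∈ E ⊓ Q :=
        mem_inf.2 ⟨conj_mem_of_Nm (nm g.2) m'.1, mul_mem (mul_mem g.2 m'.2) (inv_mem g.2)⟩
      rw [← ofAdd_add, coe_mul, com_mul, co.add _ m2 _ (c2 _ g.2 w hw), add_comm,
        ← (co.eq_iff m' m2).2 (tv_apply (h.tv g.2) m'.2)]
  have k1 : ψ.ker = (E ⊓ Q).subgroupOf Q := Subgroup.ext fun g => by
    rw [MonoidHom.mem_ker, mem_subgroupOf]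
    refine ((co.ker _ (c2 _ g.2 w hw))).trans ⟨fun c => ⟨?_, g.2⟩, fun c => ?_⟩
    · by_contra ng
      exact h'.ani g g.2 ng w hw (fun c => n ⟨hw, c⟩) (h.com_Z (h.lQ g.2) c)
    · rw [com_ct (h.el.ct c.1) hw]; exact one_mem _
  have k2 : Nat.card ψ.range = Nat.card (Multiplicative (Fin d → ZMod p)) := by
    have a1 := card_mul_index ψ.ker
    rw [index_ker, k1, Nat.card_congr (subgroupOfEquivOfLe inf_le_right).toEquiv, cM, h'.cQ] at a1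
    have a2 := card_mul_index (Z.subgroupOf (E ⊓ Q))
    rw [Nat.card_congr (subgroupOfEquivOfLe (le_inf h.zE h.lZ)).toEquiv, cM, h.cZ] at a2
    rw [Nat.card_congr Multiplicative.toAdd, ← co.relIndex]
    refine Nat.eq_of_mul_eq_mul_left (pow_pos hp.out.pos 3) ?_
    rw [a1, show p ^ 3 * Z.relIndex (E ⊓ Q) = p ^ 2 * (p * (Z.subgroupOf (E ⊓ Q)).index) by
      rw [relIndex]; ring, a2]; ring
  obtain ⟨g, hg⟩ := (eq_top_of_card_eq _ k2).ge (mem_top (Multiplicative.ofAdd (κ m)))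
  exact ⟨g, g.2, (co.eq_iff hm (c2 _ g.2 w hw)).1 (Multiplicative.ofAdd.injective hg).symm⟩

end H29.XPB
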