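import Cfsg.Agent.H29.XPB2

/-! XP-B2b: the exponent of `Q` in case B2. -/

set_option autoImplicit false
set_option linter.unusedSectionVars false

namespace H29.XPB
open _root_.Cfsg H92 H93 Subgroup H92.Es H92.P5 H87.F3 H87.XP
open scoped commutatorElement

universe u

variable {Ω : Type u} [Group Ω] [Finite Ω] {p : ℕ} [hp : Fact p.Prime] {V : Type} [AddCommGroup V]
  [Module (ZMod p) V] {π : Ω → V} {ρ : Ω → V →ₗ[ZMod p] V} {S Q Z E G : Subgroup Ω}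
  {a g g' v w y z : Ω} {f f' : V →ₗ[ZMod p] ZMod p}

/-- all data -/
structure Al (p : ℕ) [Fact p.Prime] {V : Type} [AddCommGroup V] [Module (ZMod p) V]
    (S Q Z E G : Subgroup Ω) (a v z : Ω) (π : Ω → V) (ρ : Ω → V →ₗ[ZMod p] V)
    (f f' : V →ₗ[ZMod p] ZMod p) : Prop extends CB p S Q Z E G a v, CB' p Q Z E G, Rp p E π ρ,
    Bs (π z) (π v) f f' where
  eZ : Z = zpowers z
  hf : ∀ y ∈ E, f (π y) = 0 ↔ y ∈ cj a (E ⊓ Q)
  hf' : ∀ y ∈ E, f' (π y) = 0 ↔ y ∈ E ⊓ Q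

theorem CB_na (h : CB p S Q Z E G a v) : a ∉ Nm Z := fun c =>
  h.nv (h.lZ (cj_eq_of_Nm c ▸ h.ev ▸ mem_zpowers v))

theorem CB_v (h : CB p S Q Z E G a v) : v ∈ E :=
  cj_eq_of_Nm (h.nm h.ha) ▸ cj_mono a h.zE (h.ev ▸ mem_zpowers v)

theorem two_ne (h : p ≠ 2) : (2 : ZMod p) ≠ 0 := fun c =>
  h ((Nat.prime_dvd_prime_iff_eq hp.out Nat.prime_two).1 ((ZMod.natCast_eq_zero_iff 2 p).1 c))

namespace Al
variable (h : Al p S Q Z E G a v z π ρ f f')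
include h

theorem hz : z ∈ E := h.zE (h.eZ ▸ mem_zpowers z)
theorem sd : Sd E Q (E ⊓ Q) Z := CB_sd h.toCB h.toCB'
theorem sd' : Sd E (cj a Q) (cj a (E ⊓ Q)) (cj a Z) := h.sd.cj (h.nm h.ha)
theorem SG : S ≤ G := fun _ hs => h.le ⟨hs, h.nE hs⟩
theorem QG : cj a Q ≤ G := cj_le_of_mem h.ha (h.lQ.trans h.SG)

theorem un (hg : g ∈ Q) : Un (π z) (π v) f f' (ρ g) :=
  h.sd.un h.toRp h.eZ h.hz (CB_v h.toCB) h.toBs h.hf h.hf' hg
    (h.toCB'.hyp a h.ha (CB_na h.toCB) v (h.ev ▸ mem_zpowers v) g hg)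

theorem hyp' {b : Ω} (hb : b ∈ G) (n : a⁻¹ * b ∉ Nm Z) (hw : w ∈ cj b Z) (hg : g ∈ cj a Q) :
    ⁅g, w⁆ ^ 2 * ⁅g, ⁅g, w⁆⁆⁻¹ ∈ cj b (E ⊓ Q) := by
  have := h.toCB'.hyp _ (mul_mem (inv_mem h.ha) hb) n (a⁻¹ * w * a)
    (by rw [cj_mul, mem_cj_inv]; simpa [mul_assoc] using hw) _ (mem_cj.1 hg)
  rw [cj_mul, mem_cj_inv] at this
  convert this using 1
  simp only [commutatorElement_def, sq]; group

theorem un' (hg : g ∈ cj a Q) : Un (π v) (π z) f' f (ρ g) :=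
  h.sd'.un h.toRp h.ev (CB_v h.toCB) h.hz h.toBs.symm h.hf' h.hf hg (by
    have := h.hyp' (one_mem _) (by simpa using CB_na h.toCB) (w := z)
      (by rw [cj_one, h.eZ]; exact mem_zpowers z) hg
    rwa [cj_one] at this)

theorem comm_iff (hg : g ∈ Q) (hy : y ∈ E ⊓ Q) : ⁅g, y⁆ = 1 ↔ bb f (ρ g) (π y) = 0 := by
  have e : π ⁅g, y⁆ = bb f (ρ g) (π y) • π z := by
    rw [h.toRp.com (h.sd.nm hg) hy.1, sub_eq_iff_eq_add', ← (h.un hg).m ((h.hf' y hy.1).2 hy)]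
  refine ⟨fun c => ?_, fun c => h.toRp.inj (h.toRp.comE (h.sd.nm hg) hy.1) (one_mem _)
    (by rw [e, c, zero_smul, h.co.one])⟩
  have := congrArg f e
  rwa [c, h.co.one, map_zero, map_smul, h.fz, smul_eq_mul, mul_one, eq_comm] at this

theorem bc (hg : g ∈ Q) (hg' : g' ∈ Q) :
    bb f (ρ g) (π ⁅g', v⁆) = bb f (ρ g) (nn (π z) (π v) f (ρ g')) := by
  rw [nn, map_sub _ _ (_ • _), map_smul, (h.un hg).bz, smul_zero, sub_zero,
    h.toRp.com (h.sd.nm hg') (CB_v h.toCB)]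

theorem qne (hg : g ∈ Q) (n : g ∉ E) : bb f (ρ g) (π v) ≠ 0 := fun c =>
  h.ani g hg n v (CB_v h.toCB) h.nv ((h.comm_iff hg (h.sd.c2 g hg v (CB_v h.toCB))).2
    (by rw [h.bc hg hg, (h.un hg).bn, c, mul_zero]))

theorem sym (hg : g ∈ Q) (hg' : g' ∈ Q) :
    bb f (ρ g) (nn (π z) (π v) f (ρ g')) = bb f (ρ g') (nn (π z) (π v) f (ρ g)) :=
  Un.sym h.toBs (h.un hg) (h.un hg') (by
    have c := h.el.ct (h.zE (h.toXS.com hg hg'))
    rw [← h.toRp.mul (h.sd.nm hg) (h.sd.nm hg'), ← h.toRp.mul (h.sd.nm hg') (h.sd.nm hg),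
      show g * g' = ⁅g, g'⁆ * (g' * g) by simp only [commutatorElement_def]; group,
      h.toRp.mul (Ct_le_Nm E c) (h.sd.nm (mul_mem hg' hg)), h.toRp.ct c])

theorem crs (hg : g ∈ Q) (n : g ∉ E) (hg' : g' ∈ cj a Q) :
    bb f' (ρ g') (nn (π z) (π v) f (ρ g)) = bb f (ρ g) (nn (π v) (π z) f' (ρ g')) := by
  have gE := h.sd.nm hg
  have hw := conj_mem_of_Nm gE (CB_v h.toCB)
  refine cross (two_ne h.odd) h.toBs (h.un hg) (h.un' hg') (h.toRp.inv gE) (h.qne hg n) ?_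
  have m := h.hyp' (mul_mem (h.SG (h.lQ hg)) h.ha) (fun c => CB_na h.toCB
    (h.se a h.ha g ⟨h.lQ hg, gE⟩ n (by simpa [mul_assoc] using conj_mem_Nm_cj a c))) (w := g * v * g⁻¹)
    (by rw [cj_mul, h.ev]; exact conj_mem_cj g (mem_zpowers v)) hg'
  have mE := cj_eq_of_Nm (mul_mem gE (h.nm h.ha)) ▸ cj_mono (g * a) inf_le_left m
  rw [cj_mul, mem_cj] at m
  rw [h.act g gE v (CB_v h.toCB), ← h.toRp.hyp (h.sd'.nm hg') hw, h.act _ (inv_mem gE) _ mE, inv_inv]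
  exact (h.hf _ (conj_mem_of_Nm' gE mE)).2 m

theorem refl (hg : g ∈ Q) (n : g ∉ E) : ∃ t ∈ G, ρ t (π v) = bb f (ρ g) (π v) • π z ∧
    ∀ y, f y = 0 → f' y = 0 → ρ t y = y - (bb f (ρ g) y / bb f (ρ g) (π v)) •
      nn (π z) (π v) f (ρ g) + bb f (ρ g) y • π z := by
  obtain ⟨g', hg', e⟩ := h.sd'.onto h.toRp h.ev (CB_v h.toCB) h.hz h.toBs.symm h.hf' h.hf
    (x := -(bb f (ρ g) (π v))⁻¹ • nn (π z) (π v) f (ρ g))
    (by rw [map_smul, nn_g h.toBs (h.un hg), smul_zero]) (by rw [map_smul, nn_f h.toBs, smul_zero])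
  obtain ⟨w1, w2⟩ := weyl (two_ne h.odd) h.toBs (h.un hg) (h.un' hg') (h.qne hg n) e (h.crs hg n hg')
  refine ⟨g' * g, mul_mem (h.QG hg') (h.SG (h.lQ hg)),
    (h.toRp.mul (h.sd'.nm hg') (h.sd.nm hg) _).trans w1, fun y h1 h2 =>
    (h.toRp.mul (h.sd'.nm hg') (h.sd.nm hg) _).trans (w2 y h1 h2 ?_)⟩
  obtain ⟨x, hx, rfl⟩ := h.sd.onto h.toRp h.eZ h.hz (CB_v h.toCB) h.toBs h.hf h.hf' h1 h2
  by_cases c : x ∈ E
  · simp [nn, bb_def, h.toRp.ct (h.el.ct c)]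
  · rw [h.crs hx c hg', e, map_smul, h.sym hx hg, smul_eq_mul]

theorem pair : ∃ g₁ ∈ Q, ∃ g₂ ∈ Q, g₁ ∉ E ∧ g₂ ∉ E ∧ ⁅g₂, ⁅g₁, v⁆⁆ = 1 ∧
    ∀ y ∈ E ⊓ Q, ⁅g₁, y⁆ = 1 → ⁅g₂, y⁆ = 1 → y ∈ Z := by
  have cM : Nat.card ↥(E ⊓ Q) = p ^ 3 := (CB_sM h.toCB).card_down h.cE
  have lt : ∀ X : Subgroup Ω, X ≤ Q → p ^ 4 ≤ Nat.card X → ∃ g ∈ X, g ∉ E := fun X l c => by
    by_contra n
    push Not at n
    have := c.trans (card_le_of_le (le_inf n l))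
    rw [cM, Nat.pow_le_pow_iff_right hp.out.one_lt] at this
    omega
  obtain ⟨g₁, h1, n1⟩ := lt Q le_rfl (h.cQ ▸ Nat.pow_le_pow_right hp.out.pos (by omega))
  have m1 := h.sd.c2 g₁ h1 v (CB_v h.toCB)
  have c1 := h.card_ct' le_rfl m1.2
  rw [h.cQ, pow_succ'] at c1
  have c2 := Nat.le_of_mul_le_mul_left c1 hp.out.pos
  obtain ⟨g₂, h2, n2⟩ := lt _ inf_le_left c2
  have n3 : g₁ ∉ Q ⊓ Ct (zpowers ⁅g₁, v⁆) := fun c =>
    h.ani g₁ h1 n1 v (CB_v h.toCB) h.nv (ct_zp.1 c.2)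
  have s1 : Sp p Q (Q ⊓ Ct (zpowers ⁅g₁, v⁆)) :=
    (sp_of_card_le (h.pg.to_le h.lQ) inf_le_left (h.card_ct' le_rfl m1.2)).resolve_left
      fun c => n3 (c ▸ h1)
  have s2 : Sp p (Q ⊓ Ct (zpowers ⁅g₁, v⁆)) (E ⊓ Q) := sp_of h.pg (inf_le_left.trans h.lQ)
    (fun y hy => ⟨hy.2, ct_zp.2 (com_ct (h.el.ct hy.1) m1.1)⟩) (s1.card_down h.cQ) cM
  refine ⟨g₁, h1, g₂, h2.1, n1, n2, ct_zp.1 h2.2, fun y hy e1 e2 => h.ctr ⟨hy.2, ?_⟩⟩
  exact s1.ct_of (s2.ct_of (Ct_anti inf_le_left (h.el.ct hy.1)) h2 (fun c => n2 c.1)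
    (mem_bot.1 (com_symm (mem_bot.2 e2)))) h1 n3 (mem_bot.1 (com_symm (mem_bot.2 e1)))

theorem tor : ∃ t ∈ G, (∃ μ : ZMod p, ρ t (π z) = μ • π z) ∧
    ∀ x, f' x = 0 → ∃ k : ZMod p, ρ t x = -x + k • π z := by
  obtain ⟨g₁, h1, g₂, h2, n1, n2, o, sp⟩ := h.pair
  obtain ⟨r₁, m1, a1, b1⟩ := h.refl h1 n1
  obtain ⟨r₂, m2, a2, b2⟩ := h.refl h2 n2
  have q1 := h.qne h1 n1
  have q2 := h.qne h2 n2
  have two := two_ne h.odd
  have o2 : bb f (ρ g₂) (nn (π z) (π v) f (ρ g₁)) = 0 :=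
    h.bc h2 h1 ▸ (h.comm_iff h2 (h.sd.c2 g₁ h1 v (CB_v h.toCB))).1 o
  have o1 : bb f (ρ g₁) (nn (π z) (π v) f (ρ g₂)) = 0 := (h.sym h1 h2).trans o2
  have u1 := h.un h1
  have u2 := h.un h2
  have f1 := nn_f (T := ρ g₁) h.toBs
  have f2 := nn_f (T := ρ g₂) h.toBs
  have k1 := nn_g h.toBs u1
  have k2 := nn_g h.toBs u2
  have d1 := u1.bn
  have d2 := u2.bn
  generalize nn (π z) (π v) f (ρ g₁) = n₁ at *
  generalize nn (π z) (π v) f (ρ g₂) = n₂ at *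
  have key : ∀ x, ρ (r₁ * r₂⁻¹) (ρ r₂ x) = ρ r₁ x := fun x => by
    rw [h.toRp.mul (h.nm m1) (inv_mem (h.nm m2)), h.toRp.inv (h.nm m2)]
  have kz : ρ (r₁ * r₂⁻¹) (π z) = (bb f (ρ g₁) (π v) / bb f (ρ g₂) (π v)) • π z := by
    have := key (π v)
    rw [a1, a2, map_smul] at this
    rw [div_eq_inv_mul, mul_smul, ← this, smul_smul, inv_mul_cancel₀ q2, one_smul]
  have span : ∀ y, f y = 0 → f' y = 0 → y = (bb f (ρ g₁) y / (2 * bb f (ρ g₁) (π v))) • n₁ +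
      (bb f (ρ g₂) y / (2 * bb f (ρ g₂) (π v))) • n₂ := fun y e1 e2 => by
    obtain ⟨m, hm, e⟩ := h.co.surj (y - ((bb f (ρ g₁) y / (2 * bb f (ρ g₁) (π v))) • n₁ +
      (bb f (ρ g₂) y / (2 * bb f (ρ g₂) (π v))) • n₂))
    have mM := (h.hf' m hm).1 (by rw [e]; simp [e2, k1, k2])
    have := sp m mM ((h.comm_iff h1 mM).2 (by
      rw [e]; simp only [map_sub, map_add, map_smul, d1, o1, smul_eq_mul]; field_simp; ring))
      ((h.comm_iff h2 mM).2 (by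
      rw [e]; simp only [map_sub, map_add, map_smul, d2, o2, smul_eq_mul]; field_simp; ring))
    obtain ⟨k, hk⟩ := (h.toRp.memZ h.hz hm).1 (h.eZ ▸ this)
    have c := congrArg f hk
    rw [e, map_smul, h.fz, smul_eq_mul, mul_one] at c
    simp only [map_sub, map_add, map_smul, e1, f1, f2, smul_zero, add_zero, sub_zero] at c
    rw [hk, ← c, zero_smul] at e
    exact sub_eq_zero.1 e.symm
  refine ⟨r₁ * r₂⁻¹, mul_mem m1 (inv_mem m2), ⟨_, kz⟩, fun x hx => ?_⟩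
  have s0 := span (x - f x • π z) (by simp [h.fz]) (by simp [hx, h.gz])
  generalize bb f (ρ g₁) (x - f x • π z) / (2 * bb f (ρ g₁) (π v)) = α at s0
  generalize bb f (ρ g₂) (x - f x • π z) / (2 * bb f (ρ g₂) (π v)) = β at s0
  have ex : x = α • n₁ + β • n₂ + f x • π z := by rw [← s0]; abel
  have y1 : f (α • n₁ - β • n₂) = 0 := by simp [f1, f2]
  have y2 : f' (α • n₁ - β • n₂) = 0 := by simp [k1, k2]
  have c1 := b1 _ y1 y2
  have c2 := b2 _ y1 y2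
  simp only [map_sub (bb f _), map_smul (bb f _), d1, d2, o1, o2, smul_eq_mul] at c1 c2
  have c3 : x = ρ r₂ (α • n₁ - β • n₂) + (f x + β * (2 * bb f (ρ g₂) (π v))) • π z := by
    rw [c2]; conv_lhs => rw [ex]
    match_scalars <;> field_simp <;> ring
  refine ⟨f x + α * (2 * bb f (ρ g₁) (π v)) + (f x + β * (2 * bb f (ρ g₂) (π v))) *
    (bb f (ρ g₁) (π v) / bb f (ρ g₂) (π v)), ?_⟩
  conv_lhs => rw [c3, map_add, key, c1, map_smul, kz]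
  conv_rhs => rw [ex]
  simp only [map_add, map_smul, f1, f2, h.fz, smul_eq_mul]
  match_scalars <;> field_simp <;> ring

theorem fin (hg : g ∈ Q) : g ^ p = 1 := by
  by_cases n : g ∈ E
  · exact mem_bot.1 (h.el.pw g n)
  obtain ⟨t, ht, ⟨μ, t1⟩, t2⟩ := h.tor
  have tE := h.nm ht
  have hv := CB_v h.toCB
  have tZ : t ∈ Nm Z := mem_Nm_of_le (by
    rw [h.eZ, cj_zpowers, zpowers_le]
    exact (h.toRp.memZ h.hz (conj_mem_of_Nm tE h.hz)).2 ⟨μ, (h.act t tE z h.hz).symm.trans t1⟩)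
  have tM : t ∈ Nm (E ⊓ Q) := mem_Nm_of_conj fun y hy => (h.hf' _ (conj_mem_of_Nm tE hy.1)).1 (by
    obtain ⟨k, e⟩ := t2 _ ((h.hf' y hy.1).2 hy)
    rw [← h.act t tE y hy.1, e, map_add, map_neg, map_smul, h.gz, (h.hf' y hy.1).2 hy]; simp)
  have nM : S ≤ Nm (E ⊓ Q) := fun s hs => mem_Nm_inf (h.nE hs) (h.toXS.nQ hs)
  obtain ⟨c, hc, e⟩ := h.ext h.nE t ht [E ⊓ Q, Z] (by
    intro B hB
    simp only [List.mem_cons, List.not_mem_nil, or_false] at hB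
    rcases hB with rfl | rfl
    · exact ⟨inf_le_left, tM⟩
    · exact ⟨h.zE, tZ⟩) fun s hs => by
    refine ⟨(CB_sM h.toCB).tv h.pg h.lE hs (h.nE hs) (nM hs), ?_, h.cen hs⟩
    have l : S ≤ Tv (E ⊓ Q) Z := by
      rw [← h.sp.eq_of (K := Q ⊔ E) le_sup_left (sup_le h.lQ h.lE) fun c => h.toLX.nQ (le_sup_right.trans c)]
      exact sup_le (h.tv.trans (Tv_anti inf_le_right Z))
        fun y hy => mem_Tv_of_Ct (Ct_anti inf_le_left (h.el.ct hy)) (h.nZ (h.lE hy))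
    exact l hs
  have cE : c ∈ Nm E := Nm_of_div_Ct tE e
  have cQ : c ∈ Nm Q := h.toXS.nm_Q (h.lE hv) (by
    have := card_le_of_le (show Q ⊓ Cm v Z ≤ E ⊓ Q from fun y hy => ⟨h.toCB.inj y hy.1 hy.2.2, hy.1⟩)
    rw [(CB_sM h.toCB).card_down h.cE] at this
    rw [h.cQ]
    calc p * _ ≤ p * p ^ 3 := Nat.mul_le_mul_left _ this
      _ < p ^ 5 := by rw [← pow_succ']; exact Nat.pow_lt_pow_right hp.out.one_lt (by omega)) hc
  have rc : ∀ x, ρ c x = ρ t x := fun x => by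
    rw [← mul_inv_cancel_left t c, h.toRp.mul tE (Ct_le_Nm E e), h.toRp.ct e]
  have gs := conj_mem_of_Nm cQ hg
  have u := h.un hg
  have us := h.un gs
  have cc : ∀ x, ρ (c * g * c⁻¹) (ρ t x) = ρ t (ρ g x) := fun x => by
    rw [← rc, ← rc, ← h.toRp.mul (h.sd.nm gs) cE, inv_mul_cancel_right, h.toRp.mul cE (h.sd.nm hg)]
  have aN : ∀ a ∈ Q, ∀ b ∈ Q, nn (π z) (π v) f (ρ (a * b)) =
      nn (π z) (π v) f (ρ a) + nn (π z) (π v) f (ρ b) := fun a ha b hb =>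
    Un.nmul h.toBs (h.un ha) (h.un hb) (h.toRp.mul (h.sd.nm ha) (h.sd.nm hb) _)
  have aB : ∀ a ∈ Q, ∀ b ∈ Q, bb f (ρ (a * b)) (nn (π z) (π v) f (ρ g)) =
      bb f (ρ a) (nn (π z) (π v) f (ρ g)) + bb f (ρ b) (nn (π z) (π v) f (ρ g)) := fun a ha b hb =>
    Un.bmul h.toBs (h.un ha) (h.un hb) (nn_g h.toBs u) (h.toRp.mul (h.sd.nm ha) (h.sd.nm hb) _)
  obtain ⟨k, t3⟩ := t2 _ (nn_g h.toBs u)
  set κ := f' (ρ t (π v))
  have hm : f' (ρ t (π v) - κ • π v) = 0 := by simp [κ, h.gv]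
  -- the class of `g*^κ g` is trivial
  have e1 : κ • nn (π z) (π v) f (ρ (c * g * c⁻¹)) + nn (π z) (π v) f (ρ g) = 0 := by
    have a1 := cc (π v)
    have a2 := us.m hm
    rw [map_sub, map_smul, a1, Un.v (ζ := π z) (f := f) (ρ g), map_add, map_add, map_smul, t1, t3,
      Un.v (ζ := π z) (f := f) (ρ (c * g * c⁻¹))] at a2
    have a3 : κ • nn (π z) (π v) f (ρ (c * g * c⁻¹)) + nn (π z) (π v) f (ρ g) =
        (k + bb f (ρ g) (π v) * μ - κ * bb f (ρ (c * g * c⁻¹)) (π v) -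
          bb f (ρ (c * g * c⁻¹)) (ρ t (π v) - κ • π v)) • π z := by
      linear_combination (norm := module) (-1 : ZMod p) • a2
    have a4 := congrArg f a3
    rw [map_add, map_smul, nn_f h.toBs, nn_f h.toBs, map_smul, h.fz, smul_zero, add_zero, smul_eq_mul,
      mul_one] at a4
    rw [a3, ← a4, zero_smul]
  have ns : ∀ x : V, κ.val • x = κ • x := fun x => by
    rw [← Nat.cast_smul_eq_nsmul (ZMod p), ZMod.natCast_zmod_val]
  have uQ := mul_mem (pow_mem gs κ.val) hg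
  have uE : (c * g * c⁻¹) ^ κ.val * g ∈ E := h.toCB.inj _ uQ (by
    rw [h.eZ, h.toRp.memZ h.hz (h.toRp.comE (h.sd.nm uQ) hv), h.toRp.com (h.sd.nm uQ) hv]
    have := aN _ (pow_mem gs κ.val) _ hg
    rw [add_pow' (F := fun a => nn (π z) (π v) f (ρ a)) aN gs, ns, e1, nn, sub_eq_zero] at this
    exact ⟨_, this⟩)
  have e2 : κ * μ = 1 := by
    have a1 := aB _ (pow_mem gs κ.val) _ hg
    rw [add_pow' (F := fun a => bb f (ρ a) (nn (π z) (π v) f (ρ g))) aB gs, bb_def, h.toRp.ct (h.el.ct uE), sub_self, map_zero, nsmul_eq_mul,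
      ZMod.natCast_zmod_val, u.bn] at a1
    have a2 := congrArg f (cc (nn (π z) (π v) f (ρ g)))
    rw [t3, map_add, map_neg, map_smul, us.z, us.m (nn_g h.toBs u), u.m (nn_g h.toBs u), map_add (ρ t),
      map_smul (ρ t), t1, t3, u.bn] at a2
    simp only [map_add, map_neg, map_smul, nn_f h.toBs, h.fz, smul_eq_mul] at a2
    refine mul_left_cancel₀ (mul_ne_zero (two_ne h.odd) (h.qne hg n)) ?_
    linear_combination a1 - κ * a2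
  have pE := h.zE (h.toXS.pw g hg)
  obtain ⟨j, hj⟩ := (h.toRp.memZ h.hz pE).1 (h.eZ ▸ h.toXS.pw g hg)
  have e3 := congrArg π (h.pi_mul (pow_mem gs κ.val) hg)
  rw [mem_bot.1 (h.el.pw _ uE), ← pow_mul, mul_comm κ.val, pow_mul, conj_pow,
    h.co.add _ (pow_mem (conj_mem_of_Nm cE pE) _) _ pE, h.co.pow (conj_mem_of_Nm cE pE),
    ← h.act c cE _ pE, rc, hj, map_smul, t1, ns, h.co.one] at e3
  have e4 := congrArg f e3
  simp only [map_zero, map_add, map_smul, h.fz, smul_eq_mul] at e4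
  have e5 : j = 0 := mul_left_cancel₀ (two_ne h.odd) (by linear_combination -e4 - j * e2)
  exact h.toRp.inj pE (one_mem _) (by rw [hj, e5, zero_smul, h.co.one])

end Al

theorem jobB2b : JobB2b.{u} := by
  intro Ω _ _ p hp S Q Z E G a v h h' y hy
  obtain ⟨z, eZ⟩ := exists_zpowers_of_card hp.out h.cZ
  obtain ⟨d, π, ρ, r⟩ := exists_rp h.el
  have aE := h.nm h.ha
  have hz : z ∈ E := h.zE (eZ ▸ mem_zpowers z)
  have s' := (CB_sM h).cj a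
  rw [cj_eq_of_Nm aE] at s'
  obtain ⟨f, f1, f2⟩ := r.exf s' hz fun c => CB_na h (inv_mem_iff.1 (h'.out _ (inv_mem h.ha) (by
    rw [eZ, cj_zpowers, zpowers_le, inv_inv]; exact (mem_cj.1 c).2)))
  obtain ⟨f', g1, g2⟩ := r.exf (CB_sM h) (CB_v h) fun c => h.nv c.2
  have A : Al p S Q Z E G a v z π ρ f f' :=
    { h, h', r with
      fz := f1, gv := g1, eZ := eZ, hf := f2, hf' := g2
      fv := (f2 v (CB_v h)).2 (cj_mono a (le_inf h.zE h.lZ) (h.ev ▸ mem_zpowers v))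
      gz := (g2 z hz).2 ⟨hz, h.lZ (eZ ▸ mem_zpowers z)⟩ }
  exact A.fin hy

end H29.XPB
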