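import Cfsg.Agent.H64.YESpec
import Cfsg.Agent.H86.SPIKit

/-! STD-SP (row S3129), endgame, slot `NO`: the class of `t` does not meet `G₁` (orthogonal
models). -/

set_option autoImplicit false
set_option linter.unusedSectionVars false

namespace H29.YEN

open H64.SG (O2 Cz Cs Ns cjs Is2 Inv2 fx mem_Cz mem_fx is2_of_sq)
open Subgroup H67.SP
open H67.UA hiding Par
open H67.SA (la)
open H59.SO (Ind B0 cje)
open H86.SPI (hf_comm hf_self hf_smul_right' ac_TT TT_conj qq_conj qq_sq pp)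

universe u

section X

variable {n : ℕ} {F : Type} [Field F] [StarRing F] [TrivialStar F] [CharP F 2] [Finite F] [Par n F]
  [Base n F]

theorem tt_sq (v : Vn n F) : TT v * TT v = 1 := Tc_mul_self (hf_self v) (star_one F)

/-- Two transvections whose product is a transvection have the same centre. -/
theorem tl {u v w : Vn n F} (hu : u ≠ 0) (h : TT u * TT v = TT w) : ∃ a : F, v = a • u := by
  by_contra k
  have k1 : ¬ ∀ y, hf y u = 0 → hf y v = 0 := fun q => k (FW.dual u v hu q)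
  have hv : v ≠ 0 := fun q => k ⟨0, by rw [q, zero_smul]⟩
  have k2 : ¬ ∀ y, hf y v = 0 → hf y u = 0 := fun q => by
    obtain ⟨a, ha⟩ := FW.dual v u hv q
    have a0 : a ≠ 0 := fun q => hu (by rw [ha, q, zero_smul])
    exact k ⟨a⁻¹, by rw [ha, smul_smul, inv_mul_cancel₀ a0, one_smul]⟩
  push Not at k1 k2
  obtain ⟨y, y1, y2⟩ := k1
  obtain ⟨x, x1, x2⟩ := k2
  have h1 := congrArg (ac · y) h
  have h2 := congrArg (ac · x) h
  simp only [ac_mul, ac_TT, y1, x1, zero_smul, add_zero, hf_add_left, hf_smul_left, zero_add,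
    add_assoc, add_right_inj] at h1 h2
  have a0 : hf x w ≠ 0 := fun q => by
    rw [q, zero_smul] at h2
    exact hu ((smul_eq_zero.1 h2).resolve_left x2)
  refine k ⟨(hf y v)⁻¹ * (hf y w * (hf x w)⁻¹ * hf x u - hf y v * hf v u), funext fun i => ?_⟩
  have h3 := congrFun h1 i
  have h4 := congrFun h2 i
  simp only [Pi.add_apply, Pi.smul_apply, smul_eq_mul] at h3 h4 ⊢
  field_simp
  linear_combination hf x w * h3 - hf y w * h4

theorem tl' {u : Vn n F} (hu : u ≠ 0) {y : XU n F} (hy : y = 1 ∨ Lr y)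
    (h : TT u * y = 1 ∨ Lr (TT u * y)) : ∃ a : F, y = TT (a • u) := by
  rcases hy with rfl | ⟨v, -, rfl⟩
  · exact ⟨0, by simp⟩
  have : ∃ w, TT u * TT v = TT w := h.elim (fun q => ⟨0, by simpa using q⟩) fun ⟨w, _, q⟩ => ⟨w, q⟩
  obtain ⟨w, hw⟩ := this
  obtain ⟨a, rfl⟩ := tl hu hw
  exact ⟨a, rfl⟩

theorem cz_TT {v : Vn n F} (hv : v ≠ 0) {c : XU n F} : c ∈ Cz (TT v) ↔ ac c v = v := by
  rw [show Cz (TT v) = Stab v from FR.cz v 1 hv one_ne_zero, mem_Stab]

theorem tl_cz {x y c : XU n F} (hx : Lr x) (hy : y = 1 ∨ Lr y) (h : x * y = 1 ∨ Lr (x * y))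
    (hc : x * c = c * x) : y * c = c * y := by
  obtain ⟨u, hu, rfl⟩ := hx
  obtain ⟨a, rfl⟩ := tl' hu hy h
  have := TT_conj c (a • u)
  rw [ac_smul, (cz_TT hu).1 (mem_Cz.2 hc), mul_inv_eq_iff_eq_mul] at this
  exact this.symm

theorem tl_card {A : Subgroup (XU n F)} (h : ∀ a ∈ A, a = 1 ∨ Lr a) : Nat.card A ≤ Nat.card F := by
  have : ∃ u : Vn n F, ∀ y ∈ A, ∃ a : F, y = TT (a • u) := by
    by_cases k : ∀ a ∈ A, a = 1
    · exact ⟨0, fun y hy => ⟨0, by simp [k y hy]⟩⟩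
    push Not at k
    obtain ⟨x, hx, x1⟩ := k
    obtain ⟨u, hu, rfl⟩ := (h x hx).resolve_left x1
    exact ⟨u, fun y hy => tl' hu (h y hy) (h _ (mul_mem hx hy))⟩
  obtain ⟨u, hu⟩ := this
  choose f hf using fun y : A => hu y y.2
  exact Nat.card_le_card_of_injective f fun a b q => Subtype.ext (by rw [hf a, hf b, q])

theorem cz_perf {x : XU n F} (hx : Lr x) : Cz x ≤ ⁅Cz x, Cz x⁆ := by
  obtain ⟨u, hu, rfl⟩ := hx
  rw [show Cz (TT u) = Stab u from FR.cz u 1 hu one_ne_zero]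
  exact FR.perf u hu

/-- An involution is a product of transvections with centres in `[V, u]`. -/
theorem mem_of_TT (A : Subgroup (XU n F)) (m : ℕ) : ∀ u : XU n F, {v | ac u v ≠ v}.ncard < m →
    u * u = 1 → (∀ y, TT (ac u y + y) ∈ A) → u ∈ A := by
  induction m with
  | zero => exact fun u h => absurd h (Nat.not_lt_zero _)
  | succ m ih =>
  intro u hm uu hA
  by_cases u1 : ∀ y, ac u y = y
  · rw [show u = 1 from ac_ext fun y => by rw [u1, ac_one]]; exact one_mem _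
  have fixN : ∀ y, ac u (ac u y + y) = ac u y + y := fun y => by
    rw [ac_add, ← ac_mul, uu, ac_one, add_comm]
  have sym : ∀ z y, hf z (ac u y + y) = hf (ac u z + z) y := fun z y => by
    rw [hf_add_left, hf_add_right, hf_ac_left, inv_eq_of_mul_eq_one_right uu]
  have perp : ∀ z y, ac u z = z → hf z (ac u y + y) = 0 := fun z y q => by
    rw [sym, q, v_add_self, hf_zero_left]
  have step : ∀ p ∈ A, p * p = 1 → u * p * u⁻¹ = p → (∀ z, ∃ z', ac p z = z + (ac u z' + z')) →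
      (∀ z, ac u z = z → ac p z = z) → ∀ y, ac u y ≠ y → ac p y = ac u y → u ∈ A := by
    intro p hp pp up h1 h2 y y1 y2
    have h4 : {v | ac (u * p) v ≠ v} ⊂ {v | ac u v ≠ v} :=
      ⟨fun z (hz : ac (u * p) z ≠ z) (q : ac u z = z) => hz (by rw [ac_mul, h2 z q, q]),
        fun q => (q y1 : ac (u * p) y ≠ y) (by rw [ac_mul, y2, ← ac_mul, uu, ac_one])⟩
    have h3 : u * p ∈ A := ih _ (lt_of_lt_of_le (Set.ncard_lt_ncard h4 (Set.toFinite _))
      (Nat.lt_succ_iff.1 hm)) (by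
      rw [mul_inv_eq_iff_eq_mul] at up
      rw [mul_assoc, ← mul_assoc p, ← up, mul_assoc, pp, mul_one, uu]) fun z => by
      obtain ⟨z', hz⟩ := h1 z
      have := hA (z + z')
      rw [ac_add, add_add_add_comm] at this
      rwa [ac_mul, hz, ac_add, fixN, add_right_comm]
    simpa using mul_mem h3 (inv_mem hp)
  have canc : ∀ y, y + (ac u y + y) = ac u y := fun y => by
    rw [add_comm (ac u y), ← add_assoc, v_add_self, zero_add]
  by_cases alt : ∀ y, hf y (ac u y + y) = 0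
  · push Not at u1
    obtain ⟨y, hy⟩ := u1
    have h0 : ac u y + y ≠ 0 := fun q => hy (by rw [← canc, q, add_zero])
    obtain ⟨x, hx⟩ := FW.sep 1 ![ac u y + y] (by simpa using h0) ![1]
    have h1 : hf x (ac u y + y) = 1 := hx 0
    have h2 := perp _ x (fixN y)
    refine step (qq (ac u x + x) (ac u y + y)) ?_ (qq_sq (perp _ y (fixN x))) ?_ (fun z => ?_)
      (fun z q => ?_) y hy ?_
    · rw [qq_eq_TT (pp h2)]
      have := hA (y + x)
      rw [ac_add, add_add_add_comm] at this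
      exact mul_mem (mul_mem this (hA y)) (hA x)
    · rw [qq_conj _ (perp _ y (fixN x)), fixN, fixN]
    · refine ⟨hf z (ac u x + x) • y + hf z (ac u y + y) • x, ?_⟩
      rw [ac_qq (pp h2), ac_add, ac_smul, ac_smul, smul_add, smul_add]
      abel
    · rw [ac_qq (pp h2), perp z x q, perp z y q]; simp
    · rw [ac_qq (pp h2), alt y, sym y x, hf_comm _ x, h1, one_smul, zero_smul, add_zero, canc]
  · push Not at alt
    obtain ⟨y0, h0⟩ := alt
    obtain ⟨y, hy⟩ : ∃ y, hf y (ac u y + y) = 1 := ⟨rt (hf y0 (ac u y0 + y0))⁻¹ • y0, by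
      rw [ac_smul, ← smul_add, hf_smul_left, hf_smul_right', ← mul_assoc, ← pow_two, rt_sq,
        inv_mul_cancel₀ h0]⟩
    refine step _ (hA y) (tt_sq _) (by rw [TT_conj, fixN]) (fun z => ⟨hf z (ac u y + y) • y, ?_⟩)
      (fun z q => ?_) y (fun q => ?_) ?_
    · rw [ac_TT, ac_smul, ← smul_add]
    · rw [ac_TT, perp z y q]; simp
    · rw [perp y y q] at hy; exact zero_ne_one hy
    · rw [ac_TT, hy, one_smul, canc]

/-- Lang's theorem for an outer involution. -/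
theorem lang [FO n F] {χ : MulAut (XU n F)} (h2 : χ * χ = 1) (ho : ∀ g, χ ≠ MulAut.conj g)
    {z : XU n F} (hz : χ z = z) (z2 : z * z = 1) : ∃ l, z = l * (χ l)⁻¹ := by
  obtain ⟨o, ko⟩ := FA.out (n := n) (F := F)
  have f1 : fs n F 1 = 1 := by
    have := FA.fs_mul (n := n) (F := F) 1 1
    rwa [one_mul, left_eq_mul] at this
  have o1 : ∀ g, o (MulAut.conj g) = 1 := fun g => by simpa [f1] using ko g 1
  have o2 : ∀ g σ, o (MulAut.conj g * fs n F σ * (MulAut.conj g)⁻¹) = σ := fun g σ => by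
    rw [map_mul, ko, map_inv, o1, inv_one, mul_one]
  have cj : ∀ l, χ * MulAut.conj l * χ⁻¹ = MulAut.conj (χ l) := fun l => by
    ext a; simp
  obtain ⟨g, σ, -, -, h3⟩ := FO.std χ h2 ho
  obtain ⟨g', σ', -, -, h4⟩ := FO.std (MulAut.conj z * χ) (by
    have := cj z
    rw [hz, mul_inv_eq_iff_eq_mul] at this
    rw [mul_assoc, ← mul_assoc χ, this, mul_assoc, h2, mul_one, ← map_mul, z2, map_one])
    fun a q => ho (z⁻¹ * a) (by rw [map_mul, ← q, map_inv, inv_mul_cancel_left])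
  have h5 : σ' = σ := by rw [← o2 g' σ', ← h4, map_mul, o1, one_mul, h3, o2]
  refine ⟨g' * g⁻¹, FA.ns.conj_inj ?_⟩
  rw [map_mul, map_inv, ← cj, eq_mul_inv_of_mul_eq h4, h5, map_mul, map_inv]
  have h6 : fs n F σ = (MulAut.conj g)⁻¹ * χ * MulAut.conj g := by rw [h3]; group
  rw [h6]; group

end X

section Amb

variable {n : ℕ} {F : Type} [Field F] [StarRing F] [TrivialStar F] [CharP F 2] [Finite F] [Par n F]
  [Base n F] [FC n F] [FO n F] {G : Type u} [Group G] [Finite G] {e e' : XU n F →* G} {a b : G}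

/-- The fusion pattern `T ∩ t L = t {1, b₁}`. -/
structure W (e : XU n F →* G) (t : G) : Prop extends B0 e t where
  gd : ∀ u, IsConj t (t * e u) → u = 1 ∨ Lr u
  tx : ∀ u, Lr u → IsConj t (t * e u)

theorem W.ex (h : W e a) (c : IsConj a b) : ∃ e' : XU n F →* G, W e' b := by
  obtain ⟨g, rfl⟩ := isConj_iff.1 c
  have k : ∀ u, IsConj (a * e u) (g * a * g⁻¹ * cje g e u) := fun u =>
    isConj_iff.2 ⟨g, by rw [H59.SO.cje_apply, conj_mul]⟩
  exact ⟨cje g e, h.toB0.cje g, fun u q => h.gd u ((c.trans q).trans (k u).symm),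
    fun u q => (c.symm.trans (h.tx u q)).trans (k u)⟩

theorem W.nm (h : W e a) : a ∉ e.range := h.toB1.not_mem FA.ns

/-- Case (ii) is symmetric. -/
theorem W.sym (h : W e a) (h' : W e' b) (c : IsConj a b) {u : XU n F} (q : b = a * e u)
    (u1 : u ≠ 1) : (Cz u).map e ≤ e'.range := by
  refine (ab h'.toB0).pf _ ?_ ?_
  · rintro _ ⟨x, hx, rfl⟩
    rw [mem_Cz, q, mul_assoc, ← map_mul, mem_Cz.1 hx, map_mul, ← mul_assoc, h.toB1.comm, mul_assoc]
  · rw [← map_commutator]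
    exact map_mono (cz_perf ((h.gd u (q ▸ c)).resolve_left u1))

theorem W.sym' (h : W e a) (h' : W e' b) (c : IsConj a b) {u : XU n F} (q : b = a * e u) :
    e u ∈ e'.range := by
  by_cases u1 : u = 1
  · rw [u1, map_one]; exact one_mem _
  · exact h.sym h' c q u1 ⟨u, mem_Cz.2 rfl, rfl⟩

/-- Case (iii) does not occur. -/
theorem W.inn (h : W e a) (h' : W e' b) {χ : MulAut (XU n F)} (i : Ind e b χ) :
    ∃ g, χ = MulAut.conj g := by
  by_contra ho
  push Not at ho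
  have h2 := i.sq h.inj h'.inv.1
  have h3 : (fx χ).map e ≤ e'.range := (ab h'.toB0).pf _ (by
    rw [i.map_fx h.inj]; exact inf_le_right) (by
    rw [← map_commutator]; exact map_mono (FO.a4 χ h2 ho))
  have key : ∀ z, χ z = z → z * z = 1 → ∃ z', e' z' = e z ∧ (z' = 1 ∨ Lr z') := fun z z1 z2 => by
    obtain ⟨z', hz⟩ := h3 ⟨z, mem_fx.2 z1, rfl⟩
    obtain ⟨l, hl⟩ := lang h2 ho z1 z2
    refine ⟨z', hz, h'.gd z' (isConj_iff.2 ⟨e l, ?_⟩)⟩
    rw [hz, i.comm z1, hl, map_mul, ← map_inv χ, ← i, map_inv]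
    group
  obtain ⟨g, σ, -, -, h4⟩ := FO.std χ h2 ho
  have fix : ∀ i : Fin (n + 1), χ (g * TT (ev i) * g⁻¹) = g * TT (ev i) * g⁻¹ := fun i => by
    have h5 : fs n F σ (TT (ev i)) = TT (ev i) := by
      rw [FA.fs_EE σ _ _ _ (hf_zero_left _), map_one]
      congr 1
      · ext j; rw [ev_apply]; split_ifs <;> simp
      · ext j; simp
    rw [h4]
    simp [h5, mul_assoc]
  have sq : ∀ v : Vn n F, g * TT v * g⁻¹ * (g * TT v * g⁻¹) = 1 := fun v => by
    rw [conj_mul, tt_sq, mul_one, mul_inv_cancel]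
  have five := Par.five (n := n) (F := F)
  have v1 : (1 : Fin (n + 1)).val = 1 := by rw [Fin.val_one', Nat.mod_eq_of_lt (by omega)]
  have cm : ∀ i j : Fin (n + 1), TT (ev i : Vn n F) * TT (ev j) = TT (ev j) * TT (ev i) ↔
      j ≠ i.rev := fun i j => by
    rw [← mem_Cz, cz_TT (ev_ne i), ac_TT, hf_ev, add_eq_left, smul_eq_zero, or_iff_left (ev_ne j)]
    simp
  have c01 := (cm 0 1).2 fun q => by
    have := congrArg Fin.val q
    rw [v1, Fin.val_rev] at this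
    simp at this; omega
  obtain ⟨z1, k1, l1⟩ := key _ (fix 0) (sq _)
  obtain ⟨z2, k2, l2⟩ := key _ (fix 1) (sq _)
  obtain ⟨z3, k3, -⟩ := key _ (fix (1 : Fin (n + 1)).rev) (sq _)
  obtain ⟨z4, k4, l4⟩ := key (g * TT (ev 0) * g⁻¹ * (g * TT (ev 1) * g⁻¹))
    (by rw [map_mul, fix, fix]) (by
      rw [conj_mul, conj_mul, mul_assoc (TT _), ← mul_assoc (TT (ev 1)), ← c01, mul_assoc (TT _),
        tt_sq, mul_one, tt_sq, mul_one, mul_inv_cancel])
  have h5 : z4 = z1 * z2 := h'.inj (by rw [k4, map_mul e', k1, k2, ← map_mul])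
  have tr : ∀ (x y : XU n F) (i j : Fin (n + 1)), e' x = e (g * TT (ev i) * g⁻¹) →
      e' y = e (g * TT (ev j) * g⁻¹) → (x * y = y * x ↔ j ≠ i.rev) := fun x y i j q1 q2 => by
    rw [← H59.SO.e_comm_iff h'.inj, q1, q2, H59.SO.e_comm_iff h.inj, conj_mul, conj_mul,
      mul_left_inj, mul_right_inj, cm]
  have h6 : z1 ≠ 1 := fun q => by
    obtain ⟨z5, k5, -⟩ := key _ (fix (0 : Fin (n + 1)).rev) (sq _)
    exact (tr z1 z5 0 _ k1 k5).1 (by rw [q, one_mul, mul_one]) rfl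
  refine (tr z2 z3 1 _ k2 k3).1 (tl_cz (l1.resolve_left h6) l2 (h5 ▸ l4)
    ((tr z1 z3 0 _ k1 k3).2 fun q => ?_)) rfl
  have := congrArg Fin.val (Fin.rev_injective q)
  rw [v1] at this
  simp at this

theorem W.tri (h : W e a) (h' : W e' b) (c : a * b = b * a) : ∃ u, b = e u ∨ b = a * e u := by
  obtain ⟨χ, i⟩ := H59.SO.exists_ind h.inj (h.cz (mem_Cz.2 c))
  obtain ⟨g, rfl⟩ := h.inn h' i
  exact ⟨g, (h.toB0.inner FA.ns c h'.inv.1 i).2⟩

/-- Case (i) does not occur. -/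
theorem W.nr (h : W e a) (u : XU n F) : ¬ IsConj a (e u) := fun c => by
  obtain ⟨es, hs⟩ := h.ex c
  have aa := h.inv.1
  have back : ∀ g, a * g ∈ e.range → g ∉ e.range := fun g q1 q2 =>
    h.nm (by simpa using mul_mem q1 (inv_mem q2))
  have h1 : a ∈ es.range := by
    obtain ⟨x, q | q⟩ := hs.tri h (h.toB1.comm u).symm
    · exact ⟨x, q.symm⟩
    · exact absurd (q ▸ mul_mem ⟨u, rfl⟩ (hs.sym' h c.symm q)) h.nm
  have uu : u * u = 1 := (H59.SO.sq_e h.inj).1 hs.inv.1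
  obtain ⟨y, hy⟩ : ∃ y, e (TT (ac u y + y)) ∉ es.range := by
    by_contra k
    push Not at k
    exact hs.nm (mem_of_TT (es.range.comap e) _ u (Nat.lt_succ_self _) uu k)
  generalize hv : ac u y + y = v at hy
  have v1 : TT v ≠ 1 := fun q => hy (by rw [q, map_one]; exact one_mem _)
  have v0 : v ≠ 0 := fun q => v1 (by simp [q])
  have uv : e u * e (TT v) = e (TT v) * e u := by
    rw [← map_mul, ← map_mul, mem_Cz.1 ((cz_TT v0).2 (by
      rw [← hv, ac_add, ← ac_mul, uu, ac_one, add_comm]))]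
  have cb := h.tx _ ⟨v, v0, rfl⟩
  obtain ⟨eb, hb⟩ := h.ex cb
  obtain ⟨x2, k2⟩ := h.sym' hb cb rfl
  obtain ⟨x, q | q⟩ := hs.tri hb (by
    rw [← mul_assoc, ← h.toB1.comm, mul_assoc, uv, mul_assoc])
  · exact hy (by simpa [← mul_assoc, aa] using mul_mem h1 (⟨x, q.symm⟩ : _ ∈ es.range))
  obtain ⟨x1, k1⟩ := hs.sym' hb (c.symm.trans cb) q
  have h2 : es x = e u * (a * e (TT v)) := by rw [q, ← mul_assoc, hs.inv.1, one_mul]
  have h3 := hb.sym h cb.symm (u := x2) (by rw [k2, mul_assoc, ← map_mul, tt_sq, map_one, mul_one])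
    (fun q => v1 (h.inj (by rw [← k2, q, map_one, map_one])))
    ⟨x1, mem_Cz.2 ((H59.SO.e_comm_iff hb.inj).1 (by
      rw [k1, k2, h2, ← mul_assoc, ← uv, mul_assoc, mul_assoc, ← mul_assoc (e (TT v)),
        ← h.toB1.comm])), rfl⟩
  rw [k1, h2, mul_mem_cancel_left (⟨u, rfl⟩ : e u ∈ e.range)] at h3
  exact back _ h3 ⟨_, rfl⟩

end Amb

theorem jobNO : H64.YE.JobNO.{u} := by
  intro n F _ _ _ _ _ _ G _ _ e t bs fc fo Y _ _ _ ι τ Gd U Φ e0 gd on ea y c
  have hk := e0.ker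
  have h : W e t := ⟨e0.toCE.b0, fun u q => (e0.gd u q).imp_right (gd u).1, fun u q => by
    obtain ⟨w, hw⟩ := ea.tx u (by obtain ⟨v, -, rfl⟩ := q; exact tt_sq v) ((gd u).2 q)
    exact isConj_iff.2 ⟨_, hw.symm⟩⟩
  obtain ⟨es, hs⟩ := h.ex c
  obtain ⟨y, yy, hy⟩ := H64.YE.exists_sq_range hk ⟨y, rfl⟩ hs.inv.1
  rw [← hy] at c hs
  by_cases mi : H64.YE.MI ι y
  · obtain ⟨w, u, rfl⟩ := mi
    refine h.nr u (c.trans (isConj_iff.2 ⟨(Φ w)⁻¹, ?_⟩))
    rw [map_mul, map_mul, map_inv, e0.res]; group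
  obtain ⟨A, hA, h1, h2⟩ := on y yy mi
  have h3 : O2 (Cz y) ≤ (O2 (Cz (Φ y))).comap Φ := (closure_le _).2 fun a ha =>
    subset_closure ⟨mem_Cz.2 (by rw [← map_mul, ← map_mul, mem_Cz.1 ha.1]),
      ha.2.of_dvd_nat (orderOf_map_dvd _ _)⟩
  have h4 : A.map Φ ≤ es.range := by
    rintro _ ⟨a, ha, rfl⟩
    exact (ab hs.toB0).ol _ (h3 (hA ha)) ((is2_of_sq (h2 a ha).1).map Φ)
  have h5 := tl_card (A := (A.map Φ).comap es) fun x ⟨a, ha, q⟩ =>
    hs.gd x (by rw [← q, ← map_mul]; exact Φ.map_isConj (h2 a ha).2)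
  rw [← H59.SO.card_map_e hs.inj, map_comap_eq_self h4, H64.YE.card_map2 hk
    (H64.SG.isPGroup_iff_is2.2 fun a ha => is2_of_sq (h2 a ha).1)] at h5
  exact absurd h1 (not_lt.2 h5)

end H29.YEN
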